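import Cfsg.Agent.Lib.Fus.Fi24Red.Basic
import Cfsg.Agent.Lib.Fus.LargeFischerOuter

/-!
A linear element fixing the tabled vector and commuting with the sixteen tabled maps is one of them on the space: as in
the setting of large Fischer type.
-/

set_option autoImplicit false
set_option maxRecDepth 100000
set_option linter.unusedSectionVars false
set_option linter.style.haveILetI false

open Cfsg Cfsg.Agent.Classical Cfsg.Agent.Spor Cfsg.Agent.Spor.Cos Cfsg.Agent.Spor.LargeFischer Matrix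
open Cfsg.Agent.Spor.USixTwo (K4 vecOf)
open Cfsg.Agent.Spor.U62U43 (cover62)
open Cfsg.Agent.Fus.LargeFischerBlocks Cfsg.Agent.Fus.LargeFischerOuter
open Cfsg.Agent.Fus.LargeFischerScalar (ω k4_facts k4_cases)

namespace Cfsg.Agent.Fus.Fi24Red

variable {G : Type*} [Group G] [Finite G] {z : G} {Q : Subgroup (Subgroup.centralizer ({z} : Set G))}
  [hQn : Q.Normal]

namespace Frame

variable (F : Frame z Q)

theorem act_scC (e : Subgroup.centralizer ({z} : Set G)) (he : F.Lin e) {k : ℕ} (hk : k < 3) :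
    ∀ (n : ℕ) {c c' : ℕ}, c < 4096 → c' < 4096 → F.act e (vecOf c) = vecOf c' →
      scC (dat k) n c < 4096 ∧ scC (dat k) n c' < 4096 ∧
        F.act e (vecOf (scC (dat k) n c)) = vecOf (scC (dat k) n c')
  | 0, _, _, hc, hc', h => ⟨hc, hc', h⟩
  | n + 1, c, c', hc, hc', h => by
    obtain ⟨a, b, e'⟩ := act_scC e he hk n hc hc' h
    obtain ⟨h1, l1⟩ := om_code hk a
    obtain ⟨h2, l2⟩ := om_code hk b
    exact ⟨l1, l2, by rw [scC, scC, ← h1, he, e', ← h2]⟩

theorem act_combC (e : Subgroup.centralizer ({z} : Set G)) (he : F.Lin e) {k : ℕ} (hk : k < 3) {c c' : ℕ}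
    (hc : c < 4096) (hc' : c' < 4096)
    (hK : ∀ i < 16, F.act e (ev (kgen k) ((dat k).kerW.getD i []) • vecOf c) =
      ev (kgen k) ((dat k).kerW.getD i []) • vecOf c') :
    ∀ l : List (ℕ × ℕ), (∀ p ∈ l, p.2 < 16) → combC (dat k) l c < 4096 ∧ combC (dat k) l c' < 4096 ∧
      F.act e (vecOf (combC (dat k) l c)) = vecOf (combC (dat k) l c')
  | [], _ => ⟨by norm_num [combC], by norm_num [combC], by simp only [combC, vecOf_zero, F.act_zero]⟩
  | p :: l, hl => by
    obtain ⟨a, b, e'⟩ := act_combC e he hk hc hc' hK l fun q hq => hl q (List.mem_cons_of_mem _ hq)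
    have hp := hl p (List.mem_cons_self ..)
    have hw : (dat k).kerW.getD p.2 [] ∈ (dat k).kerW := by
      rw [List.getD_eq_getElem _ _ (show p.2 < (dat k).kerW.length by rw [kerW_lt hk]; exact hp)]
      exact List.getElem_mem _
    haveI : IsClass k := ⟨hk⟩
    obtain ⟨w1, l1⟩ := word_act hk _ (fixW_gen hk (Or.inr hw)).1 c hc
    obtain ⟨w2, l2⟩ := word_act hk _ (fixW_gen hk (Or.inr hw)).1 c' hc'
    obtain ⟨s1, s2, s3⟩ := F.act_scC e he hk p.1 l1 l2 (by rw [← w1, hK _ hp, w2])
    exact ⟨Nat.xor_lt_two_pow (n := 12) s1 a, Nat.xor_lt_two_pow (n := 12) s2 b, by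
      rw [combC, combC, vecOf_xor, vecOf_xor, F.act_add, s3, e']⟩

theorem act_fixC (e : Subgroup.centralizer ({z} : Set G)) (he : F.Lin e) {k : ℕ} (hk : k < 3)
    (h2 : F.act e (LargeFischer.rep k 2) = LargeFischer.rep k 2) :
    ∀ l : List ℕ, F.act e (vecOf (fixC (dat k) l)) = vecOf (fixC (dat k) l)
  | [] => by simp only [fixC, vecOf_zero, F.act_zero]
  | p :: l => by
    obtain ⟨-, -, s3⟩ := F.act_scC e he hk p (v2_lt k) (v2_lt k) (by rw [← rep_two]; exact h2)
    rw [fixC, vecOf_xor, F.act_add, s3, act_fixC e he hk h2 l]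

/-- A linear map commuting with the sixteen maps and fixing the vector is one of them on the space. -/
theorem lin_is_ker (e : Subgroup.centralizer ({z} : Set G)) (he : F.Lin e)
    (h2 : F.act e (LargeFischer.rep F.k 2) = LargeFischer.rep F.k 2)
    (hcom : ∀ w ∈ (dat F.k).kerW, ∀ v : Fin 6 → K4, F.act e (ev (kgen F.k) w • v) = ev (kgen F.k) w • F.act e v)
    (hab : ∀ w ∈ (dat F.k).kerW, ∀ w' ∈ (dat F.k).kerW, ∀ v : Fin 6 → K4,
      ev (kgen F.k) w • ev (kgen F.k) w' • v = ev (kgen F.k) w' • ev (kgen F.k) w • v) :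
    ∃ w ∈ (dat F.k).kerW, ∀ v, F.act e v = ev (kgen F.k) w • v := by
  have hk := F.hk
  obtain ⟨hbit, hidx, hr, hy⟩ := cert F.k hk
  simp only [chkBit, chkIdx, Bool.and_eq_true, List.all_eq_true, List.mem_range, Nat.beq_eq, Nat.blt_eq,
    List.contains_iff_mem] at hbit hidx hr hy
  have hrl := wl_lt hk _ hr
  obtain ⟨hR1, hR2⟩ := (inW_code hk hrl).2 hr
  set y := enc6 (F.act e (vecOf (cR F.k))) with hydef
  have hyl : y < 4096 := enc6_lt _
  have hey : F.act e (vecOf (cR F.k)) = vecOf y := (vecOf_enc6 _).symm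
  have hyw : y ∈ (dat F.k).wl := (inW_code hk hyl).1 ⟨by rw [← hey, F.lab_act, hR1], by
    rw [← hey]
    conv_lhs => rw [← h2]
    rw [F.herm_lin he, hR2]⟩
  have hgetD : ∀ i < 16, (dat F.k).kerW.getD i [] ∈ (dat F.k).kerW := fun i hi => by
    rw [List.getD_eq_getElem _ _ (show i < (dat F.k).kerW.length by rw [kerW_lt hk]; exact hi)]
    exact List.getElem_mem _
  have hK : ∀ i < 16, F.act e (ev (kgen F.k) ((dat F.k).kerW.getD i []) • vecOf (cR F.k)) =
      ev (kgen F.k) ((dat F.k).kerW.getD i []) • vecOf y := fun i hi => by rw [hcom _ (hgetD i hi), hey]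
  have hY := hy y hyw
  simp only [chkY, Bool.or_eq_true, List.any_eq_true, Nat.beq_eq, Bool.not_eq_true'] at hY
  rcases hY with ⟨w, hw, hwy⟩ | ⟨cs, hcs, hne⟩
  swap
  · exfalso
    obtain ⟨a, b, hab'⟩ := F.act_combC e he hk hrl hyl hK cs fun p hp => hidx.1 cs hcs p hp
    have := F.lab_act e (vecOf (combC (dat F.k) cs (cR F.k)))
    rw [hab', labV, labV, enc6_vecOf a, enc6_vecOf b] at this
    rw [this] at hne
    simp at hne
  refine ⟨w, hw, ?_⟩
  obtain ⟨n, hn⟩ := F.exists_lin (word_mem hk w)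
  have hwy' : ev (kgen F.k) w • vecOf (cR F.k) = vecOf y := by rw [ev_wC_cases hk hrl hw, hwy]
  have hlinn : F.Lin (n : Subgroup.centralizer ({z} : Set G)) := F.lin_of_mem n.2
  have hn2 : F.act n (LargeFischer.rep F.k 2) = LargeFischer.rep F.k 2 := by
    haveI : IsClass F.k := ⟨hk⟩
    rw [F.lin_act, hn]; exact (mem_stab.1 (fixW_gen hk (Or.inr hw)).2).2
  have hKn : ∀ i < 16, F.act n (ev (kgen F.k) ((dat F.k).kerW.getD i []) • vecOf (cR F.k)) =
      ev (kgen F.k) ((dat F.k).kerW.getD i []) • vecOf y := fun i hi => by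
    rw [F.lin_act, hn, hab w hw _ (hgetD i hi), hwy']
  have hagree : ∀ i < 12, F.act e (vecOf (2 ^ i)) = ev (kgen F.k) w • vecOf (2 ^ i) := fun i hi => by
    have hq : ∀ p ∈ ((cBit F.k).getD i ([], [])).1, p.2 < 16 := by
      intro p hp
      rcases Nat.lt_or_ge i (cBit F.k).length with h | h
      · rw [List.getD_eq_getElem _ _ h] at hp
        exact hidx.2 _ (List.getElem_mem _) p hp
      · rw [List.getD_eq_default _ _ h] at hp
        simp at hp
    rw [← hn, ← F.lin_act, ← hbit i hi, vecOf_xor, F.act_add, F.act_add, F.act_fixC e he hk h2,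
      F.act_fixC n hlinn hk hn2, (F.act_combC e he hk hrl hyl hK _ hq).2.2,
      (F.act_combC n hlinn hk hrl hyl hKn _ hq).2.2]
  intro v
  have hadd : ∀ a b : Fin 6 → K4, (F.act e (a + b) + ev (kgen F.k) w • (a + b)) =
      (F.act e a + ev (kgen F.k) w • a) + (F.act e b + ev (kgen F.k) w • b) := fun a b => by
    rw [F.act_add, smul_add']; abel
  have h0 : AddMonoidHom.mk' (fun v => F.act e v + ev (kgen F.k) w • v) hadd (vecOf (enc6 v)) = 0 := by
    have hd : ∀ i, (List.replicate 12 0).getD i 0 = 0 := fun i => by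
      rcases Nat.lt_or_ge i 12 with hi | hi
      · interval_cases i <;> rfl
      · exact List.getD_eq_default _ _ (by simpa using hi)
    have hz : app (List.replicate 12 0) (enc6 v) = 0 := by simp [app, List.replicate]
    have hb : ∀ i < 12, AddMonoidHom.mk' (fun v => F.act e v + ev (kgen F.k) w • v) hadd (vecOf (2 ^ i)) =
        vecOf ((List.replicate 12 0).getD i 0) := fun i hi => by
      show F.act e (vecOf (2 ^ i)) + _ = _
      rw [hagree i hi, neg_self6, hd, vecOf_zero]
    rw [app_sound _ (l := List.replicate 12 0) List.length_replicate hb (enc6_lt v), hz, vecOf_zero]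
  rw [vecOf_enc6] at h0
  have h0' : F.act e v + ev (kgen F.k) w • v = 0 := h0
  calc F.act e v = F.act e v + (ev (kgen F.k) w • v + ev (kgen F.k) w • v) := by rw [neg_self6, add_zero]
    _ = _ := by rw [← add_assoc, h0', zero_add]

end Frame

end Cfsg.Agent.Fus.Fi24Red
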