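import Cfsg.Agent.Lib.Fus.Fi24Red.Bound
import Cfsg.Agent.Lib.Fus.Fi24Red.LinKer

/-!
A conjugate of `z` in the extraspecial group: the conjugate group contains a semilinear element squaring into the
extraspecial group, so the part inducing `3.U₄(3)` has index two or four, with elementary quotient.
-/

set_option autoImplicit false
set_option maxRecDepth 100000
set_option linter.style.haveILetI false
set_option linter.unusedSectionVars false

open Cfsg Cfsg.Agent.Classical Cfsg.Agent.Spor Cfsg.Agent.Spor.LargeFischer Matrix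
open Cfsg.Agent.Spor.USixTwo (K4)
open Cfsg.Agent.Spor.U62U43 (cover62)

namespace Cfsg.Agent.Fus.Fi24Red

variable {G : Type*} [Group G] [Finite G] {z : G} {Q : Subgroup (Subgroup.centralizer ({z} : Set G))}
  [hQn : Q.Normal]

namespace Frame

variable (F : Frame z Q) {g : G}

include F

/-- The label of a member of `Q`. -/
def lab (x : Q) : ℕ := labV F.k (F.rep x)

theorem card_PG : Nat.card (PG Q g) = 2 ^ 13 := by
  rw [Subgroup.card_map_of_injective (MulAut.conj g).injective, F.card_QG]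

theorem lab_conj (g : Subgroup.centralizer ({z} : Set G)) (x : Q) : F.lab (qconj g x) = F.lab x := by
  rw [lab, lab, ← F.act_rep, F.lab_act]

/-- The noncentral involutions have nonzero label. -/
theorem lab_invol {x : Q} (hx : x * x = 1) (h1 : gv x ≠ 1) (hz : gv x ≠ z) : F.lab x = 1 ∨ F.lab x = 2 := by
  refine lab_pos F.hk (fun e => ?_) ((F.herm_zero x).2 hx)
  rcases (F.rep_zero x).1 e with e | e
  exacts [h1 e, hz e]

theorem of_lab {x : Q} (h : F.lab x = 1 ∨ F.lab x = 2) : x * x = 1 ∧ gv x ≠ 1 ∧ gv x ≠ z := by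
  rcases lab_facts F.hk (F.rep x) with ⟨e, -⟩ | ⟨-, h0, hh⟩
  · simp only [lab] at h; omega
  · exact ⟨(F.herm_zero x).1 hh, fun e => h0 ((F.rep_zero x).2 (Or.inl e)), fun e => h0 ((F.rep_zero x).2 (Or.inr e))⟩

theorem noncentral {x : Q} (h : F.lab x = 1 ∨ F.lab x = 2) :
    ∃ q : Q, gv q * gv x * (gv q)⁻¹ = gv x * z := by
  obtain ⟨-, h1, hz⟩ := F.of_lab h
  have hx : gv x ∈ QG Q := mem_QG.2 ⟨x, rfl⟩
  by_contra hcon
  push Not at hcon
  have hall : ∀ q ∈ QG Q, q * gv x = gv x * q := fun q hq => by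
    obtain ⟨q, rfl⟩ := mem_QG.1 hq
    rcases F.ext.conj_cases hx hq with e | ⟨-, e⟩
    · exact e
    · exact absurd e (hcon q)
  exact (F.ext.cen _ hx hall).elim h1 hz

/-- Elements of `Q` with one isotropic image are conjugate. -/
theorem conj_of_rep {x y : Q} (h : F.lab y = 1 ∨ F.lab y = 2) {g : Subgroup.centralizer ({z} : Set G)}
    (e : F.act g (F.rep x) = F.rep y) :
    ∃ q : Q, ((q : Subgroup.centralizer ({z} : Set G)) * g : G) * gv x * ((q : Subgroup.centralizer ({z} : Set G)) * g : G)⁻¹ =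
      gv y := by
  rw [F.act_rep] at e
  rcases F.rep_eq e.symm with e' | e'
  · have e'' : (g : G) * gv x * (g : G)⁻¹ = gv y := e'
    exact ⟨1, by simpa using e''⟩
  · obtain ⟨q, hq⟩ := F.noncentral h
    refine ⟨q, ?_⟩
    have hqz : gv q * z * (gv q)⁻¹ = z := by
      rw [F.ext.central _ (mem_QG.2 ⟨q, rfl⟩), mul_inv_cancel_right]
    have e'' : (g : G) * gv x * (g : G)⁻¹ = gv y * z := e'
    calc _ = gv q * ((g : G) * gv x * (g : G)⁻¹) * (gv q)⁻¹ := by group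
      _ = gv q * (gv y * z) * (gv q)⁻¹ := by rw [e'']
      _ = (gv q * gv y * (gv q)⁻¹) * (gv q * z * (gv q)⁻¹) := by group
      _ = gv y := by rw [hq, hqz, mul_assoc, F.ext.zz, mul_one]

theorem conj_of_lab {x y : Q} (h : F.lab y = 1 ∨ F.lab y = 2) (he : F.lab x = F.lab y) :
    ∃ c : Subgroup.centralizer ({z} : Set G), c * (x : Subgroup.centralizer ({z} : Set G)) * c⁻¹ = y := by
  obtain ⟨a, ha, e⟩ := transitive F.hk (v := F.rep x) (w := F.rep y) (l := F.lab y) h he rfl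
  obtain ⟨b, rfl⟩ := F.exists_lin ha
  rw [← F.lin_act] at e
  obtain ⟨q, hq⟩ := F.conj_of_rep h e
  exact ⟨q * b, Subtype.ext (by simpa using hq)⟩

/-- The stabiliser of an image lifts to the centraliser. -/
theorem exists_centralizing {x : Q} (h : F.lab x = 1 ∨ F.lab x = 2) {a : SUV} (ha : a ∈ stab F.k (F.rep x)) :
    ∃ b : F.M, F.lin b = a ∧ ((b : Subgroup.centralizer ({z} : Set G)) : G) * gv x =
      gv x * ((b : Subgroup.centralizer ({z} : Set G)) : G) := by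
  obtain ⟨b, rfl⟩ := F.exists_lin (mem_stab.1 ha).1
  obtain ⟨q, hq⟩ := F.conj_of_rep (g := b) h (by rw [F.lin_act]; exact (mem_stab.1 ha).2)
  refine ⟨⟨q, F.M_le q.2⟩ * b, ?_, ?_⟩
  · rw [map_mul, (F.lin_eq_one _).2 q.2, one_mul]
  · exact mul_inv_eq_iff_eq_mul.1 hq

theorem z_mem_PG (hx : g * z * g⁻¹ ∈ QG Q) : z ∈ PG Q g := by
  refine F.ext.mem_pair hx (F.ext.exists_noncommuting hx ?_)
  rw [F.card_QG]; norm_num

theorem card_half (hx : g * z * g⁻¹ ∈ QG Q) (hne : g * z * g⁻¹ ≠ z) :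
    Nat.card ↥(PG Q g ⊓ Subgroup.centralizer ({z} : Set G)) = 2 ^ 12 := by
  have hz := F.z_mem_PG hx
  have hext := F.ext.map_conj g
  have h1 := hext.card_le_centralizing hz
  rw [F.card_PG] at h1
  have hlt : PG Q g ⊓ Subgroup.centralizer ({z} : Set G) ≠ PG Q g := fun e' => by
    rcases hext.cen z hz fun q hq => Subgroup.mem_centralizer_singleton_iff.1 (inf_eq_left.1 e' hq) with e'' | e''
    · exact F.ext.ne e''
    · exact hne e''.symm
  obtain ⟨j, hj, he⟩ := (Nat.dvd_prime_pow Nat.prime_two).1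
    (F.card_PG (g := g) ▸ Subgroup.card_dvd_of_le (inf_le_left : PG Q g ⊓ Subgroup.centralizer ({z} : Set G) ≤ PG Q g))
  have hj13 : j ≠ 13 := fun e' => hlt (Subgroup.eq_of_le_of_card_ge inf_le_left (by rw [he, e', F.card_PG]))
  have hj12 : 12 ≤ j := by
    by_contra hlt'
    have := Nat.pow_le_pow_right (show 0 < 2 by norm_num) (show j ≤ 11 by omega)
    rw [he] at h1; omega
  rw [he, show j = 12 by omega]

theorem inter_sq (hne : g * z * g⁻¹ ≠ z) : ∀ a ∈ QG Q ⊓ PG Q g, a * a = 1 := by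
  rintro a ⟨haQ, haP⟩
  rcases F.ext.sq a haQ with e' | e'
  · exact e'
  · rcases (F.ext.map_conj g).sq a haP with e'' | e''
    · exact e''
    · exact absurd (e''.symm.trans e') hne

theorem inter_comm (hne : g * z * g⁻¹ ≠ z) : ∀ a ∈ QG Q ⊓ PG Q g, ∀ b ∈ QG Q ⊓ PG Q g, a * b = b * a := by
  intro a ha b hb
  have h1 := F.inter_sq hne _ (mul_mem ha hb)
  calc a * b = (a * b)⁻¹ := (inv_eq_of_mul_eq_one_right h1).symm
    _ = b⁻¹ * a⁻¹ := mul_inv_rev a b
    _ = b * a := by rw [inv_eq_of_mul_eq_one_right (F.inter_sq hne b hb), inv_eq_of_mul_eq_one_right (F.inter_sq hne a ha)]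

theorem card_inter_le (hx : g * z * g⁻¹ ∈ QG Q) (hne : g * z * g⁻¹ ≠ z) : Nat.card ↥(QG Q ⊓ PG Q g) ≤ 2 ^ 7 := by
  have h1 := Spor.Leech.abelian_sq_le F.ext (D := QG Q ⊓ PG Q g) inf_le_left ⟨F.ext.mem, F.z_mem_PG hx⟩ (F.inter_comm hne)
    (F.inter_sq hne)
  rw [F.card_QG] at h1
  by_contra hgt
  have := Nat.mul_le_mul (Nat.succ_le_of_lt (not_le.1 hgt)) (Nat.succ_le_of_lt (not_le.1 hgt))
  generalize Nat.card ↥(QG Q ⊓ PG Q g) = d at h1 this
  norm_num at h1 this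
  omega

theorem card_Es (hx : g * z * g⁻¹ ∈ QG Q) (hne : g * z * g⁻¹ ≠ z) : Nat.card (Es Q g) = 2 ^ 12 := by
  rw [Es, Nat.card_congr (Subgroup.subgroupOfEquivOfLe inf_le_right).toEquiv, F.card_half hx hne]

theorem card_Es_M (hx : g * z * g⁻¹ ∈ QG Q) (hne : g * z * g⁻¹ ≠ z) :
    2 ^ 10 ≤ Nat.card ↥(Es Q g ⊓ F.M) := by
  haveI := F.M_normal
  have hr : F.M.relIndex (Es Q g) ∣ F.M.index := Subgroup.relIndex_dvd_index_of_normal F.M _
  have h2 : Nat.card (Es Q g) ≤ 4 * Nat.card ↥(Es Q g ⊓ F.M) := by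
    rw [← (F.M.subgroupOf (Es Q g)).card_mul_index, ← Subgroup.inf_subgroupOf_right,
      Nat.card_congr (Subgroup.subgroupOfEquivOfLe (inf_le_right : F.M ⊓ Es Q g ≤ Es Q g)).toEquiv,
      Subgroup.inf_subgroupOf_right, inf_comm, mul_comm]
    exact Nat.mul_le_mul_right _ (Nat.le_of_dvd (by norm_num) (hr.trans F.M_index_dvd))
  rw [F.card_Es hx hne] at h2
  omega

/-- The linear part of the conjugate group as a subgroup of the stabiliser. -/
theorem image_facts {s : Q} (hs : gv s = g * z * g⁻¹) (hlab : F.lab s = 1 ∨ F.lab s = 2) :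
    ((Es Q g ⊓ F.M).subgroupOf F.M).map F.lin ≤ stab F.k (F.rep s) ∧
      IsPGroup 2 (((Es Q g ⊓ F.M).subgroupOf F.M).map F.lin) ∧
      ∀ a ∈ stab F.k (F.rep s), ∀ b ∈ ((Es Q g ⊓ F.M).subgroupOf F.M).map F.lin,
        a * b * a⁻¹ ∈ ((Es Q g ⊓ F.M).subgroupOf F.M).map F.lin := by
  have hext := F.ext.map_conj g
  refine ⟨?_, ?_, ?_⟩
  · rintro _ ⟨b, ⟨hb, -⟩, rfl⟩
    refine mem_stab.2 ⟨F.lin_mem b, ?_⟩
    rw [← F.lin_act, F.act_rep]
    congr 1
    refine Subtype.ext (Subtype.ext ?_)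
    show ((b : Subgroup.centralizer ({z} : Set G)) : G) * gv s * ((b : Subgroup.centralizer ({z} : Set G)) : G)⁻¹ = gv s
    rw [hs, mul_inv_eq_iff_eq_mul]
    exact hext.central _ (mem_Es.1 hb)
  · refine IsPGroup.map ?_ _
    haveI : Fact (Nat.Prime 2) := ⟨Nat.prime_two⟩
    have hP : IsPGroup 2 (PG Q g) := IsPGroup.of_card (F.card_PG)
    refine hP.of_injective
      (MonoidHom.mk' (fun b => (⟨((b.1 : Subgroup.centralizer ({z} : Set G)) : G), mem_Es.1 b.2.1⟩ : PG Q g))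
        fun a b => rfl) fun a b h => Subtype.ext (Subtype.ext (Subtype.ext (congrArg Subtype.val h :)))
  · intro a ha b hb
    obtain ⟨c, rfl, hc⟩ := F.exists_centralizing hlab ha
    obtain ⟨d, ⟨hd, -⟩, rfl⟩ := hb
    refine ⟨c * d * c⁻¹, ⟨mem_Es.2 ?_, (c * d * c⁻¹).2⟩, by rw [map_mul, map_mul, map_inv]⟩
    rw [hs] at hc
    exact hext.norm _ hc _ (mem_Es.1 hd)

/-- A further conjugate of the centre lies over the long orbit. -/
theorem lab_of_conj {s : Q} (hs : gv s = g * z * g⁻¹) (hne : g * z * g⁻¹ ≠ z) : F.lab s = 2 := by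
  have hext := F.ext.map_conj g
  have hx : g * z * g⁻¹ ∈ QG Q := hs ▸ mem_QG.2 ⟨s, rfl⟩
  have hinv : s * s = 1 := Subtype.ext (Subtype.ext (by
    show gv s * gv s = 1
    rw [hs]; exact hext.zz))
  refine (F.lab_invol hinv (by rw [hs]; exact hext.ne) (by rw [hs]; exact hne)).resolve_left fun h1 => ?_
  obtain ⟨hle, hp, hn⟩ := F.image_facts hs (Or.inl h1)
  have hbot := no_two_normal F.hk h1 hle hp hn
  have hsub : Es Q g ⊓ F.M ≤ Es Q g ⊓ Q := fun a ha => by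
    refine ⟨ha.1, (F.lin_eq_one ⟨a, ha.2⟩).1 ?_⟩
    have : F.lin ⟨a, ha.2⟩ ∈ ((Es Q g ⊓ F.M).subgroupOf F.M).map F.lin := ⟨⟨a, ha.2⟩, ha, rfl⟩
    rwa [hbot, Subgroup.mem_bot] at this
  have h1' := (F.card_Es_M hx hne).trans (Subgroup.card_le_of_le hsub)
  rw [card_Es_inf] at h1'
  have := h1'.trans (F.card_inter_le hx hne)
  norm_num at this


open Cfsg.Agent.Spor.Cos Cfsg.Agent.Fus.LargeFischerBlocks in
/-- Some semilinear element squares into `Q`. -/
theorem exists_semi (hnwc : ∃ g₀ : G, g₀ * z * g₀⁻¹ ∈ QG Q ∧ g₀ * z * g₀⁻¹ ≠ z) :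
    ∃ e, e ∉ F.linPart ∧ e * e ∈ Q := by
  obtain ⟨g₀, hq₀, hne₀⟩ := hnwc
  obtain ⟨s₀, hs₀⟩ := mem_QG.1 hq₀
  have hk := F.hk
  haveI : IsClass F.k := ⟨hk⟩
  haveI := F.M_normal
  have l0 := F.lab_of_conj (s := s₀) (g := g₀) hs₀ hne₀
  obtain ⟨x2, hx2⟩ := F.rep_surj (LargeFischer.rep F.k 2)
  have lx : F.lab x2 = 2 := by rw [lab, hx2, (rep_first F.k hk).2]
  obtain ⟨c, hc⟩ := F.conj_of_lab (Or.inr lx) (l0.trans lx.symm)
  set g : G := (c : G) * g₀ with hg
  have hs : gv x2 = g * z * g⁻¹ := by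
    rw [show gv x2 = (c : G) * gv s₀ * (c : G)⁻¹ from (congrArg Subtype.val hc).symm,
      show gv s₀ = g₀ * z * g₀⁻¹ from hs₀, hg]
    group
  have hne : g * z * g⁻¹ ≠ z := fun e => (F.of_lab (Or.inr lx)).2.2 (hs.trans e)
  have hx : g * z * g⁻¹ ∈ QG Q := hs ▸ mem_QG.2 ⟨x2, rfl⟩
  have hext := F.ext.map_conj g
  have hsq : ∀ a ∈ Es Q g, a * a ∈ Q := fun a ha => by
    rcases hext.sq _ (mem_Es.1 ha) with e | e
    · rw [show a * a = 1 from Subtype.ext e]; exact one_mem _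
    · rw [show a * a = (x2 : Subgroup.centralizer ({z} : Set G)) from Subtype.ext (e.trans hs.symm)]; exact x2.2
  suffices h : ∃ e ∈ Es Q g, e ∉ F.linPart by
    obtain ⟨e, he, hel⟩ := h
    exact ⟨e, hel, hsq e he⟩
  by_contra hall
  push Not at hall
  set A := (Es Q g ⊓ F.M).subgroupOf F.M with hA
  have hcA : Nat.card A = Nat.card ↥(Es Q g ⊓ F.M) :=
    Nat.card_congr (Subgroup.subgroupOfEquivOfLe inf_le_right).toEquiv
  have hker : Nat.card ↥(A ⊓ F.lin.ker) ≤ 2 ^ 7 := by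
    refine le_trans ?_ ((card_Es_inf (Q := Q) (g := g)).trans_le (F.card_inter_le hx hne))
    refine Nat.card_le_card_of_injective
      (fun a => (⟨(a.1 : Subgroup.centralizer ({z} : Set G)), a.2.1.1, (F.lin_eq_one a.1).1 a.2.2⟩ :
        ↥(Es Q g ⊓ Q))) fun a b e => Subtype.ext (Subtype.ext
          (congrArg (fun t : ↥(Es Q g ⊓ Q) => (t : Subgroup.centralizer ({z} : Set G))) e))
  have hsplit := Spor.Leech.card_eq_ker_mul_map F.lin A
  have h12 := F.card_Es hx hne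
  have hr : F.M.relIndex (Es Q g) ≤ 2 := by
    refine (Subgroup.relIndex_le_of_le_right (show Es Q g ≤ F.linPart from hall) (fun e => ?_)).trans ?_
    · rcases F.linPart_relIndex with e' | e' <;> omega
    · rcases F.linPart_relIndex with e' | e' <;> omega
  have h11 : 2 ^ 11 ≤ Nat.card A := by
    have h2 : Nat.card (Es Q g) ≤ 2 * Nat.card ↥(Es Q g ⊓ F.M) := by
      rw [← (F.M.subgroupOf (Es Q g)).card_mul_index, ← Subgroup.inf_subgroupOf_right,
        Nat.card_congr (Subgroup.subgroupOfEquivOfLe (inf_le_right : F.M ⊓ Es Q g ≤ Es Q g)).toEquiv,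
        Subgroup.inf_subgroupOf_right, inf_comm, mul_comm]
      exact Nat.mul_le_mul_right _ hr
    rw [hcA]
    omega
  obtain ⟨hle, hp, hn⟩ := F.image_facts hs (Or.inr lx)
  rw [hx2] at hle hn
  rw [hsplit] at h11
  have h16 : 16 ≤ Nat.card (A.map F.lin) := by
    have := h11.trans (Nat.mul_le_mul_right _ hker)
    norm_num at this ⊢
    omega
  have hkw := kerSet_le hk hle hp hn h16
  obtain ⟨e, heE, heM⟩ : ∃ e ∈ Es Q g, e ∉ F.M := by
    by_contra hcon
    push Not at hcon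
    have hle16 : Nat.card (A.map F.lin) ≤ 16 := by
      have hsub : ∀ y : A.map F.lin, y.1 ∈ KerSet F.k := fun y => by
        have hn' : ((A.map F.lin).subgroupOf (S2 F.k)).Normal := ⟨fun b hb a => hn a.1 a.2 b.1 hb⟩
        exact fixer_mem (⟨y.1, hle y.2⟩ : S2 F.k)
          fun i => fix_all hn' (hp.of_equiv (Subgroup.subgroupOfEquivOfLe hle).symm) _ y.2 i
      choose f hf hfe using hsub
      have h16' : ∀ y, ∃ i : Fin 16, (dat F.k).kerW.getD i.1 [] = f y := fun y => by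
        obtain ⟨i, hi, e⟩ := List.getElem_of_mem (hf y)
        exact ⟨⟨i, kerW_lt hk ▸ hi⟩, by rw [List.getD_eq_getElem _ _ hi, e]⟩
      choose j hj using h16'
      rw [← Nat.card_fin 16]
      refine Nat.card_le_card_of_injective j fun a b e => Subtype.ext ?_
      rw [← hfe a, ← hfe b, ← hj a, ← hj b, e]
    rw [← inf_eq_left.2 (show Es Q g ≤ F.M from hcon), ← hcA, hsplit] at h12
    have := Nat.mul_le_mul hker hle16
    rw [h12] at this
    norm_num at this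
  have hcomm : ∀ a ∈ Es Q g, ∀ b ∈ Es Q g, ∀ v, F.act a (F.act b v) = F.act b (F.act a v) := by
    intro a ha b hb v
    have hcq : (b * a)⁻¹ * (a * b) ∈ Q := by
      have hmem : ((a : G)⁻¹ * (b : G)⁻¹ * ((a : G)⁻¹)⁻¹ * ((b : G)⁻¹)⁻¹) = 1 ∨
          ((a : G)⁻¹ * (b : G)⁻¹ * ((a : G)⁻¹)⁻¹ * ((b : G)⁻¹)⁻¹) = g * z * g⁻¹ :=
        hext.comm _ (inv_mem (mem_Es.1 ha)) _ (inv_mem (mem_Es.1 hb))
      rcases hmem with e | e
      · rw [show (b * a)⁻¹ * (a * b) = 1 from Subtype.ext (Eq.trans (by simp [mul_assoc]) e)]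
        exact one_mem _
      · rw [show (b * a)⁻¹ * (a * b) = (x2 : Subgroup.centralizer ({z} : Set G)) from Subtype.ext (by
          show _ = gv x2
          rw [hs]; exact Eq.trans (by simp [mul_assoc]) e)]
        exact x2.2
    rw [← F.act_mul, ← F.act_mul, show a * b = (b * a) * ((b * a)⁻¹ * (a * b)) by group,
      F.act_mul _ ((b * a)⁻¹ * _), (F.act_ker _).2 hcq]
  have h2 : F.act e (LargeFischer.rep F.k 2) = LargeFischer.rep F.k 2 := by
    rw [← hx2, F.act_rep]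
    congr 1
    refine Subtype.ext (Subtype.ext ?_)
    show (e : G) * gv x2 * (e : G)⁻¹ = gv x2
    rw [hs, mul_inv_eq_iff_eq_mul]
    exact hext.central _ (mem_Es.1 heE)
  have hlift : ∀ w ∈ (dat F.k).kerW, ∃ b ∈ Es Q g, ∀ v, F.act b v = ev (kgen F.k) w • v := fun w hw => by
    obtain ⟨b, hb, eb⟩ := hkw w hw
    exact ⟨b, hb.1, fun v => by rw [F.lin_act, eb]⟩
  obtain ⟨w, hw, hew⟩ := F.lin_is_ker e (hall e heE) h2 (fun w hw v => by
      obtain ⟨b, hb, eb⟩ := hlift w hw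
      rw [← eb, ← eb, hcomm e heE b hb])
    (fun w hw w' hw' v => by
      obtain ⟨b, hb, eb⟩ := hlift w hw
      obtain ⟨b', hb', eb'⟩ := hlift w' hw'
      rw [← eb', ← eb, ← eb, ← eb', hcomm b hb b' hb'])
  obtain ⟨b, hb⟩ := F.exists_lin (word_mem hk w)
  have : e⁻¹ * b ∈ Q := (F.act_ker _).1 fun v => by
    rw [F.act_mul, F.lin_act, hb, ← hew, F.act_cancel]
  have h' := mul_mem b.2 (inv_mem (F.M_le this))
  rw [show (b : Subgroup.centralizer ({z} : Set G)) * (e⁻¹ * b)⁻¹ = e by group] at h'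
  exact heM h'

/-- The index is two or four, the quotient elementary. -/
theorem index_two_four (hnwc : ∃ g₀ : G, g₀ * z * g₀⁻¹ ∈ QG Q ∧ g₀ * z * g₀⁻¹ ≠ z) :
    (F.M.index = 2 ∨ F.M.index = 4) ∧ (F.M.index = 4 → ∀ h, h * h ∈ F.M) := by
  haveI := F.M_normal
  obtain ⟨e, he, hee⟩ := F.exists_semi hnwc
  have hl2 : F.linPart.index = 2 :=
    F.linPart_index.resolve_left fun h => he (Subgroup.index_eq_one.1 h ▸ Subgroup.mem_top e)
  have hmul := Subgroup.relIndex_mul_index F.M_le_linPart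
  rw [hl2] at hmul
  refine ⟨by rcases F.linPart_relIndex with h | h <;> rw [h] at hmul <;> omega, fun h4 h => ?_⟩
  rw [h4] at hmul
  have hr : (F.M.subgroupOf F.linPart).index = 2 := show F.M.relIndex F.linPart = 2 by omega
  haveI : F.linPart.Normal := Subgroup.normal_of_index_eq_two hl2
  have two : ∀ a b, a ∈ F.linPart → b ∈ F.linPart → (a * b ∈ F.M ↔ (a ∈ F.M ↔ b ∈ F.M)) := fun a b ha hb =>
    Subgroup.mul_mem_iff_of_index_two hr (a := ⟨a, ha⟩) (b := ⟨b, hb⟩)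
  by_cases hh : h ∈ F.linPart
  · exact (two h h hh hh).2 Iff.rfl
  · have hl : h * e⁻¹ ∈ F.linPart :=
      F.linPart_index_le _ _ hh fun h' => he (by simpa using inv_mem h')
    have hl' : e * (h * e⁻¹) * e⁻¹ ∈ F.linPart := ‹F.linPart.Normal›.conj_mem _ hl e
    have hiff : (h * e⁻¹ ∈ F.M ↔ e * (h * e⁻¹) * e⁻¹ ∈ F.M) :=
      ⟨fun h' => F.M_normal.conj_mem _ h' e, fun h' => by
        have := F.M_normal.conj_mem _ h' e⁻¹
        rwa [show e⁻¹ * (e * (h * e⁻¹) * e⁻¹) * e⁻¹⁻¹ = h * e⁻¹ by group] at this⟩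
    rw [show h * h = h * e⁻¹ * (e * (h * e⁻¹) * e⁻¹) * (e * e) by group]
    exact mul_mem ((two _ _ hl hl').2 hiff) (F.M_le hee)

end Frame

end Cfsg.Agent.Fus.Fi24Red
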