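import Mathlib.GroupTheory.Transfer
import Mathlib.GroupTheory.PGroup
import Mathlib.Data.ZMod.Basic

/-!
The transfer of a parity on a subgroup, evaluated at an element commuting with a two-group inside the subgroup.
-/

set_option autoImplicit false
set_option linter.unusedSectionVars false
set_option linter.style.haveILetI false

namespace Cfsg.Agent.Fus.Fi24Red

open MulAction

variable {G : Type*} [Group G]

/-- A product in a group of order two. -/
theorem parity_prod {ι : Type*} [Fintype ι] (f : ι → Multiplicative (ZMod 2)) [DecidablePred fun o => f o ≠ 1] :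
    ∏ o, f o = Multiplicative.ofAdd (((Finset.univ.filter fun o => f o ≠ 1).card : ℕ) : ZMod 2) := by
  have hgen : ∀ a : Multiplicative (ZMod 2), a ≠ 1 → a = Multiplicative.ofAdd 1 := by decide
  rw [← Finset.prod_filter_ne_one, Finset.prod_congr rfl fun o ho => hgen (f o) (Finset.mem_filter.1 ho).2,
    Finset.prod_const, ← ofAdd_nsmul, nsmul_eq_mul, mul_one]

/-- The orbits of a cyclic group seen from representatives. -/
theorem cyclic_orbit_eq_iff (y : G) {H : Subgroup G} (a b : G) :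
    (Quotient.mk (orbitRel (Subgroup.zpowers y) (G ⧸ H)) (a : G ⧸ H)) =
      Quotient.mk _ (b : G ⧸ H) ↔ ∃ i : ℤ, b⁻¹ * y ^ i * a ∈ H := by
  rw [Quotient.eq, orbitRel_apply]
  constructor
  · rintro ⟨⟨_, i, rfl⟩, h⟩
    refine ⟨-i, ?_⟩
    have h' : ((y ^ i * b : G) : G ⧸ H) = (a : G ⧸ H) := h
    have h'' := inv_mem (QuotientGroup.eq.1 h'.symm)
    rw [show b⁻¹ * y ^ (-i) * a = (a⁻¹ * (y ^ i * b))⁻¹ by group]
    exact h''
  · rintro ⟨i, h⟩
    refine ⟨⟨y ^ (-i), Subgroup.zpow_mem_zpowers y (-i)⟩, ?_⟩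
    show ((y ^ (-i) * b : G) : G ⧸ H) = (a : G ⧸ H)
    rw [QuotientGroup.eq, show (y ^ (-i) * b)⁻¹ * a = b⁻¹ * y ^ i * a by group]
    exact h

variable (H : Subgroup G) (χ : H →* Multiplicative (ZMod 2))

/-- The parity of a conjugate is not trivial. -/
def Moved (x g : G) : Prop := ∃ h : g⁻¹ * x * g ∈ H, χ ⟨_, h⟩ ≠ 1

/-- A representative whose term is not trivial. -/
def Counts (y g : G) : Prop := Moved H χ y g ∨ (g⁻¹ * y * g ∉ H ∧ Moved H χ (y * y) g)

theorem chi_conj {h : G} (hh : h ∈ H) {x : G} (hx : x ∈ H) :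
    χ ⟨h⁻¹ * x * h, mul_mem (mul_mem (inv_mem hh) hx) hh⟩ = χ ⟨x, hx⟩ := by
  rw [show (⟨h⁻¹ * x * h, _⟩ : H) = ⟨h, hh⟩⁻¹ * ⟨x, hx⟩ * ⟨h, hh⟩ from rfl, map_mul, map_mul, map_inv,
    mul_comm (χ ⟨h, hh⟩)⁻¹, inv_mul_cancel_right]

theorem moved_congr {x c g g' : G} (hc : c * x = x * c) (h : g'⁻¹ * c * g ∈ H) :
    Moved H χ x g' ↔ Moved H χ x g := by
  have e : g⁻¹ * x * g = (g'⁻¹ * c * g)⁻¹ * (g'⁻¹ * x * g') * (g'⁻¹ * c * g) := by
    calc g⁻¹ * x * g = g⁻¹ * (c⁻¹ * (c * x)) * g := by group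
      _ = g⁻¹ * (c⁻¹ * (x * c)) * g := by rw [hc]
      _ = _ := by group
  have e' : g'⁻¹ * x * g' = (g'⁻¹ * c * g) * (g⁻¹ * x * g) * (g'⁻¹ * c * g)⁻¹ := by rw [e]; group
  constructor
  · rintro ⟨hm, hn⟩
    refine ⟨e ▸ mul_mem (mul_mem (inv_mem h) hm) h, fun h' => hn ?_⟩
    rw [← h', ← chi_conj H χ h hm]
    exact congrArg χ (Subtype.ext e.symm)
  · rintro ⟨hm, hn⟩
    have hm' : g'⁻¹ * x * g' ∈ H := e' ▸ mul_mem (mul_mem h hm) (inv_mem h)
    refine ⟨hm', fun h' => hn ?_⟩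
    rw [← h', ← chi_conj H χ h hm']
    exact congrArg χ (Subtype.ext e)

theorem counts_congr {y c g g' : G} (hc : c * y = y * c) (h : g'⁻¹ * c * g ∈ H) :
    Counts H χ y g' ↔ Counts H χ y g := by
  have hc2 : c * (y * y) = y * y * c := by rw [← mul_assoc, hc, mul_assoc, hc, mul_assoc]
  have hmem : g'⁻¹ * y * g' ∈ H ↔ g⁻¹ * y * g ∈ H := by
    have e : g⁻¹ * y * g = (g'⁻¹ * c * g)⁻¹ * (g'⁻¹ * y * g') * (g'⁻¹ * c * g) := by
      calc g⁻¹ * y * g = g⁻¹ * (c⁻¹ * (c * y)) * g := by group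
        _ = g⁻¹ * (c⁻¹ * (y * c)) * g := by rw [hc]
        _ = _ := by group
    rw [e, Subgroup.mul_mem_cancel_right _ h, Subgroup.mul_mem_cancel_left _ (inv_mem h)]
  rw [Counts, Counts, moved_congr H χ hc h, moved_congr H χ hc2 h, hmem]

variable [Finite G]

/-- The transfer at an element with a commuting two-group whose fixed orbits contribute nothing. -/
theorem transfer_eq {y : G} (hy : y ∈ H) (hy4 : y * y * (y * y) = 1)
    (P : Subgroup G) (hP : IsPGroup 2 ↥P) (hPle : P ≤ H) (hPy : ∀ p ∈ P, p * y = y * p)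
    (hfix : ∀ g : G, g ∉ H → ∀ h : g⁻¹ * y * g ∈ H, (∀ p ∈ P, g⁻¹ * p * g ∈ H) → χ ⟨_, h⟩ = 1)
    (hpair : ∀ g : G, g⁻¹ * y * g ∉ H → ∀ h : g⁻¹ * (y * y) * g ∈ H,
      (∀ p ∈ P, g⁻¹ * p * g ∈ H ∨ g⁻¹ * (y⁻¹ * p) * g ∈ H) → χ ⟨_, h⟩ = 1) :
    χ.transfer y = χ ⟨y, hy⟩ := by
  classical
  haveI : Fintype (Quotient (orbitRel (Subgroup.zpowers y) (G ⧸ H))) := Fintype.ofFinite _
  rw [MonoidHom.transfer_eq_prod_quotient_orbitRel_zpowers_quot, parity_prod]
  have hterm : ∀ q : G ⧸ H, ∀ h : q.out⁻¹ * y ^ Function.minimalPeriod (y • ·) q * q.out ∈ H,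
      χ ⟨_, h⟩ ≠ 1 ↔ Counts H χ y q.out := by
    intro q h
    have hiff : ∀ x : G, x • q = q ↔ q.out⁻¹ * x * q.out ∈ H := fun x => by
      conv_lhs => rw [← QuotientGroup.out_eq' q]
      rw [MulAction.Quotient.smul_mk, QuotientGroup.eq, smul_eq_mul]
      constructor <;> intro h' <;> have := inv_mem h'
      · rwa [show (q.out⁻¹ * x * q.out) = ((x * q.out)⁻¹ * q.out)⁻¹ by group]
      · rwa [show (x * q.out)⁻¹ * q.out = (q.out⁻¹ * x * q.out)⁻¹ by group]
    have hit : ∀ n : ℕ, Function.IsPeriodicPt (y • ·) n q ↔ q.out⁻¹ * y ^ n * q.out ∈ H := fun n => by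
      rw [← hiff (y ^ n)]
      show (y • ·)^[n] q = q ↔ _
      rw [smul_iterate]
    have hy2 : y ^ 2 = y * y := pow_two y
    have hy4' : y ^ 4 = 1 := by rw [← hy4]; simp [pow_succ, mul_assoc]
    have h4 : Function.minimalPeriod (y • ·) q ∣ 4 := ((hit 4).2 (by rw [hy4']; simp)).minimalPeriod_dvd
    have h1 : q.out⁻¹ * y * q.out ∈ H ↔ Function.minimalPeriod (y • ·) q = 1 := by
      rw [Function.minimalPeriod_eq_one_iff_isFixedPt, ← pow_one y, ← hit 1, pow_one]
      exact Iff.rfl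
    have h2 : q.out⁻¹ * (y * y) * q.out ∈ H ↔ Function.minimalPeriod (y • ·) q ∣ 2 := by
      rw [← hy2, ← hit 2, Function.isPeriodicPt_iff_minimalPeriod_dvd]
    have hle : Function.minimalPeriod (y • ·) q ≤ 4 := Nat.le_of_dvd (by norm_num) h4
    generalize Function.minimalPeriod (y • ·) q = m at h h4 h1 h2 hle
    rcases (show m = 1 ∨ m = 2 ∨ m = 4 by interval_cases m <;> omega) with e | e | e <;> subst e
    · simp only [pow_one]
      exact ⟨fun hn => Or.inl ⟨_, hn⟩, fun h' => h'.elim (fun ⟨_, hn⟩ => hn) fun h' => absurd (h1.2 rfl) h'.1⟩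
    · simp only [hy2]
      exact ⟨fun hn => Or.inr ⟨fun h' => by simpa using h1.1 h', _, hn⟩,
        fun h' => h'.elim (fun ⟨h'', _⟩ => absurd (h1.1 h'') (by norm_num)) fun ⟨_, _, hn⟩ => hn⟩
    · constructor
      · intro hn
        exact absurd (by rw [show (⟨_, h⟩ : H) = 1 from Subtype.ext (by simp [hy4']), map_one]) hn
      · rintro (⟨h', -⟩ | ⟨-, h', -⟩)
        · exact absurd (h1.1 h') (by norm_num)
        · exact absurd (h2.1 h') (by norm_num)
  set S := {o : Quotient (orbitRel (Subgroup.zpowers y) (G ⧸ H)) // Counts H χ y o.out.out} with hS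
  have hcard : (Finset.univ.filter fun o : Quotient (orbitRel (Subgroup.zpowers y) (G ⧸ H)) =>
      χ ⟨o.out.out⁻¹ * y ^ Function.minimalPeriod (y • ·) o.out * o.out.out,
        QuotientGroup.out_conj_pow_minimalPeriod_mem H y o.out⟩ ≠ 1).card = Nat.card S := by
    rw [Nat.card_eq_fintype_card, Fintype.card_subtype]
    congr 1
    exact Finset.filter_congr fun o _ => hterm _ _
  rw [hcard]
  have hcomm : ∀ p : ↥P, ∀ i : ℤ, y ^ i * (p : G) = (p : G) * y ^ i := fun p i =>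
    (Commute.zpow_left (show Commute y (p : G) from (hPy p p.2).symm) i).eq
  let act : ↥P → Quotient (orbitRel (Subgroup.zpowers y) (G ⧸ H)) →
      Quotient (orbitRel (Subgroup.zpowers y) (G ⧸ H)) := fun p =>
    Quotient.map' (fun q => (p : G) • q) fun a b hab => by
      obtain ⟨⟨_, i, rfl⟩, e⟩ := orbitRel_apply.1 hab
      refine orbitRel_apply.2 ⟨⟨y ^ i, Subgroup.zpow_mem_zpowers y i⟩, ?_⟩
      change y ^ i • b = a at e
      show y ^ i • ((p : G) • b) = (p : G) • a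
      rw [← e, smul_smul, smul_smul, hcomm p i]
  have hact : ∀ (p : ↥P) (g : G), act p (Quotient.mk _ (g : G ⧸ H)) =
      Quotient.mk _ (((p : G) * g : G) : G ⧸ H) := fun p g => rfl
  have hrep : ∀ o : Quotient (orbitRel (Subgroup.zpowers y) (G ⧸ H)),
      o = Quotient.mk _ ((o.out.out : G) : G ⧸ H) := fun o => by rw [QuotientGroup.out_eq', Quotient.out_eq]
  have hbad : ∀ g : G, Counts H χ y (Quotient.mk (orbitRel (Subgroup.zpowers y) (G ⧸ H))
      (g : G ⧸ H)).out.out ↔ Counts H χ y g := fun g => by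
    obtain ⟨i, hi⟩ := (cyclic_orbit_eq_iff y _ _).1 (hrep (Quotient.mk _ (g : G ⧸ H)))
    exact counts_congr H χ (Commute.zpow_self y i).eq hi
  have hkeep : ∀ (p : ↥P) (g : G), Counts H χ y ((p : G) * g) ↔ Counts H χ y g := fun p g =>
    counts_congr H χ (hPy p p.2) (by
      rw [show ((p : G) * g)⁻¹ * (p : G) * g = 1 by group]; exact one_mem _)
  letI : MulAction ↥P S :=
    { smul := fun p o => ⟨act p o.1, by
        obtain ⟨o, ho⟩ := o
        have e : act p o = Quotient.mk _ (((p : G) * o.out.out : G) : G ⧸ H) :=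
          (congrArg (act p) (hrep o)).trans (hact p _)
        show Counts H χ y (act p o).out.out
        rw [e, hbad, hkeep]
        exact ho⟩
      one_smul := fun ⟨o, _⟩ => by
        refine Subtype.ext ?_
        show act 1 o = o
        rw [hrep o, hact, Subgroup.coe_one, one_mul]
      mul_smul := fun a b ⟨o, _⟩ => by
        refine Subtype.ext ?_
        show act (a * b) o = act a (act b o)
        rw [hrep o, hact, hact, hact, Subgroup.coe_mul, mul_assoc] }
  haveI : Fact (Nat.Prime 2) := ⟨Nat.prime_two⟩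
  have hmod := hP.card_modEq_card_fixedPoints (α := S)
  have honly : ∀ o ∈ fixedPoints ↥P S, o.1 = Quotient.mk _ ((1 : G) : G ⧸ H) := by
    rintro ⟨o, ho⟩ hfo
    show o = _
    set g := o.out.out with hg
    have hstab : ∀ p ∈ P, ∃ i : ℤ, g⁻¹ * y ^ i * (p * g) ∈ H := fun p hp => by
      have e : act ⟨p, hp⟩ o = o := congrArg Subtype.val (hfo ⟨p, hp⟩)
      rw [hrep o, hact] at e
      exact (cyclic_orbit_eq_iff y _ _).1 e
    have hcz : ∀ (x : G) (i : ℤ), (g⁻¹ * x * g) ^ i = g⁻¹ * x ^ i * g := fun x i => by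
      have := conj_zpow (i := i) (a := g⁻¹) (b := x)
      rwa [inv_inv] at this
    have hbase : g ∈ H → o = Quotient.mk _ ((1 : G) : G ⧸ H) := fun e => by
      rw [hrep o]
      exact (cyclic_orbit_eq_iff y _ _).2 ⟨0, by simpa using e⟩
    rcases ho with ⟨hb1, hb2⟩ | ⟨hb1, hb2, hb3⟩
    · by_contra hne
      refine hb2 (hfix g (fun e => hne (hbase e)) hb1 fun p hp => ?_)
      obtain ⟨i, hi⟩ := hstab p hp
      have hyi : g⁻¹ * y ^ i * g ∈ H := by
        have := Subgroup.zpow_mem _ hb1 i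
        rwa [hcz] at this
      have := mul_mem (inv_mem hyi) hi
      rwa [show (g⁻¹ * y ^ i * g)⁻¹ * (g⁻¹ * y ^ i * (p * g)) = g⁻¹ * p * g by group] at this
    · refine absurd (hpair g hb1 hb2 fun p hp => ?_) hb3
      obtain ⟨i, hi⟩ := hstab p hp
      obtain ⟨k, hk⟩ := Int.even_or_odd' i
      have hzk : g⁻¹ * y ^ (2 * k) * g ∈ H := by
        have := Subgroup.zpow_mem _ hb2 k
        rw [hcz] at this
        rwa [zpow_mul, zpow_two]
      rcases hk with rfl | rfl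
      · left
        have := mul_mem (inv_mem hzk) hi
        rwa [show (g⁻¹ * y ^ (2 * k) * g)⁻¹ * (g⁻¹ * y ^ (2 * k) * (p * g)) = g⁻¹ * p * g by group] at this
      · right
        have := mul_mem (inv_mem hzk) hi
        rw [show (g⁻¹ * y ^ (2 * k) * g)⁻¹ * (g⁻¹ * y ^ (2 * k + 1) * (p * g)) = g⁻¹ * (y * p) * g by
          group] at this
        have := mul_mem (inv_mem hb2) this
        rwa [show (g⁻¹ * (y * y) * g)⁻¹ * (g⁻¹ * (y * p) * g) = g⁻¹ * (y⁻¹ * p) * g by group] at this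
  by_cases hyH : χ ⟨y, hy⟩ = 1
  · rw [hyH]
    have h0 : Nat.card (fixedPoints ↥P S) = 0 := by
      haveI : IsEmpty ↥(fixedPoints ↥P S) := ⟨fun ⟨o, ho⟩ => by
        have hb := o.2
        rw [honly o ho, hbad] at hb
        rcases hb with ⟨_, h⟩ | ⟨h, -⟩
        · exact h (by simpa using hyH)
        · exact h (by simpa using hy)⟩
      exact Nat.card_of_isEmpty
    rw [h0] at hmod
    rw [(ZMod.natCast_eq_natCast_iff' _ _ _).2 hmod, Nat.cast_zero, ofAdd_zero]
  · rw [show χ ⟨y, hy⟩ = Multiplicative.ofAdd 1 from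
      (show ∀ a : Multiplicative (ZMod 2), a ≠ 1 → a = Multiplicative.ofAdd 1 by decide) _ hyH]
    have hb1 : Counts H χ y (Quotient.mk (orbitRel (Subgroup.zpowers y) (G ⧸ H))
        ((1 : G) : G ⧸ H)).out.out := (hbad 1).2 (Or.inl ⟨by simpa using hy, by simpa using hyH⟩)
    have hfb : (⟨_, hb1⟩ : S) ∈ fixedPoints ↥P S := fun p => Subtype.ext (by
      show act p (Quotient.mk _ ((1 : G) : G ⧸ H)) = _
      rw [hact]
      exact (cyclic_orbit_eq_iff y _ _).2 ⟨0, by simpa using hPle p.2⟩)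
    have h1 : Nat.card (fixedPoints ↥P S) = 1 := by
      rw [Nat.card_eq_one_iff_unique]
      exact ⟨⟨fun a b => Subtype.ext (Subtype.ext ((honly a.1 a.2).trans (honly b.1 b.2).symm))⟩, ⟨⟨_, hfb⟩⟩⟩
    rw [h1] at hmod
    rw [(ZMod.natCast_eq_natCast_iff' _ _ _).2 hmod, Nat.cast_one]

end Cfsg.Agent.Fus.Fi24Red
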