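import Cfsg.Agent.Lib.Fus.Fi24Red.Data
import Cfsg.Agent.Lib.Fus.LargeFischerSylowChecks
import Cfsg.Agent.Lib.Spor.LargeFischer.ExtChecks

/-! The checks of the tables. -/

set_option autoImplicit false
set_option maxRecDepth 100000
set_option Elab.async false

namespace Cfsg.Agent.Fus.Fi24Red

open Cfsg.Agent.Spor.LargeFischer
open Cfsg.Agent.Fus.LargeFischerSylow

/-- The central involution as a list. -/
def epsL (k : ℕ) : List ℕ := ivL k (epsI k)

/-- The central involution commutes with the subgroup and is conjugate to every involution in it. -/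
def chkEps (k : ℕ) : Bool :=
  Nat.blt (epsI k) 35 && Nat.beq (epsW k).length 35 &&
    (List.range 128).all (fun i => mulL (epsL k) (lst k i) == mulL (lst k i) (epsL k)) &&
    (List.range 35).all (fun j => ((epsW k).getD j []).all (fun s => Nat.blt s 4) &&
      mulL (wImg k ((epsW k).getD j [])) (epsL k) == mulL (ivL k j) (wImg k ((epsW k).getD j [])))

/-- The spaces of the central involution. -/
def chkSpace (k : ℕ) : Bool :=
  (epsB k).all (fun v => Nat.blt v 4096 && Nat.beq (app (epsL k) v) v) &&
    Nat.beq ((List.range 4096).countP fun c => Nat.beq (app (epsL k) c) c) 256 &&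
    (List.range 4096).all (fun c => (epsM k).contains (app (epsL k) c ^^^ c))

/-- The square is trivial or central. -/
def sqOk (k i : ℕ) : Bool := mulL (lst k i) (lst k i) == oneL || mulL (lst k i) (lst k i) == epsL k

/-- The elements with such squares, and what they add to the basis of the fixed space. -/
def chkSq (k : ℕ) : Bool :=
  (sqI k == (List.range 128).filter (sqOk k)) && Nat.blt (sqI k).length 64 &&
    (sqT k == (sqI k).map fun i => (epsB k).map fun v => app (lst k i) v ^^^ v)

/-- A row of the table inside a plane. -/
def inPlane (a b : ℕ) (r : List ℕ) : Bool :=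
  r.all fun m => Nat.beq m 0 || Nat.beq m a || Nat.beq m b || Nat.beq m (a ^^^ b)

/-- Few elements move the fixed space into one plane. -/
def chkPlane (k : ℕ) : Bool :=
  (epsM k).all fun a => (epsM k).all fun b => Nat.blt ((sqT k).countP (inPlane a b)) 32

/-- The place of a basis vector not orthogonal to a vector. -/
def perpI (k x : ℕ) : ℕ := (epsB k).findIdx fun v => trC x v

/-- The basis vectors made orthogonal with one of them. -/
def perpV (k x : ℕ) (l : List ℕ) : List ℕ :=
  ((List.range (epsB k).length).map fun t =>
    bif trC x ((epsB k).getD t 0) then l.getD t 0 ^^^ l.getD (perpI k x) 0 else l.getD t 0)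

/-- A row of the table that moves the orthogonal part into a line. -/
def inLine (k x : ℕ) (r : List ℕ) : Bool := (perpV k x r).all fun m => Nat.beq m 0 || Nat.beq m x

/-- Few elements move the orthogonal part of the fixed space into one line. -/
def chkLine (k : ℕ) : Bool :=
  (List.range 4096).all fun x =>
    !(Nat.beq (app (epsL k) x) x && Nat.beq (hermC x x) 0 && !(epsM k).contains x) ||
      ((perpV k x (epsB k)).all (fun v => Nat.blt v 4096 && Nat.beq (app (epsL k) v) v && !trC x v) &&
        Nat.blt ((sqT k).countP (inLine k x)) 32)

/-- The scalar of order three on codes. -/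
def omC (c : ℕ) : ℕ := app [2, 3, 8, 12, 32, 48, 128, 192, 512, 768, 2048, 3072] c

/-- One more vector in a span. -/
def spanStep (S : List ℕ) (b : ℕ) : List ℕ :=
  S ++ S.map (b ^^^ ·) ++ S.map (omC b ^^^ ·) ++ S.map (omC b ^^^ b ^^^ ·)

/-- The span of the first vectors of the frame. -/
def span (k i : ℕ) : List ℕ := ((frame k).take i).foldl spanStep [0]

/-- A possible image of a vector of the frame. -/
def cand (k i w : ℕ) : Bool :=
  Nat.beq ((dat k).labC w) ((dat k).labC ((frame k).getD i 0)) &&
    ((frame k).take i).all (fun b => Nat.beq (hermC w b) (hermC ((frame k).getD i 0) b)) &&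
    (span k i).all (fun x => Nat.beq ((dat k).labC (x ^^^ w)) ((dat k).labC (x ^^^ (frame k).getD i 0)))

/-- The frame bounds the linear isometries keeping the labels. -/
def chkFrame (k : ℕ) : Bool :=
  Nat.beq (frame k).length 6 && (frame k).all (fun b => Nat.blt b 4096) &&
    (List.range 6).all (fun i => Nat.beq ((List.range 4096).countP (cand k i)) ((frameC k).getD i 0)) &&
    Nat.beq (((List.range 6).map fun i => (frameC k).getD i 0).prod) (2 * 9797760) &&
    (List.range 12).all (fun j => (span k 6).contains (2 ^ j))

theorem eps_ok : ∀ k < 3, chkEps k = true := by decide +kernel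

theorem space_ok : ∀ k < 3, chkSpace k = true := by decide +kernel

theorem sq_ok : ∀ k < 3, chkSq k = true := by decide +kernel

theorem plane_ok : ∀ k < 3, chkPlane k = true := by decide +kernel

theorem line_ok : ∀ k < 3, chkLine k = true := by decide +kernel

theorem frame_ok : ∀ k < 3, chkFrame k = true := by decide +kernel

end Cfsg.Agent.Fus.Fi24Red
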