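import Cfsg.Agent.Lib.Fus.Fi24Red.Basic
import Cfsg.Agent.Lib.Fus.Fi24Red.Checks
import Cfsg.Agent.Lib.Spor.LargeFischer.SmallOrbit
import Cfsg.Agent.Lib.Spor.LargeFischer.ExtFacts

/-!
The part inducing `3.U₄(3)` has index at most two among the linear elements, so index at most four: a linear element is
fixed by the images of six vectors, and the numbers of candidates for those multiply to twice the order of the cover.
-/

set_option autoImplicit false
set_option maxRecDepth 100000
set_option linter.style.haveILetI false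
set_option linter.unusedSectionVars false

open Cfsg Cfsg.Agent.Classical Cfsg.Agent.Spor Cfsg.Agent.Spor.LargeFischer Matrix
open Cfsg.Agent.Spor.USixTwo (K4 vecOf)
open Cfsg.Agent.Spor.U62U43 (cover62)
open Cfsg.Agent.Fus.LargeFischerScalar (ω)

namespace Cfsg.Agent.Fus.Fi24Red

variable {G : Type*} [Group G] [Finite G] {z : G} {Q : Subgroup (Subgroup.centralizer ({z} : Set G))}
  [hQn : Q.Normal]

theorem omC_sound : ∀ c < 4096, vecOf (omC c) = ω • vecOf c := fun c hc =>
  (app_sound (AddMonoidHom.mk' (fun v : Fin 6 → K4 => ω • v) (fun v w => smul_add ω v w))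
    (l := [2, 3, 8, 12, 32, 48, 128, 192, 512, 768, 2048, 3072]) rfl
    (fun i hi => by
      show ω • vecOf (2 ^ i) = _
      interval_cases i <;> decide +kernel) hc).symm

theorem omC_lt (c : ℕ) : omC c < 4096 :=
  app_lt (l := [2, 3, 8, 12, 32, 48, 128, 192, 512, 768, 2048, 3072]) (by decide) c

/-- A span stays below the bound and inside anything closed under the operations. -/
theorem foldl_span (P : ℕ → Prop) (hxor : ∀ a b, a < 4096 → b < 4096 → P a → P b → P (a ^^^ b))
    (hom : ∀ a, a < 4096 → P a → P (omC a)) :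
    ∀ (l S : List ℕ), (∀ b ∈ l, b < 4096 ∧ P b) → (∀ x ∈ S, x < 4096 ∧ P x) →
      ∀ x ∈ l.foldl spanStep S, x < 4096 ∧ P x
  | [], S, _, hS => hS
  | b :: l, S, hl, hS => by
    obtain ⟨hb, hPb⟩ := hl b List.mem_cons_self
    refine foldl_span P hxor hom l _ (fun c hc => hl c (List.mem_cons_of_mem _ hc)) fun x hx => ?_
    have hlt : ∀ u v, u < 4096 → v < 4096 → u ^^^ v < 4096 := fun u v hu hv => Nat.xor_lt_two_pow (n := 12) hu hv
    have ho := omC_lt b
    have hPo := hom b hb hPb
    simp only [spanStep, List.mem_append, List.mem_map] at hx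
    rcases hx with ((hx | ⟨y, hy, rfl⟩) | ⟨y, hy, rfl⟩) | ⟨y, hy, rfl⟩
    · exact hS x hx
    · exact ⟨hlt _ _ hb (hS y hy).1, hxor _ _ hb (hS y hy).1 hPb (hS y hy).2⟩
    · exact ⟨hlt _ _ ho (hS y hy).1, hxor _ _ ho (hS y hy).1 hPo (hS y hy).2⟩
    · exact ⟨hlt _ _ (hlt _ _ ho hb) (hS y hy).1,
        hxor _ _ (hlt _ _ ho hb) (hS y hy).1 (hxor _ _ ho hb hPo hPb) (hS y hy).2⟩

/-- A subgroup of permutations against a point and a list of candidates. -/
theorem card_le_mul {X : Type*} [Finite X] (S S' : Subgroup (Equiv.Perm X)) (x : X) (C : Set X) (n : ℕ)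
    (hn : C.ncard ≤ n) (hC : ∀ s ∈ S, s x ∈ C) (hS' : ∀ s ∈ S, s x = x → s ∈ S') :
    Nat.card S ≤ n * Nat.card S' := by
  classical
  haveI : Finite (Equiv.Perm X) := inferInstance
  have h := Nat.card_congr (MulAction.orbitProdStabilizerEquivGroup (↥S) x)
  rw [Nat.card_prod] at h
  rw [← h]
  refine Nat.mul_le_mul ?_ ?_
  · refine le_trans ?_ hn
    rw [Nat.card_coe_set_eq]
    refine Set.ncard_le_ncard ?_ (Set.toFinite _)
    rintro y ⟨s, rfl⟩
    exact hC s s.2
  · exact Nat.card_le_card_of_injective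
      (fun s : MulAction.stabilizer (↥S) x => (⟨s.1.1, hS' _ s.1.2 s.2⟩ : S'))
      fun a b e => Subtype.ext (Subtype.ext (congrArg (fun t : S' => (t : Equiv.Perm X)) e))

/-- The linear isometries keeping the labels. -/
def labGroup (k : ℕ) : Subgroup (Equiv.Perm (Fin 6 → K4)) where
  carrier := {r | (∀ u w, r (u + w) = r u + r w) ∧ (∀ v, r (ω • v) = ω • r v) ∧ (∀ v, labV k (r v) = labV k v) ∧
    ∀ u w, hermForm 6 K4 2 (r u) (r w) = hermForm 6 K4 2 u w}
  one_mem' := ⟨fun _ _ => rfl, fun _ => rfl, fun _ => rfl, fun _ _ => rfl⟩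
  mul_mem' := fun {a b} ha hb => ⟨fun u w => by simp only [Equiv.Perm.mul_apply, hb.1, ha.1],
    fun v => by simp only [Equiv.Perm.mul_apply, hb.2.1, ha.2.1],
    fun v => by simp only [Equiv.Perm.mul_apply, ha.2.2.1, hb.2.2.1],
    fun u w => by simp only [Equiv.Perm.mul_apply, ha.2.2.2, hb.2.2.2]⟩
  inv_mem' := fun {a} ha => ⟨fun u w => a.injective (by simp [ha.1]), fun v => a.injective (by simp [ha.2.1]),
    fun v => by conv_rhs => rw [← (show a (a⁻¹ v) = v by simp), ha.2.2.1],
    fun u w => by conv_rhs => rw [← (show a (a⁻¹ u) = u by simp), ← (show a (a⁻¹ w) = w by simp), ha.2.2.2]⟩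

namespace Frame

variable (F : Frame z Q)

include F

/-- The permutation of a linear element. -/
def linPerm : ↥F.linPart →* Equiv.Perm (Fin 6 → K4) where
  toFun a :=
    { toFun := F.act a
      invFun := F.act (a : Subgroup.centralizer ({z} : Set G))⁻¹
      left_inv := F.act_cancel a
      right_inv := fun v => by rw [← F.act_mul, mul_inv_cancel, F.act_one] }
  map_one' := Equiv.ext F.act_one
  map_mul' a b := Equiv.ext fun v => F.act_mul a b v

/-- The linear elements fixing the first vectors of the frame. -/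
def frameStab (i : ℕ) : Subgroup (Equiv.Perm (Fin 6 → K4)) where
  carrier := {r | r ∈ labGroup F.k ∧ ∀ b ∈ (frame F.k).take i, r (vecOf b) = vecOf b}
  one_mem' := ⟨one_mem _, fun _ _ => rfl⟩
  mul_mem' := fun {a b} ha hb => ⟨mul_mem ha.1 hb.1, fun c hc => by
    rw [Equiv.Perm.mul_apply, hb.2 c hc, ha.2 c hc]⟩
  inv_mem' := fun {a} ha => ⟨inv_mem ha.1, fun c hc => by
    rw [Equiv.Perm.inv_eq_iff_eq]; exact (ha.2 c hc).symm⟩

theorem frame_facts : (frame F.k).length = 6 ∧ (∀ b ∈ frame F.k, b < 4096) ∧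
    (∀ i < 6, (List.range 4096).countP (cand F.k i) = (frameC F.k).getD i 0) ∧
    ((List.range 6).map fun i => (frameC F.k).getD i 0).prod = 2 * 9797760 ∧
    (∀ j < 12, 2 ^ j ∈ span F.k 6) := by
  have h := frame_ok F.k F.hk
  simp only [chkFrame, Bool.and_eq_true, List.all_eq_true, List.mem_range, Nat.beq_eq, Nat.blt_eq,
    List.contains_iff_mem] at h
  obtain ⟨⟨⟨⟨h1, h2⟩, h3⟩, h4⟩, h5⟩ := h
  exact ⟨h1, h2, h3, h4, h5⟩

theorem range_le_labGroup : F.linPerm.range ≤ labGroup F.k := by
  rintro _ ⟨a, rfl⟩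
  exact ⟨F.act_add a, a.2, F.lab_act a, F.herm_lin a.2⟩

theorem span_fixed {a : Equiv.Perm (Fin 6 → K4)} (hl : a ∈ labGroup F.k) {i : ℕ}
    (ha : ∀ b ∈ (frame F.k).take i, a (vecOf b) = vecOf b) :
    ∀ x ∈ span F.k i, x < 4096 ∧ a (vecOf x) = vecOf x := by
  refine foldl_span (fun x => a (vecOf x) = vecOf x) (fun u v _ _ hu hv => ?_) (fun u hu h => ?_) _ _
    (fun b hb => ⟨F.frame_facts.2.1 b (List.mem_of_mem_take hb), ha b hb⟩) (fun x hx => ?_)
  · rw [vecOf_xor, hl.1, hu, hv]
  · rw [omC_sound u hu, hl.2.1, h]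
  · rw [List.mem_singleton] at hx
    subst hx
    refine ⟨by norm_num, ?_⟩
    rw [vecOf_zero]
    exact left_eq_add.1 ((congrArg a (add_zero (0 : Fin 6 → K4))).symm.trans (hl.1 0 0))

theorem frameStab_step {i : ℕ} (hi : i < 6) :
    Nat.card (F.frameStab i) ≤ (frameC F.k).getD i 0 * Nat.card (F.frameStab (i + 1)) := by
  obtain ⟨hlen, hlt, hcnt, -, -⟩ := F.frame_facts
  have hget : (frame F.k).getD i 0 = (frame F.k)[i]'(hlen ▸ hi) := List.getD_eq_getElem _ _ _
  set b := (frame F.k).getD i 0 with hb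
  refine card_le_mul _ _ (vecOf b) (vecOf '' {w | w ∈ List.range 4096 ∧ cand F.k i w = true}) _ ?_ ?_ ?_
  · refine le_trans (Set.ncard_image_le ?_) (le_of_eq ?_)
    · exact Set.Finite.subset (List.finite_toSet (List.range 4096)) fun w hw => hw.1
    · rw [← hcnt i hi, List.countP_eq_length_filter,
        ← List.toFinset_card_of_nodup (List.nodup_range.filter _), ← Set.ncard_coe_finset]
      congr 1
      ext w
      simp [List.mem_filter]
  · rintro s ⟨hl, hfix⟩
    refine ⟨enc6 (s (vecOf b)), ⟨List.mem_range.2 (enc6_lt _), ?_⟩, vecOf_enc6 _⟩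
    have hb' : b < 4096 := hlt b (hget ▸ List.getElem_mem _)
    simp only [cand, Bool.and_eq_true, List.all_eq_true, Nat.beq_eq, ← hb]
    refine ⟨⟨?_, fun c hc => ?_⟩, fun x hx => ?_⟩
    · show labV F.k _ = _
      rw [hl.2.2.1, labV, enc6_vecOf hb']
    · have hc' := hlt c (List.mem_of_mem_take hc)
      have e := hl.2.2.2 (vecOf b) (vecOf c)
      rw [hfix c hc, ← vecOf_enc6 (s (vecOf b)), hermC_sound, hermC_sound] at e
      have hl' := hermC_lt (enc6 (s (vecOf b))) c
      have hl'' := hermC_lt b c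
      generalize hermC (enc6 (s (vecOf b))) c = p at e hl' ⊢
      generalize hermC b c = q at e hl'' ⊢
      interval_cases p <;> interval_cases q <;> first | rfl | exact absurd e (by decide +kernel)
    · obtain ⟨hx', hxf⟩ := F.span_fixed hl hfix x hx
      have e := hl.2.2.1 (vecOf (x ^^^ b))
      rw [labV, labV, enc6_vecOf (Nat.xor_lt_two_pow (n := 12) hx' hb'), vecOf_xor, hl.1, hxf,
        ← vecOf_enc6 (s (vecOf b)), ← vecOf_xor, enc6_vecOf (Nat.xor_lt_two_pow (n := 12) hx' (enc6_lt _))] at e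
      exact e
  · rintro s hs hsx
    refine ⟨hs.1, fun c hc => ?_⟩
    rw [List.take_succ_eq_append_getElem (hlen ▸ hi), List.mem_append, List.mem_singleton, ← hget] at hc
    rcases hc with hc | rfl
    · exact hs.2 c hc
    · exact hsx

theorem frameStab_six : F.frameStab 6 = ⊥ := by
  refine (Subgroup.eq_bot_iff_forall _).2 ?_
  rintro s ⟨hl, hfix⟩
  refine Equiv.ext fun v => ?_
  show s v = v
  obtain ⟨-, -, -, -, hbit⟩ := F.frame_facts
  have h := app_sound (AddMonoidHom.mk' s hl.1) (l := LargeFischerSylow.oneL) rfl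
    (fun i hi => by
      rw [LargeFischerSylow.oneL, List.getD_eq_getElem _ _ (by simpa using hi), List.getElem_map, List.getElem_range]
      exact (F.span_fixed hl hfix _ (hbit i hi)).2) (enc6_lt v)
  rw [AddMonoidHom.mk'_apply, vecOf_enc6] at h
  rw [h]
  have hone := app_sound (AddMonoidHom.id (Fin 6 → K4)) (l := LargeFischerSylow.oneL) rfl
    (fun i hi => by
      rw [LargeFischerSylow.oneL, List.getD_eq_getElem _ _ (by simpa using hi), List.getElem_map, List.getElem_range]
      rfl) (enc6_lt v)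
  rw [AddMonoidHom.id_apply] at hone
  rw [← hone, vecOf_enc6]

theorem card_labGroup_le : Nat.card (labGroup F.k) ≤ 2 * 9797760 := by
  obtain ⟨-, -, -, hprod, -⟩ := F.frame_facts
  have h0 : labGroup F.k ≤ F.frameStab 0 := fun s hs => ⟨hs, by simp⟩
  have hbot : Nat.card (F.frameStab 6) = 1 := by rw [F.frameStab_six, Subgroup.card_bot]
  have key : ∀ i ≤ 6, Nat.card (F.frameStab 0) ≤
      ((List.range i).map fun j => (frameC F.k).getD j 0).prod * Nat.card (F.frameStab i) := by
    intro i hi
    induction i with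
    | zero => simp
    | succ i ih =>
      refine (ih (by omega)).trans ?_
      rw [List.range_succ, List.map_append, List.prod_append, List.map_cons, List.map_nil, List.prod_singleton,
        mul_assoc]
      exact Nat.mul_le_mul_left _ (F.frameStab_step (by omega))
  have h6 := key 6 le_rfl
  rw [hprod, hbot, mul_one] at h6
  exact (Subgroup.card_le_of_le h0).trans h6

theorem card_linPerm_le : Nat.card F.linPerm.range ≤ 2 * 9797760 :=
  (Subgroup.card_le_of_le F.range_le_labGroup).trans F.card_labGroup_le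

theorem card_M : Nat.card F.M = 9797760 * Nat.card Q := by
  rw [← F.lin.ker.index_mul_card, Subgroup.index_ker, F.lin_range, card_cover F.hk]
  congr 1
  have : F.lin.ker = Q.subgroupOf F.M := by
    ext a
    rw [MonoidHom.mem_ker, Subgroup.mem_subgroupOf]
    exact F.lin_eq_one a
  rw [this, Nat.card_congr (Subgroup.subgroupOfEquivOfLe F.M_le).toEquiv]

theorem linPart_relIndex : F.M.relIndex F.linPart = 1 ∨ F.M.relIndex F.linPart = 2 := by
  have hker : F.linPerm.ker = Q.subgroupOf F.linPart := by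
    ext a
    rw [MonoidHom.mem_ker, Subgroup.mem_subgroupOf, ← F.act_ker]
    exact ⟨fun h v => congrArg (fun e : Equiv.Perm (Fin 6 → K4) => e v) h, fun h => Equiv.ext h⟩
  have hQle : Q ≤ F.linPart := F.M_le.trans F.M_le_linPart
  have hL : Nat.card F.linPart ≤ 2 * Nat.card F.M := by
    rw [F.card_M, ← F.linPerm.ker.index_mul_card, Subgroup.index_ker, hker,
      Nat.card_congr (Subgroup.subgroupOfEquivOfLe hQle).toEquiv, ← mul_assoc]
    exact Nat.mul_le_mul_right _ F.card_linPerm_le
  have h := (F.M.subgroupOf F.linPart).card_mul_index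
  rw [Nat.card_congr (Subgroup.subgroupOfEquivOfLe F.M_le_linPart).toEquiv, show (F.M.subgroupOf F.linPart).index =
    F.M.relIndex F.linPart from rfl] at h
  have hpos : 0 < Nat.card F.M := Nat.card_pos
  have hr : F.M.relIndex F.linPart ≤ 2 := Nat.le_of_mul_le_mul_left (by rw [h, mul_comm]; exact hL) hpos
  have hne : F.M.relIndex F.linPart ≠ 0 := fun e => by
    rw [e, mul_zero] at h
    exact absurd h.symm Nat.card_pos.ne'
  omega

theorem linPart_index : F.linPart.index = 1 ∨ F.linPart.index = 2 := by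
  by_cases h : ∀ g, g ∈ F.linPart
  · exact Or.inl (Subgroup.index_eq_one.2 (eq_top_iff.2 fun g _ => h g))
  · push Not at h
    obtain ⟨a, ha⟩ := h
    refine Or.inr (Subgroup.index_eq_two_iff.2 ⟨a, fun b => ?_⟩)
    by_cases hb : b ∈ F.linPart
    · exact Or.inr ⟨hb, fun e => ha (by simpa using mul_mem (inv_mem hb) e)⟩
    · exact Or.inl ⟨F.linPart_index_le b a hb ha, hb⟩

/-- At relative index two every linear isometry keeping the labels is induced. -/
theorem range_eq_labGroup (h : F.M.relIndex F.linPart = 2) : F.linPerm.range = labGroup F.k := by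
  refine Subgroup.eq_of_le_of_card_ge F.range_le_labGroup (F.card_labGroup_le.trans (le_of_eq ?_))
  have hQle : Q ≤ F.linPart := F.M_le.trans F.M_le_linPart
  have hker : F.linPerm.ker = Q.subgroupOf F.linPart := by
    ext a
    rw [MonoidHom.mem_ker, Subgroup.mem_subgroupOf, ← F.act_ker]
    exact ⟨fun h v => congrArg (fun e : Equiv.Perm (Fin 6 → K4) => e v) h, fun h => Equiv.ext h⟩
  have h1 := (F.M.subgroupOf F.linPart).card_mul_index
  rw [Nat.card_congr (Subgroup.subgroupOfEquivOfLe F.M_le_linPart).toEquiv, show (F.M.subgroupOf F.linPart).index =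
    F.M.relIndex F.linPart from rfl, h, F.card_M, ← F.linPerm.ker.index_mul_card, Subgroup.index_ker, hker,
    Nat.card_congr (Subgroup.subgroupOfEquivOfLe hQle).toEquiv] at h1
  exact Nat.eq_of_mul_eq_mul_right (Nat.card_pos (α := Q)) (by linarith)

/-- The index of the part inducing `3.U₄(3)`. -/
theorem M_index_cases : F.M.index = 1 ∨ F.M.index = 2 ∨ F.M.index = 4 := by
  rw [← Subgroup.relIndex_mul_index F.M_le_linPart]
  rcases F.linPart_relIndex with e | e <;> rcases F.linPart_index with e' | e' <;> rw [e, e'] <;> simp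

theorem M_index_dvd : F.M.index ∣ 4 := by
  rcases F.M_index_cases with e | e | e <;> rw [e] <;> norm_num

end Frame

end Cfsg.Agent.Fus.Fi24Red
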