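import Cfsg.Agent.Lib.Fus.Fi24Red.Eps

/-!
The bounds at the central involution of the Sylow subgroup hold at every involution of the cover.
-/

set_option autoImplicit false
set_option maxRecDepth 100000
set_option linter.style.haveILetI false
set_option linter.unusedSectionVars false

open Cfsg Cfsg.Agent.Classical Cfsg.Agent.Spor Cfsg.Agent.Spor.LargeFischer Matrix
open Cfsg.Agent.Spor.USixTwo (K4)
open Cfsg.Agent.Spor.U62U43 (cover62)
open Cfsg.Agent.Fus.LargeFischerSylow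

namespace Cfsg.Agent.Fus.Fi24Red

variable {k : ℕ}

/-- The hypotheses on a 2-subgroup of the centraliser of an involution. -/
structure CentTwo (k : ℕ) (e : SUV) (X : Subgroup SUV) : Prop where
  le : X ≤ cover62 k
  comm : ∀ x ∈ X, x * e = e * x
  two : IsPGroup 2 X
  sq : ∀ x ∈ X, x * x = 1 ∨ x * x = e

theorem exists_frame_eps (hk : k < 3) {e0 : SUV} (he0 : e0 ∈ cover62 k) (h1 : e0 ≠ 1) (h2 : e0 * e0 = 1) :
    ∃ e c, IsEps k e ∧ c ∈ cover62 k ∧ e0 = c * e * c⁻¹ := by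
  obtain ⟨e, he, -, -, -⟩ := exists_eps hk
  obtain ⟨c, hc, hce⟩ := inner_conj hk he he0 h1 h2
  exact ⟨e, c, he, hc, hce.symm⟩

theorem CentTwo.map {e c : SUV} {X : Subgroup SUV} (h : CentTwo k (c * e * c⁻¹) X) (hc : c ∈ cover62 k) :
    CentTwo k e (X.map (MulAut.conj c⁻¹).toMonoidHom) ∧
      Nat.card (X.map (MulAut.conj c⁻¹).toMonoidHom) = Nat.card X ∧
      ∀ y ∈ X.map (MulAut.conj c⁻¹).toMonoidHom, ∃ x ∈ X, y = c⁻¹ * x * c := by
  have hmem : ∀ y ∈ X.map (MulAut.conj c⁻¹).toMonoidHom, ∃ x ∈ X, y = c⁻¹ * x * c := by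
    rintro _ ⟨x, hx, rfl⟩
    exact ⟨x, hx, by simp [MulAut.conj_apply]⟩
  refine ⟨⟨fun y hy => ?_, fun y hy => ?_, h.two.map _, fun y hy => ?_⟩,
    Subgroup.card_map_of_injective (MulAut.conj c⁻¹).injective, hmem⟩
  · obtain ⟨x, hx, rfl⟩ := hmem y hy
    exact mul_mem (mul_mem (inv_mem hc) (h.le hx)) hc
  · obtain ⟨x, hx, rfl⟩ := hmem y hy
    calc c⁻¹ * x * c * e = c⁻¹ * (x * (c * e * c⁻¹)) * c := by group
      _ = c⁻¹ * ((c * e * c⁻¹) * x) * c := by rw [h.comm x hx]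
      _ = e * (c⁻¹ * x * c) := by group
  · obtain ⟨x, hx, rfl⟩ := hmem y hy
    rw [show c⁻¹ * x * c * (c⁻¹ * x * c) = c⁻¹ * (x * x) * c by group]
    rcases h.sq x hx with e' | e' <;> rw [e']
    · left; group
    · right; group

theorem inner_card_fix (hk : k < 3) {e0 : SUV} (he0 : e0 ∈ cover62 k) (h1 : e0 ≠ 1) (h2 : e0 * e0 = 1) :
    Nat.card {v : Fin 6 → K4 // e0 • v = v} = 256 := by
  obtain ⟨e, c, he, -, rfl⟩ := exists_frame_eps hk he0 h1 h2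
  rw [← eps_card_fix hk he]
  refine Nat.card_congr ((MulAction.toPerm c⁻¹).subtypeEquiv fun v => ?_)
  show (c * e * c⁻¹) • v = v ↔ e • c⁻¹ • v = c⁻¹ • v
  rw [mul_smul, mul_smul]
  exact ⟨fun h => by rw [← inv_smul_smul c (e • c⁻¹ • v), h], fun h => by rw [h, smul_inv_smul]⟩

theorem inner_sq_bound (hk : k < 3) {e0 : SUV} (he0 : e0 ∈ cover62 k) (h1 : e0 ≠ 1) (h2 : e0 * e0 = 1)
    {X : Subgroup SUV} (hX : CentTwo k e0 X) : Nat.card X < 64 := by
  obtain ⟨e, c, he, hc, rfl⟩ := exists_frame_eps hk he0 h1 h2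
  obtain ⟨h, hcard, -⟩ := hX.map hc
  exact hcard ▸ sq_bound hk he _ h.le h.comm h.two h.sq

theorem inner_plane_bound (hk : k < 3) {e0 : SUV} (he0 : e0 ∈ cover62 k) (h1 : e0 ≠ 1) (h2 : e0 * e0 = 1)
    {X : Subgroup SUV} (hX : CentTwo k e0 X) (v₁ v₂ : Fin 6 → K4) (hmov : ∀ x ∈ X, ∀ v, e0 • v = v →
      x • v + v = 0 ∨ x • v + v = e0 • v₁ + v₁ ∨ x • v + v = e0 • v₂ + v₂ ∨
        x • v + v = e0 • v₁ + v₁ + (e0 • v₂ + v₂)) :
    Nat.card X < 32 := by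
  obtain ⟨e, c, he, hc, rfl⟩ := exists_frame_eps hk he0 h1 h2
  obtain ⟨h, hcard, hmem⟩ := hX.map hc
  have hw : ∀ u, c⁻¹ • ((c * e * c⁻¹) • u + u) = e • (c⁻¹ • u) + c⁻¹ • u := fun u => by
    rw [smul_add', mul_smul, mul_smul, inv_smul_smul]
  refine hcard ▸ plane_bound hk he _ h.le h.comm h.two h.sq (c⁻¹ • v₁) (c⁻¹ • v₂) fun y hy v hv => ?_
  obtain ⟨x, hx, rfl⟩ := hmem y hy
  have hfix : (c * e * c⁻¹) • c • v = c • v := by rw [mul_smul, mul_smul, inv_smul_smul, hv]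
  have hval : (c⁻¹ * x * c) • v + v = c⁻¹ • (x • c • v + c • v) := by
    rw [smul_add', inv_smul_smul, mul_smul, mul_smul]
  rw [hval]
  rcases hmov x hx _ hfix with e' | e' | e' | e' <;> rw [e']
  · left; rw [smul_def, Matrix.mulVec_zero]
  · right; left; rw [hw]
  · right; right; left; rw [hw]
  · right; right; right; rw [smul_add', hw, hw]

theorem inner_line_bound (hk : k < 3) {e0 : SUV} (he0 : e0 ∈ cover62 k) (h1 : e0 ≠ 1) (h2 : e0 * e0 = 1)
    {X : Subgroup SUV} (hX : CentTwo k e0 X) (u : Fin 6 → K4) (hu : e0 • u = u) (hiso : hermForm 6 K4 2 u u = 0)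
    (hout : ∀ v, e0 • v + v ≠ u) (hmov : ∀ x ∈ X, ∀ v, e0 • v = v → T6 v u = 0 →
      x • v + v = 0 ∨ x • v + v = u) :
    Nat.card X < 32 := by
  obtain ⟨e, c, he, hc, rfl⟩ := exists_frame_eps hk he0 h1 h2
  obtain ⟨h, hcard, hmem⟩ := hX.map hc
  refine hcard ▸ line_bound hk he _ h.le h.comm h.two h.sq (c⁻¹ • u) ?_ ?_ (fun v hv => ?_) fun y hy v hv hT => ?_
  · conv_rhs => rw [← hu, mul_smul, mul_smul, inv_smul_smul]
  · rw [smul_herm, hiso]
  · refine hout (c • v) ?_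
    rw [mul_smul, mul_smul, inv_smul_smul, ← smul_add', hv, smul_inv_smul]
  · obtain ⟨x, hx, rfl⟩ := hmem y hy
    have hfix : (c * e * c⁻¹) • c • v = c • v := by rw [mul_smul, mul_smul, inv_smul_smul, hv]
    have hval : (c⁻¹ * x * c) • v + v = c⁻¹ • (x • c • v + c • v) := by
      rw [smul_add', inv_smul_smul, mul_smul, mul_smul]
    rw [hval]
    rcases hmov x hx _ hfix (by rw [← T6_smul c⁻¹, inv_smul_smul]; exact hT) with e' | e' <;> rw [e']
    · left; rw [smul_def, Matrix.mulVec_zero]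
    · right; rfl

end Cfsg.Agent.Fus.Fi24Red
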