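import Cfsg.Agent.Lib.Fus.Fi24Red.TransvChecks
import Cfsg.Agent.Lib.Fus.Fi24Red.Bound
import Cfsg.Agent.Lib.Fus.Fi24Red.Transport

/-!
A transvection at a point of the short orbit: induced by a linear element outside the part inducing `3.U₄(3)` when that
part has relative index two, with a lift centralising the whole preimage of its hyperplane.
-/

set_option autoImplicit false
set_option maxRecDepth 100000
set_option linter.style.haveILetI false
set_option linter.unusedSectionVars false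

open Cfsg Cfsg.Agent.Classical Cfsg.Agent.Spor Cfsg.Agent.Spor.LargeFischer Matrix
open Cfsg.Agent.Spor.USixTwo (K4 vecOf)
open Cfsg.Agent.Spor.U62U43 (cover62)
open Cfsg.Agent.Fus.LargeFischerScalar (ω k4_facts k4_cases herm_bit)

namespace Cfsg.Agent.Fus.Fi24Red

variable {k : ℕ}

theorem enc6_add (u w : Fin 6 → K4) : enc6 (u + w) = enc6 u ^^^ enc6 w :=
  eq_code (by rw [vecOf_xor, vecOf_enc6, vecOf_enc6]) (Nat.xor_lt_two_pow (n := 12) (enc6_lt u) (enc6_lt w))

theorem hyp_facts (hk : k < 3) : (∀ x ∈ tvL k, x < 4096) ∧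
    (∀ b ∈ tvB k, b < 4096 ∧ app (tvL k) b = b) ∧
    (tvV k < 4096 ∧ app (tvL k) (tvV k) ≠ tvV k) ∧
    ((tvB k).getD 1 0 ∉ [0, (tvB k).getD 0 0, omC ((tvB k).getD 0 0),
      omC ((tvB k).getD 0 0) ^^^ (tvB k).getD 0 0] ∧ (tvB k).getD 0 0 ≠ 0) ∧
    ((List.range 4096).countP fun c => Nat.beq (app (tvL k) c) c) = 1024 ∧
    (∀ j < 12, 2 ^ j ∈ ((tvB k) ++ [tvV k]).foldl spanStep [0]) ∧
    ∀ c ∈ tvLine k, (dat k).labC c ≠ 2 ∧ app (tvL k) c = c := by
  have h := hyp_ok k hk
  simp only [chkHyp, Bool.and_eq_true, List.all_eq_true, List.mem_range, Nat.beq_eq, Nat.blt_eq,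
    List.contains_iff_mem, Bool.not_eq_true', Bool.eq_false_iff, ne_eq] at h
  obtain ⟨⟨⟨⟨⟨⟨⟨⟨⟨h1, -⟩, h3⟩, h4⟩, h5⟩, h6⟩, h7⟩, h8⟩, h9⟩, h10⟩ := h
  exact ⟨h1, h3, ⟨h4, h5⟩, ⟨h6, h7⟩, h8, h9, h10⟩

theorem tvL_lt (hk : k < 3) : ∀ c, app (tvL k) c < 4096 := app_lt (hyp_facts hk).1

/-- The transvection. -/
def tvF (k : ℕ) (v : Fin 6 → K4) : Fin 6 → K4 := vecOf (app (tvL k) (enc6 v))

theorem tvF_code {c : ℕ} (hc : c < 4096) : tvF k (vecOf c) = vecOf (app (tvL k) c) := by
  rw [tvF, enc6_vecOf hc]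

theorem tvF_add (u w : Fin 6 → K4) : tvF k (u + w) = tvF k u + tvF k w := by
  rw [tvF, tvF, tvF, enc6_add, app_xor', vecOf_xor]

theorem tvF_zero (_hk : k < 3) : tvF k 0 = 0 := by
  have h := tvF_add (k := k) 0 0
  rw [add_zero] at h
  exact left_eq_add.1 h

theorem tv_facts (hk : k < 3) {c : ℕ} (hc : c < 4096) : app (tvL k) (app (tvL k) c) = c ∧
    app (tvL k) (omC c) = omC (app (tvL k) c) ∧ (dat k).labC (app (tvL k) c) = (dat k).labC c ∧
    app (tvL k) c ^^^ c ∈ tvLine k := by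
  have h := tv_ok k hk
  simp only [chkTv, Bool.and_eq_true, List.all_eq_true, List.mem_range, Nat.beq_eq, List.contains_iff_mem] at h
  obtain ⟨⟨⟨h1, h2⟩, h3⟩, h4⟩ := h c hc
  exact ⟨h1, h2, h3, h4⟩

theorem tvF_invol (hk : k < 3) (v : Fin 6 → K4) : tvF k (tvF k v) = v := by
  rw [tvF, tvF, enc6_vecOf (tvL_lt hk _), (tv_facts hk (enc6_lt v)).1, vecOf_enc6]

theorem tvF_om (hk : k < 3) (v : Fin 6 → K4) : tvF k (ω • v) = ω • tvF k v := by
  conv_lhs => rw [← vecOf_enc6 v, ← omC_sound _ (enc6_lt v)]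
  rw [tvF_code (omC_lt _), (tv_facts hk (enc6_lt v)).2.1, omC_sound _ (tvL_lt hk _)]
  rfl

theorem tvF_lab (hk : k < 3) (v : Fin 6 → K4) : labV k (tvF k v) = labV k v := by
  rw [labV, labV, tvF, enc6_vecOf (tvL_lt hk _), (tv_facts hk (enc6_lt v)).2.2.1]

/-- The transvection as a permutation. -/
def tvP (hk : k < 3) : Equiv.Perm (Fin 6 → K4) := Function.Involutive.toPerm (tvF k) (tvF_invol hk)

theorem tvP_mem (hk : k < 3) : tvP hk ∈ labGroup k := by
  have hiso : ∀ v : Fin 6 → K4, hermForm 6 K4 2 v v = 0 → hermForm 6 K4 2 (tvF k v) (tvF k v) = 0 := by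
    intro v hv
    by_cases h0 : v = 0
    · rw [h0, tvF_zero hk]; rw [h0] at hv; exact hv
    have hl := lab_pos hk h0 hv
    rcases lab_facts hk (tvF k v) with ⟨e, -⟩ | ⟨-, -, e⟩
    · rw [tvF_lab hk] at e; omega
    · exact e
  have hnorm : ∀ v, hermForm 6 K4 2 (tvF k v) (tvF k v) = hermForm 6 K4 2 v v := fun v => by
    rcases herm_bit v with e | e
    · rw [hiso v e, e]
    · rw [e]
      refine (herm_bit _).resolve_left fun e0 => ?_
      have := hiso _ e0
      rw [tvF_invol hk, e] at this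
      exact one_ne_zero this
  refine ⟨tvF_add, tvF_om hk, tvF_lab hk, fun u w => ?_⟩
  exact herm_preserve
    { toFun := tvF k
      map_add' := tvF_add
      map_smul' := fun a v => by
        rcases k4_cases a with rfl | rfl | rfl | rfl
        · simp [tvF_zero hk]
        · simp
        · exact tvF_om hk v
        · show tvF k ((ω * ω) • v) = (ω * ω) • tvF k v
          rw [← smul_smul, tvF_om hk, tvF_om hk, smul_smul] }
    hnorm u w

/-- The hyperplane. -/
def tvW (k : ℕ) : AddSubgroup (Fin 6 → K4) :=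
  (AddMonoidHom.mk' (fun v => tvF k v + v) fun u w => by rw [tvF_add]; abel).ker

theorem mem_tvW {v : Fin 6 → K4} : v ∈ tvW k ↔ tvF k v = v := by
  show tvF k v + v = 0 ↔ _
  refine ⟨fun h => ?_, fun h => by rw [h, neg_self6]⟩
  calc tvF k v = (tvF k v + v) + v := by rw [add_assoc, neg_self6, add_zero]
    _ = v := by rw [h, zero_add]

theorem tvW_code {c : ℕ} (hc : c < 4096) (hk : k < 3) : vecOf c ∈ tvW k ↔ app (tvL k) c = c := by
  rw [mem_tvW, tvF_code hc]
  exact ⟨fun h => by rw [← enc6_vecOf (tvL_lt hk c), h, enc6_vecOf hc], fun h => by rw [h]⟩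

theorem card_tvW (hk : k < 3) : Nat.card (tvW k) = 1024 := by
  let f : Fin 4096 ≃ (Fin 6 → K4) :=
    ⟨fun c => vecOf c.1, fun v => ⟨enc6 v, enc6_lt v⟩, fun c => Fin.ext (enc6_vecOf c.2), vecOf_enc6⟩
  rw [← Nat.card_congr (f.subtypeEquiv (p := fun c : Fin 4096 => app (tvL k) c.1 = c.1)
    fun c => (tvW_code c.2 hk).symm), Nat.card_eq_fintype_card, Fintype.card_subtype, ← (hyp_facts hk).2.2.2.2.1,
    List.countP_eq_length_filter, ← List.toFinset_card_of_nodup (List.nodup_range.filter _)]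
  refine Finset.card_bij (fun c _ => c.1) (fun c hc => ?_) (fun a _ b _ e' => Fin.ext e') fun c hc => ?_
  · simpa [List.mem_filter, Nat.beq_eq] using (Finset.mem_filter.1 hc).2
  · rw [List.mem_toFinset, List.mem_filter, List.mem_range, Nat.beq_eq] at hc
    exact ⟨⟨c, hc.1⟩, Finset.mem_filter.2 ⟨Finset.mem_univ _, hc.2⟩, rfl⟩

/-- A span stays inside a set closed under addition. -/
theorem span_closed (P : ℕ → Prop) (hxor : ∀ a b, P a → P b → P (a ^^^ b)) :
    ∀ (l S : List ℕ), (∀ b ∈ l, P b ∧ P (omC b)) → (∀ x ∈ S, P x) → ∀ x ∈ l.foldl spanStep S, P x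
  | [], _, _, hS => hS
  | b :: l, S, hl, hS => by
    refine span_closed P hxor l _ (fun c hc => hl c (List.mem_cons_of_mem _ hc)) fun x hx => ?_
    obtain ⟨hb, ho⟩ := hl b List.mem_cons_self
    simp only [spanStep, List.mem_append, List.mem_map] at hx
    rcases hx with ((hx | ⟨y, hy, rfl⟩) | ⟨y, hy, rfl⟩) | ⟨y, hy, rfl⟩
    · exact hS x hx
    · exact hxor _ _ hb (hS y hy)
    · exact hxor _ _ ho (hS y hy)
    · exact hxor _ _ (hxor _ _ ho hb) (hS y hy)

theorem tvB_facts (hk : k < 3) : ∀ b ∈ tvB k, b < 4096 ∧ vecOf b ∈ tvW k ∧ vecOf (omC b) ∈ tvW k := by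
  intro b hb
  obtain ⟨h1, h2⟩ := (hyp_facts hk).2.1 b hb
  have hw := (tvW_code h1 hk).2 h2
  exact ⟨h1, hw, by rw [omC_sound b h1, mem_tvW, tvF_om hk, mem_tvW.1 hw]⟩

/-- The line: the members of the line of the centre. -/
theorem line_facts (hk : k < 3) {v : Fin 6 → K4} (h : enc6 v ∈ tvLine k) : labV k v ≠ 2 ∧ v ∈ tvW k := by
  obtain ⟨h1, h2⟩ := (hyp_facts hk).2.2.2.2.2.2 _ h
  exact ⟨h1, vecOf_enc6 v ▸ (tvW_code (enc6_lt v) hk).2 h2⟩

theorem moved_line (hk : k < 3) (v : Fin 6 → K4) : enc6 (tvF k v + v) ∈ tvLine k := by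
  rw [enc6_add, tvF, enc6_vecOf (tvL_lt hk _)]
  exact (tv_facts hk (enc6_lt v)).2.2.2

theorem moved_W (hk : k < 3) (v : Fin 6 → K4) : tvF k v + v ∈ tvW k := (line_facts hk (moved_line hk v)).2

/-- The orthogonal of the hyperplane is the line. -/
theorem perp_line (hk : k < 3) {v : Fin 6 → K4} (h : ∀ w ∈ tvW k, T6 v w = 0) : enc6 v ∈ tvLine k := by
  have hp := perp_ok k hk
  simp only [chkPerp, Bool.and_eq_true, List.all_eq_true, List.mem_range, Bool.or_eq_true, List.any_eq_true,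
    List.contains_iff_mem] at hp
  refine (hp.1 _ (enc6_lt v)).resolve_left ?_
  rintro ⟨b, hb, ht⟩
  simp only [tvB2, List.mem_flatten, List.mem_map] at hb
  obtain ⟨_, ⟨a, ha, rfl⟩, hb⟩ := hb
  obtain ⟨-, h1, h2⟩ := tvB_facts hk a ha
  have hw : vecOf b ∈ tvW k := by
    simp only [List.mem_cons, List.not_mem_nil, or_false] at hb
    rcases hb with rfl | rfl
    exacts [h1, h2]
  have := h _ hw
  rw [← vecOf_enc6 v, T6_code_zero, ht] at this
  exact absurd this (by decide)

theorem line_card (_hk : k < 3) (S : Set (Fin 6 → K4)) (hS : ∀ v ∈ S, enc6 v ∈ tvLine k) : S.ncard ≤ 4 := by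
  refine le_trans (Set.ncard_le_ncard_of_injOn enc6 (t := {c | c ∈ tvLine k}) hS
    (fun a _ b _ e => by rw [← vecOf_enc6 a, e, vecOf_enc6]) (List.finite_toSet _)) ?_
  rw [← List.coe_toFinset, Set.ncard_coe_finset]
  exact (List.toFinset_card_le _).trans (by simp [tvLine])

variable {G : Type*} [Group G] [Finite G] {z : G} {Q : Subgroup (Subgroup.centralizer ({z} : Set G))}
  [hQn : Q.Normal]

namespace Frame

variable (F : Frame z Q)

/-- An element inducing the transvection. -/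
theorem exists_act_tv (h2 : F.M.relIndex F.linPart = 2) :
    ∃ d : Subgroup.centralizer ({z} : Set G), d ∈ F.linPart ∧ d ∉ F.M ∧ ∀ v, F.act d v = tvF F.k v := by
  obtain ⟨⟨d, hd⟩, he⟩ : tvP F.hk ∈ F.linPerm.range := F.range_eq_labGroup h2 ▸ tvP_mem F.hk
  have hact : ∀ v, F.act d v = tvF F.k v := fun v => congrArg (fun e : Equiv.Perm (Fin 6 → K4) => e v) he
  refine ⟨d, hd, fun hdM => ?_, hact⟩
  have hfix : ∀ v, F.lin ⟨d, hdM⟩ • v = tvF F.k v := fun v => by rw [← F.lin_act, ← hact]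
  obtain ⟨hv, hv'⟩ := (hyp_facts F.hk).2.2.1
  have h1 : F.lin ⟨d, hdM⟩ ≠ 1 := fun e => by
    have := hfix (vecOf (tvV F.k))
    rw [e, one_smul, tvF_code hv] at this
    have h' := congrArg enc6 this
    rw [enc6_vecOf hv, enc6_vecOf (tvL_lt F.hk _)] at h'
    exact hv' h'.symm
  have hsq : F.lin ⟨d, hdM⟩ * F.lin ⟨d, hdM⟩ = 1 :=
    suVal_ext (Matrix.toLin'.injective (LinearMap.ext fun v => by
      rw [Matrix.toLin'_apply, Matrix.toLin'_apply, ← smul_def, ← smul_def, mul_smul, hfix, hfix, tvF_invol F.hk,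
        one_smul]))
  have h256 := inner_card_fix F.hk (F.lin_mem ⟨d, hdM⟩) h1 hsq
  have h1024 := card_tvW F.hk
  rw [show Nat.card (tvW F.k) = Nat.card {v : Fin 6 → K4 // F.lin ⟨d, hdM⟩ • v = v} from
    Nat.card_congr (Equiv.subtypeEquivRight fun v => by rw [mem_tvW, hfix]), h256] at h1024
  omega

set_option maxHeartbeats 1600000 in
/-- A lift centralising the preimage of the hyperplane. -/
theorem exists_tv (h2 : F.M.relIndex F.linPart = 2) :
    ∃ d : Subgroup.centralizer ({z} : Set G), d ∈ F.linPart ∧ d ∉ F.M ∧ (∀ v, F.act d v = tvF F.k v) ∧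
      ∀ y : Q, F.rep y ∈ tvW F.k → (d : G) * gv y = gv y * (d : G) := by
  have hk := F.hk
  obtain ⟨d₀, hd₀, hd₀M, hact₀⟩ := F.exists_act_tv h2
  have hp := perp_ok F.k hk
  simp only [chkPerp, Bool.and_eq_true, List.all_eq_true, List.mem_range, Nat.blt_eq, beq_iff_eq] at hp
  choose x hx using fun i : ℕ => F.rep_surj (vecOf ((tvB2 F.k).getD i 0))
  have hlen : (tvB F.k).length = 5 := by
    have : ∀ j < 3, (tvB j).length = 5 := by decide
    exact this _ hk
  have hmemB : ∀ c ∈ tvB2 F.k, vecOf c ∈ tvW F.k := fun c hc => by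
    simp only [tvB2, List.mem_flatten, List.mem_map] at hc
    obtain ⟨_, ⟨a, ha, rfl⟩, hc⟩ := hc
    obtain ⟨-, h1, h2⟩ := tvB_facts hk a ha
    simp only [List.mem_cons, List.not_mem_nil, or_false] at hc
    rcases hc with rfl | rfl
    exacts [h1, h2]
  have hlen2 : (tvB2 F.k).length = 10 := by
    have : ∀ j < 3, (tvB2 j).length = 10 := by decide
    exact this _ hk
  have hxW : ∀ i < 10, F.rep (x i) ∈ tvW F.k := fun i hi => by
    rw [hx, List.getD_eq_getElem _ _ (hlen2 ▸ hi)]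
    exact hmemB _ (List.getElem_mem _)
  have step : ∀ n ≤ 10, ∃ d : Subgroup.centralizer ({z} : Set G), d ∈ F.linPart ∧ d ∉ F.M ∧
      (∀ v, F.act d v = tvF F.k v) ∧ ∀ i < n, (d : G) * gv (x i) * (d : G)⁻¹ = gv (x i) := by
    intro n hn
    induction n with
    | zero => exact ⟨d₀, hd₀, hd₀M, hact₀, fun i hi => absurd hi (Nat.not_lt_zero _)⟩
    | succ n ih =>
      obtain ⟨d, hd, hdM, hact, hcom⟩ := ih (by omega)
      have hfix : F.rep (qconj d (x n)) = F.rep (x n) := by
        rw [← F.act_rep, hact, mem_tvW.1 (hxW n (by omega))]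
      rcases F.rep_eq hfix.symm with e | e
      · refine ⟨d, hd, hdM, hact, fun i hi => ?_⟩
        rcases Nat.lt_succ_iff_lt_or_eq.1 hi with hi | rfl
        · exact hcom i hi
        · exact e
      · obtain ⟨q, hq⟩ := F.rep_surj (vecOf ((tvD F.k).getD n 0))
        have hqM : (q : Subgroup.centralizer ({z} : Set G)) ∈ F.M := F.M_le q.2
        have hdel : ∀ i < 10, (gv q * gv (x i) = gv (x i) * gv q ↔ i ≠ n) := fun i hi => by
          rw [F.comm_iff, hq, hx i, T6_code_zero, (hp.2 n (by omega)).2 i hi]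
          exact ⟨fun h e => by simp [e] at h, fun h => by rw [Bool.eq_false_iff, ne_eq, Nat.beq_eq]; exact fun e => h e.symm⟩
        refine ⟨d * q, mul_mem hd (F.M_le_linPart hqM), fun h' => hdM (by simpa using mul_mem h' (inv_mem hqM)),
          fun v => by rw [F.act_mul, (F.act_ker _).2 q.2, hact], fun i hi => ?_⟩
        show ((d : G) * gv q) * gv (x i) * ((d : G) * gv q)⁻¹ = gv (x i)
        rw [show ((d : G) * gv q) * gv (x i) * ((d : G) * gv q)⁻¹ =
          (d : G) * (gv q * gv (x i) * (gv q)⁻¹) * (d : G)⁻¹ by group]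
        rcases Nat.lt_succ_iff_lt_or_eq.1 hi with hi' | rfl
        · rw [(hdel i (by omega)).2 (by omega), mul_inv_cancel_right]
          exact hcom i hi'
        · have hne : ¬ gv q * gv (x i) = gv (x i) * gv q := fun h' => ((hdel i (by omega)).1 h') rfl
          have hqx : gv q * gv (x i) * (gv q)⁻¹ = gv (x i) * z :=
            ((F.ext.conj_cases (mem_QG.2 ⟨x i, rfl⟩) (mem_QG.2 ⟨q, rfl⟩)).resolve_left hne).2
          have e' : (d : G) * gv (x i) * (d : G)⁻¹ = gv (x i) * z := e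
          calc (d : G) * (gv q * gv (x i) * (gv q)⁻¹) * (d : G)⁻¹
              = ((d : G) * gv (x i) * (d : G)⁻¹) * ((d : G) * z * (d : G)⁻¹) := by rw [hqx]; group
            _ = gv (x i) * z * z := by
              rw [e', show (d : G) * z = z * (d : G) from Subgroup.mem_centralizer_singleton_iff.1 d.2,
                mul_inv_cancel_right]
            _ = gv (x i) := by rw [mul_assoc, F.ext.zz, mul_one]
  obtain ⟨d, hd, hdM, hact, hcom⟩ := step 10 le_rfl
  refine ⟨d, hd, hdM, hact, fun y hy => ?_⟩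
  have hz : (d : G) * z = z * (d : G) := Subgroup.mem_centralizer_singleton_iff.1 d.2
  let P : ℕ → Prop := fun c => ∃ w : Q, F.rep w = vecOf c ∧ (d : G) * gv w = gv w * (d : G)
  have hP : ∀ c ∈ (tvB F.k).foldl spanStep [0], P c := by
    refine span_closed P ?_ _ _ (fun b hb => ?_) fun c hc => ?_
    · rintro a b ⟨u, hu, hu'⟩ ⟨w, hw, hw'⟩
      refine ⟨u * w, by rw [F.rep_mul, hu, hw, vecOf_xor], ?_⟩
      show (d : G) * (gv u * gv w) = gv u * gv w * (d : G)
      rw [← mul_assoc, hu', mul_assoc, hw', mul_assoc]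
    · have h1 : ∀ c ∈ tvB2 F.k, P c := fun c hc => by
        obtain ⟨i, hi, rfl⟩ := List.getElem_of_mem hc
        exact ⟨x i, by rw [hx, List.getD_eq_getElem _ _ hi],
          mul_inv_eq_iff_eq_mul.1 (hcom i (hlen2 ▸ hi))⟩
      have hmem : b ∈ tvB2 F.k ∧ omC b ∈ tvB2 F.k := by
        simp only [tvB2, List.mem_flatten, List.mem_map]
        exact ⟨⟨_, ⟨b, hb, rfl⟩, by simp⟩, ⟨_, ⟨b, hb, rfl⟩, by simp⟩⟩
      exact ⟨h1 _ hmem.1, h1 _ hmem.2⟩
    · rw [List.mem_singleton] at hc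
      subst hc
      exact ⟨1, by rw [F.rep_one, vecOf_zero], show (d : G) * 1 = 1 * (d : G) by rw [mul_one, one_mul]⟩
  have hsp := spanW_ok F.k hk
  simp only [chkSpanW, List.all_eq_true, List.mem_range, Bool.or_eq_true, Bool.not_eq_true', List.contains_iff_mem] at hsp
  obtain ⟨w, hw, hwc⟩ := hP _ ((hsp _ (enc6_lt (F.rep y))).resolve_left (by
    rw [Bool.eq_false_iff, not_not, Nat.beq_eq]
    exact (tvW_code (enc6_lt _) hk).1 (by rw [vecOf_enc6]; exact hy)))
  rw [vecOf_enc6] at hw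
  rcases F.rep_eq hw with e | e
  · rw [e, hwc]
  · rw [e, ← mul_assoc, hwc, mul_assoc, hz, mul_assoc]

/-- An element fixing half of the hyperplane induces the identity or the transvection. -/
theorem act_cases (g : Subgroup.centralizer ({z} : Set G))
    (h : ∀ u ∈ tvW F.k, ∀ w ∈ tvW F.k, F.act g u = u ∨ F.act g w = w ∨ F.act g (u + w) = u + w) :
    (∀ v, F.act g v = v) ∨ ∀ v, F.act g v = tvF F.k v := by
  have hk := F.hk
  have hW : ∀ b ∈ tvB F.k, ∀ a : K4, a • vecOf b ∈ tvW F.k := fun b hb a => by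
    obtain ⟨-, h1, h2⟩ := tvB_facts hk b hb
    rcases k4_cases a with rfl | rfl | rfl | rfl
    · simp
    · simpa using h1
    · rw [mem_tvW, tvF_om hk, mem_tvW.1 h1]
    · rw [mem_tvW, ← smul_smul, tvF_om hk, tvF_om hk, mem_tvW.1 h1]
  have hsum : ω + 1 = ω * ω := by decide +kernel
  have hone : ∀ b ∈ tvB F.k, ∃ a : K4, a ≠ 0 ∧ F.act g (a • vecOf b) = a • vecOf b := fun b hb => by
    rcases h _ (hW b hb ω) _ (hW b hb 1) with e | e | e
    · exact ⟨ω, k4_facts.2.2.2.2.2, e⟩
    · exact ⟨1, one_ne_zero, e⟩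
    · rw [← add_smul, hsum] at e
      exact ⟨ω * ω, mul_ne_zero k4_facts.2.2.2.2.2 k4_facts.2.2.2.2.2, e⟩
  have hlin : F.Lin g := by
    refine (F.lin_cases g).resolve_right fun hs => ?_
    obtain ⟨hb01, hb00⟩ := (hyp_facts hk).2.2.2.1
    have hlen : (tvB F.k).length = 5 := by
      have : ∀ j < 3, (tvB j).length = 5 := by decide
      exact this _ hk
    have hmem : ∀ i < 2, (tvB F.k).getD i 0 ∈ tvB F.k := fun i hi => by
      rw [List.getD_eq_getElem _ _ (hlen ▸ (by omega : i < 5))]; exact List.getElem_mem _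
    obtain ⟨a1, ha1, e1⟩ := hone _ (hmem 0 (by omega))
    obtain ⟨a2, ha2, e2⟩ := hone _ (hmem 1 (by omega))
    set b0 := (tvB F.k).getD 0 0
    set b1 := (tvB F.k).getD 1 0
    have hx : a1 • vecOf b0 + a2 • vecOf b1 ≠ 0 := fun e => hb01 (by
      have hb : vecOf b1 = (a2⁻¹ * a1) • vecOf b0 := by
        rw [← smul_smul, show a1 • vecOf b0 = a2 • vecOf b1 from
          (eq_neg_of_add_eq_zero_left e).trans (neg_eq_of_add_eq_zero_left (neg_self6 _)), inv_smul_smul₀ ha2]
      have hl0 := (tvB_facts hk _ (hmem 0 (by omega))).1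
      have hl1 := (tvB_facts hk _ (hmem 1 (by omega))).1
      have hc : ∀ {c}, vecOf b1 = vecOf c → c < 4096 → b1 = c := fun hv hc' => by
        rw [← enc6_vecOf (c := b1) hl1, hv, enc6_vecOf hc']
      rcases k4_cases (a2⁻¹ * a1) with e' | e' | e' | e' <;> rw [e'] at hb
      · rw [zero_smul, ← vecOf_zero] at hb
        simp [hc hb (by norm_num)]
      · rw [one_smul] at hb
        simp [hc hb hl0]
      · rw [← omC_sound b0 hl0] at hb
        rw [hc hb (omC_lt _)]; simp
      · rw [← hsum, add_smul, one_smul, ← omC_sound b0 hl0, ← vecOf_xor] at hb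
        rw [hc hb (Nat.xor_lt_two_pow (n := 12) (omC_lt _) hl0)]; simp)
    have hfix : ∀ v, F.act g v = v → ω • v ∈ tvW F.k → F.act g (ω • v) = ω • v → v = 0 := fun v hv _ e => by
      rw [hs, hv] at e
      by_contra h0
      obtain ⟨i, hi⟩ := Function.ne_iff.1 h0
      exact k4_facts.2.2.2.1 (mul_right_cancel₀ hi (congrFun e i))
    have hne : ∀ {b : ℕ} {a : K4}, b ∈ tvB F.k → a ≠ 0 → F.act g (a • vecOf b) = a • vecOf b → vecOf b ≠ 0 →
        F.act g (ω • a • vecOf b) ≠ ω • a • vecOf b := fun hb ha e h0 e' =>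
      h0 ((smul_eq_zero.1 (hfix _ e (by rw [smul_smul]; exact hW _ hb _) e')).resolve_left ha)
    have hb0 : vecOf b0 ≠ 0 := fun e => by
      rw [← vecOf_zero] at e
      have := congrArg enc6 e
      rw [enc6_vecOf (tvB_facts hk _ (hmem 0 (by omega))).1, enc6_vecOf (by norm_num)] at this
      exact hb00 this
    have hb1 : vecOf b1 ≠ 0 := fun e => by
      rw [← vecOf_zero] at e
      have := congrArg enc6 e
      rw [enc6_vecOf (tvB_facts hk _ (hmem 1 (by omega))).1, enc6_vecOf (by norm_num)] at this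
      exact hb01 (by rw [show b1 = 0 from this]; simp)
    rcases h (ω • a1 • vecOf b0) (by rw [smul_smul]; exact hW _ (hmem 0 (by omega)) (ω * a1)) (ω • a2 • vecOf b1)
      (by rw [smul_smul]; exact hW _ (hmem 1 (by omega)) (ω * a2)) with e | e | e
    · exact hne (hmem 0 (by omega)) ha1 e1 hb0 e
    · exact hne (hmem 1 (by omega)) ha2 e2 hb1 e
    · refine hx (hfix _ (by rw [F.act_add, e1, e2]) ?_ ?_)
      · rw [smul_add, smul_smul, smul_smul]
        exact add_mem (hW _ (hmem 0 (by omega)) _) (hW _ (hmem 1 (by omega)) _)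
      · rw [smul_add]; exact e
  have hB : ∀ b ∈ tvB F.k, F.act g (vecOf b) = vecOf b := fun b hb => by
    obtain ⟨a, ha, e⟩ := hone b hb
    have hs : ∀ (c : K4) (v : Fin 6 → K4), F.act g (c • v) = c • F.act g v := fun c v => by
      rcases k4_cases c with rfl | rfl | rfl | rfl
      · simp [F.act_zero]
      · simp
      · exact hlin v
      · rw [← smul_smul, hlin, hlin, smul_smul]
    rw [hs] at e
    exact smul_right_injective _ ha e
  have hv0 : tvV F.k < 4096 := (hyp_facts hk).2.2.1.1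
  have himg := img_ok F.k hk
  simp only [chkImg, List.all_eq_true, List.mem_range, Bool.or_eq_true, Nat.beq_eq, Bool.not_eq_true',
    List.any_eq_true] at himg
  have hy := himg (enc6 (F.act g (vecOf (tvV F.k)))) (enc6_lt _)
  have hherm : ∀ {b}, F.act g (vecOf b) = vecOf b →
      hermC (enc6 (F.act g (vecOf (tvV F.k)))) b = hermC (tvV F.k) b := fun {b} hb => by
    have e := F.herm_lin hlin (vecOf (tvV F.k)) (vecOf b)
    rw [hb, ← vecOf_enc6 (F.act g (vecOf (tvV F.k))), hermC_sound, hermC_sound] at e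
    have hl := hermC_lt (enc6 (F.act g (vecOf (tvV F.k)))) b
    have hl' := hermC_lt (tvV F.k) b
    generalize hermC (enc6 (F.act g (vecOf (tvV F.k)))) b = p at e hl ⊢
    generalize hermC (tvV F.k) b = q at e hl' ⊢
    interval_cases p <;> interval_cases q <;> first | rfl | exact absurd e (by decide +kernel)
  have hnorm : hermC (enc6 (F.act g (vecOf (tvV F.k)))) (enc6 (F.act g (vecOf (tvV F.k)))) =
      hermC (tvV F.k) (tvV F.k) := by
    have e := F.norm_act g (vecOf (tvV F.k))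
    rw [← vecOf_enc6 (F.act g (vecOf (tvV F.k))), hermC_sound, hermC_sound] at e
    have hl := hermC_lt (enc6 (F.act g (vecOf (tvV F.k)))) (enc6 (F.act g (vecOf (tvV F.k))))
    have hl' := hermC_lt (tvV F.k) (tvV F.k)
    generalize hermC (enc6 (F.act g (vecOf (tvV F.k)))) _ = p at e hl ⊢
    generalize hermC (tvV F.k) (tvV F.k) = q at e hl' ⊢
    interval_cases p <;> interval_cases q <;> first | rfl | exact absurd e (by decide +kernel)
  have hext : ∀ (T : (Fin 6 → K4) → (Fin 6 → K4)), (∀ u w, T (u + w) = T u + T w) → T 0 = 0 →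
      (∀ v, T (ω • v) = ω • T v) → (∀ b ∈ tvB F.k, T (vecOf b) = vecOf b) →
      F.act g (vecOf (tvV F.k)) = T (vecOf (tvV F.k)) → ∀ v, F.act g v = T v := by
    intro T hadd h0 hom hTB hTv v
    let E := (AddMonoidHom.mk' (F.act g) (F.act_add g)).eqLocusM (AddMonoidHom.mk' T hadd)
    let P : ℕ → Prop := fun c => F.act g (vecOf c) = T (vecOf c)
    have hP : ∀ c ∈ ((tvB F.k) ++ [tvV F.k]).foldl spanStep [0], P c := by
      refine span_closed P ?_ _ _ (fun b hb => ?_) fun c hc => ?_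
      · intro a b ha hb
        show F.act g (vecOf (a ^^^ b)) = T (vecOf (a ^^^ b))
        rw [vecOf_xor, F.act_add, hadd, ha, hb]
      · have hb' : b < 4096 ∧ P b := by
          rcases List.mem_append.1 hb with hb | hb
          · exact ⟨(tvB_facts hk b hb).1, (hB b hb).trans (hTB b hb).symm⟩
          · rw [List.mem_singleton] at hb; subst hb; exact ⟨hv0, hTv⟩
        refine ⟨hb'.2, ?_⟩
        show F.act g (vecOf (omC b)) = T (vecOf (omC b))
        rw [omC_sound b hb'.1, hlin, hom, hb'.2]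
      · rw [List.mem_singleton] at hc
        subst hc
        show F.act g (vecOf 0) = T (vecOf 0)
        rw [vecOf_zero, F.act_zero, h0]
    have h' := app_sound (AddMonoidHom.mk' (fun v => F.act g v + T v) (fun u w => by rw [F.act_add, hadd]; abel))
      (l := List.replicate 12 0) List.length_replicate (fun i hi => by
        show F.act g (vecOf (2 ^ i)) + T (vecOf (2 ^ i)) = _
        rw [show F.act g (vecOf (2 ^ i)) = T (vecOf (2 ^ i)) from hP _ ((hyp_facts hk).2.2.2.2.2.1 i hi), neg_self6,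
          List.getD_eq_getElem _ _ (by simpa using hi), List.getElem_replicate, vecOf_zero]) (enc6_lt v)
    have hz : app (List.replicate 12 0) (enc6 v) = 0 := by simp [app, List.replicate]
    rw [hz, vecOf_zero, AddMonoidHom.mk'_apply, vecOf_enc6] at h'
    exact (eq_neg_of_add_eq_zero_left h').trans (neg_eq_of_add_eq_zero_left (neg_self6 _))
  rcases hy with ((e | e) | e) | ⟨b, hb, e⟩
  · exact Or.inl (hext id (fun _ _ => rfl) rfl (fun _ => rfl) (fun _ _ => rfl) (by
      rw [← vecOf_enc6 (F.act g (vecOf (tvV F.k))), e]; rfl))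
  · exact Or.inr (hext (tvF F.k) tvF_add (tvF_zero hk) (tvF_om hk)
      (fun b hb => mem_tvW.1 (tvB_facts hk b hb).2.1) (by
        rw [← vecOf_enc6 (F.act g (vecOf (tvV F.k))), e, tvF_code hv0]))
  · rw [hnorm] at e; simp at e
  · rw [hherm (hB b hb)] at e; simp at e

end Frame

end Cfsg.Agent.Fus.Fi24Red
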