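import Cfsg.Agent.Lib.Fus.Fi24Red.Isolated
import Cfsg.Agent.Lib.Fus.Fi24Red.Outer
import Cfsg.Agent.Lib.Fus.Fi24Red.Transv
import Cfsg.Agent.Lib.Fus.Fi24Red.Transfer

/-!
At index four the transfer of a parity separates a transvection element: the group has a subgroup of index two.
-/

set_option autoImplicit false
set_option maxRecDepth 100000
set_option linter.style.haveILetI false
set_option linter.unusedSectionVars false

open Cfsg Cfsg.Agent.Classical Cfsg.Agent.Spor Cfsg.Agent.Spor.LargeFischer Matrix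
open Cfsg.Agent.Spor.USixTwo (K4 vecOf)
open Cfsg.Agent.Spor.U62U43 (cover62)

namespace Cfsg.Agent.Fus.Fi24Red

open scoped commutatorElement

theorem two_eq : ∀ a b : Multiplicative (ZMod 2), a ≠ 1 → b ≠ 1 → a = b := by decide

theorem line_iso : ∀ k < 3, ∀ c ∈ tvLine k, hermC c c = 0 := by decide +kernel

variable {G : Type*} [Group G] [Finite G] {z : G} {Q : Subgroup (Subgroup.centralizer ({z} : Set G))}
  [hQn : Q.Normal]

namespace Frame

theorem Pair.img_lt {F : Frame z Q} (p : F.Pair) (hs : p.s ∉ QG Q) : Nat.card p.img < 64 := by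
  by_cases hM : p.sH ∈ F.M
  · refine inner_sq_bound F.hk (F.lin_mem ⟨p.sH, hM⟩) (fun e => hs ?_) ?_ (p.img_cent hM)
    · exact mem_QG.2 ⟨⟨_, (F.lin_eq_one _).1 e⟩, rfl⟩
    · rw [← map_mul, show (⟨p.sH, hM⟩ : F.M) * ⟨p.sH, hM⟩ = 1 from Subtype.ext (Subtype.ext p.s_sq), map_one]
  · exact (p.img_outer hM).trans_lt (by norm_num)

variable (F : Frame z Q)

include F

theorem tv_moves : ∃ v, tvF F.k v ≠ v := by
  by_contra h
  push Not at h
  have h1 := card_tvW F.hk
  rw [show tvW F.k = ⊤ from eq_top_iff.2 fun v _ => mem_tvW.2 (h v), AddSubgroup.card_top, Nat.card_fun,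
    Nat.card_eq_fintype_card (α := K4), K4.card_eq, Nat.card_fin] at h1
  norm_num at h1

/-- A member of the centralising preimage. -/
theorem tv_centralizing {s : G} (hs : s * z = z * s)
    (hsc : ∀ y : Q, F.rep y ∈ tvW F.k → s * gv y = gv y * s) :
    ∀ w ∈ tvW F.k, F.act ⟨s, Subgroup.mem_centralizer_singleton_iff.2 hs⟩ w = w := by
  intro w hw
  obtain ⟨y, rfl⟩ := F.rep_surj w
  rw [F.act_rep]
  refine congrArg F.rep (Subtype.ext (Subtype.ext ?_))
  show s * gv y * s⁻¹ = gv y
  rw [hsc y hw, mul_inv_cancel_right]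

/-- No conjugate acts as the transvection and centralises the preimage of its hyperplane. -/
theorem no_tv_pair (p : F.Pair) (hact : ∀ v, F.act p.sH v = tvF F.k v)
    (hcom : ∀ y : Q, F.rep y ∈ tvW F.k → p.s * gv y = gv y * p.s) : False := by
  have hsQ : p.s ∉ QG Q := fun h => by
    obtain ⟨q, hq⟩ := mem_QG.1 h
    obtain ⟨v, hv⟩ := F.tv_moves
    refine hv ?_
    rw [← hact]
    exact (F.act_ker _).2 ((show p.sH = q from Subtype.ext hq.symm) ▸ q.2) v
  have hsymm : p.symm.s ∉ QG Q := fun h => by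
    obtain ⟨q, hq, e⟩ := F.z_mem_PG (g := p.g⁻¹) h
    have e' : p.g⁻¹ * q * p.g⁻¹⁻¹ = z := e
    refine hsQ ?_
    rw [show p.s = q from calc p.s = p.g * (p.g⁻¹ * q * p.g⁻¹⁻¹) * p.g⁻¹ := by rw [e']; rfl
      _ = q := by group]
    exact hq
  have hzn : z ∉ PG Q p.g := by
    rintro ⟨q, hq, e⟩
    have e' : p.g * q * p.g⁻¹ = z := e
    refine hsymm ?_
    show p.g⁻¹ * z * p.g⁻¹⁻¹ ∈ QG Q
    rw [show p.g⁻¹ * z * p.g⁻¹⁻¹ = q from calc p.g⁻¹ * z * p.g⁻¹⁻¹ = p.g⁻¹ * (p.g * q * p.g⁻¹) * p.g⁻¹⁻¹ := by rw [e']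
      _ = q := by group]
    exact hq
  have hker : ∀ v, v ∈ p.D.ker ↔ v ∈ tvW F.k := fun v => by rw [p.mem_fix, hact, mem_tvW]
  have hall : p.AllComm := by
    rintro y hy
    obtain ⟨y', rfl⟩ := mem_QG.1 hy.1
    exact (hcom y' (mem_tvW.2 (by rw [← hact]; exact p.mem_fx.1 hy))).symm
  have hI : Nat.card p.I ≤ 4 := by
    classical
    let S : Set (Fin 6 → K4) := {v | enc6 v ∈ tvLine F.k}
    have hS := line_card F.hk S fun _ h => h
    choose f hf using fun x : p.I => mem_QG.1 x.2.1
    have hmem : ∀ x : p.I, F.rep (f x) ∈ S := fun x => perp_line F.hk fun w hw => by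
      obtain ⟨y, rfl⟩ := F.rep_surj w
      refine (F.comm_iff (f x) y).1 ?_
      rw [show gv (f x) = x.1 from hf x]
      rcases F.ext.comm _ x.2.1 _ (mem_QG.2 ⟨y, rfl⟩) with e | e
      · exact commutatorElement_eq_one_iff_mul_comm.1 e
      · refine absurd (Eq.subst (motive := fun w => w ∈ PG Q p.g) e ?_) hzn
        rw [commutatorElement_def, show x.1 * gv y * x.1⁻¹ * (gv y)⁻¹ = x.1 * (gv y * x.1⁻¹ * (gv y)⁻¹) by group]
        exact mul_mem x.2.2 ((F.ext.map_conj p.g).norm _ (hcom y hw).symm _ (inv_mem x.2.2))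
    refine le_trans (Nat.card_le_card_of_injective (fun x : p.I => (⟨F.rep (f x), hmem x⟩ : S)) fun a b e => ?_)
      (by rw [Nat.card_coe_set_eq]; exact hS)
    rcases F.rep_eq (congrArg Subtype.val e) with e' | e'
    · exact Subtype.ext (by rw [← hf a, ← hf b]; exact e'.symm)
    · refine absurd ?_ hzn
      have h := (PG Q p.g).mul_mem ((PG Q p.g).inv_mem a.2.2) b.2.2
      rwa [show a.1⁻¹ * b.1 = z by rw [← hf a, ← hf b]; exact inv_mul_eq_iff_eq_mul.2 e'] at h
  have h1 := p.card_CJ.2 hall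
  rw [show Nat.card p.D.ker = 1024 from
    (Nat.card_congr (Equiv.subtypeEquivRight hker)).trans (card_tvW F.hk)] at h1
  have h2 := p.card_CJ_le.trans (Nat.mul_le_mul_left 4 (Nat.mul_le_mul_right _ hI))
  have h3 := p.symm.img_lt hsymm
  omega

/-- At index four there is a subgroup of index two containing `z`. -/
theorem exists_index_two (h4 : F.M.index = 4) (hexp : ∀ h, h * h ∈ F.M)
    (hsemi : ∃ e, e ∉ F.linPart) :
    ∃ G₀ : Subgroup G, G₀.index = 2 ∧ z ∈ G₀ ∧ ∃ d : Subgroup.centralizer ({z} : Set G), (d : G) ∉ G₀ := by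
  classical
  haveI := F.M_normal
  obtain ⟨e, he⟩ := hsemi
  have hl2 : F.linPart.index = 2 :=
    F.linPart_index.resolve_left fun h => he (Subgroup.index_eq_one.1 h ▸ Subgroup.mem_top e)
  have hrel : F.M.relIndex F.linPart = 2 := by
    have hmul := Subgroup.relIndex_mul_index F.M_le_linPart
    rw [hl2, h4] at hmul
    omega
  obtain ⟨d, hd, hdM, hact, hcd⟩ := F.exists_tv hrel
  -- the parity
  let K₁ : Subgroup (Subgroup.centralizer ({z} : Set G)) := (Subgroup.zpowers (QuotientGroup.mk' F.M e)).comap (QuotientGroup.mk' F.M)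
  have hK1 : K₁.index = 2 := by
    rw [Subgroup.index_comap_of_surjective _ (QuotientGroup.mk'_surjective _)]
    have ho : Nat.card (Subgroup.zpowers (QuotientGroup.mk' F.M e)) = 2 := by
      rw [Nat.card_zpowers]
      refine orderOf_eq_prime ?_ fun h => he (F.M_le_linPart ((QuotientGroup.eq_one_iff e).1 h))
      rw [pow_two, ← map_mul]
      exact (QuotientGroup.eq_one_iff _).2 (hexp e)
    have h := (Subgroup.zpowers (QuotientGroup.mk' F.M e)).card_mul_index
    rw [ho, ← Subgroup.index_eq_card, h4] at h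
    omega
  have hMK : F.M ≤ K₁ := fun m hm => by
    show QuotientGroup.mk' F.M m ∈ Subgroup.zpowers _
    rw [show QuotientGroup.mk' F.M m = 1 from (QuotientGroup.eq_one_iff m).2 hm]
    exact one_mem _
  have hdK : d ∉ K₁ := fun h => by
    obtain ⟨i, hi⟩ := h
    rcases Int.even_or_odd i with ⟨j, rfl⟩ | ⟨j, rfl⟩
    · refine hdM ((QuotientGroup.eq_one_iff d).1 ?_)
      refine hi.symm.trans ?_
      show QuotientGroup.mk' F.M e ^ (j + j) = 1
      rw [← two_mul, _root_.zpow_mul, zpow_two, ← map_mul,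
        show QuotientGroup.mk' F.M (e * e) = 1 from (QuotientGroup.eq_one_iff _).2 (hexp e), _root_.one_zpow]
    · refine he ?_
      have hmem : e⁻¹ * d ∈ F.M := QuotientGroup.eq.1 (by
        refine Eq.trans ?_ hi
        show QuotientGroup.mk' F.M e = QuotientGroup.mk' F.M e ^ (2 * j + 1)
        rw [_root_.zpow_add_one, _root_.zpow_mul, zpow_two, ← map_mul,
          show QuotientGroup.mk' F.M (e * e) = 1 from (QuotientGroup.eq_one_iff _).2 (hexp e), _root_.one_zpow, one_mul])
      simpa using mul_mem hd (inv_mem (F.M_le_linPart hmem))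
  let χ : (Subgroup.centralizer ({z} : Set G)) →* Multiplicative (ZMod 2) := MonoidHom.mk' (fun h => if h ∈ K₁ then 1 else Multiplicative.ofAdd 1)
    fun a b => by
      have hab := Subgroup.mul_mem_iff_of_index_two hK1 (a := a) (b := b)
      by_cases ha : a ∈ K₁ <;> by_cases hb : b ∈ K₁ <;> simp_all <;> decide
  have hχM : ∀ m ∈ F.M, χ m = 1 := fun m hm => if_pos (hMK hm)
  have hχd : χ d ≠ 1 := by
    show (if d ∈ K₁ then _ else _) ≠ _
    rw [if_neg hdK]; decide
  -- the two-group
  let P : Subgroup G := (F.above (tvW F.k)).map ((Subgroup.centralizer ({z} : Set G)).subtype.comp Q.subtype)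
  have hPQ : P ≤ QG Q := by
    rintro _ ⟨y, -, rfl⟩
    exact mem_QG.2 ⟨y, rfl⟩
  have hPH : P ≤ (Subgroup.centralizer ({z} : Set G)) := hPQ.trans QG_le
  haveI : Fact (Nat.Prime 2) := ⟨Nat.prime_two⟩
  have hP2 : IsPGroup 2 P := (IsPGroup.of_card (n := 13) F.card_QG).to_le hPQ
  have hPd : ∀ p ∈ P, p * (d : G) = (d : G) * p := by
    rintro _ ⟨y, hy, rfl⟩
    exact (hcd y hy).symm
  have hzP : z ∈ P := ⟨⟨_, F.zq_mem⟩, show F.rep _ ∈ tvW F.k by
    rw [(F.rep_zero ⟨_, F.zq_mem⟩).2 (Or.inr rfl)]; exact zero_mem _, rfl⟩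
  -- the square
  have hj : ∀ x ∈ QG Q, (d : G) * (d : G) * x = x * ((d : G) * (d : G)) := by
    intro x hx
    obtain ⟨x, rfl⟩ := mem_QG.1 hx
    set j : Q := qconj d x * x⁻¹ with hjdef
    have hjr : F.rep j = tvF F.k (F.rep x) + F.rep x := by rw [F.rep_mul, F.rep_inv, ← F.act_rep, hact]
    have hjW := hcd j (hjr ▸ moved_W F.hk _)
    have hj2 : gv j * gv j = 1 := (F.sq_iff j).2 (by
      rw [nb, if_pos]
      rw [hjr, ← vecOf_enc6 (tvF F.k (F.rep x) + F.rep x), hermC_sound,
        line_iso F.k F.hk _ (moved_line F.hk _)]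
      rfl)
    have hdx : (d : G) * gv x * (d : G)⁻¹ = gv j * gv x := by
      show _ = (d : G) * gv x * (d : G)⁻¹ * (gv x)⁻¹ * gv x
      group
    calc (d : G) * (d : G) * gv x = (d : G) * ((d : G) * gv x * (d : G)⁻¹) * (d : G) := by group
      _ = (d : G) * gv j * (gv x * (d : G)) := by rw [hdx]; group
      _ = gv j * ((d : G) * gv x * (d : G)⁻¹) * ((d : G) * (d : G)) := by rw [hjW]; group
      _ = gv x * ((d : G) * (d : G)) := by rw [hdx, ← mul_assoc (gv j), hj2, one_mul]
  have hdd : (d : G) * (d : G) = 1 ∨ (d : G) * (d : G) = z := by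
    have hmem := F.ext.self _ fun q hq => (hj q hq).symm
    exact F.ext.cen _ hmem fun q hq => (hj q hq).symm
  have hdz : (d : G) * z = z * (d : G) := Subgroup.mem_centralizer_singleton_iff.1 d.2
  -- conjugating back
  have hback : ∀ g x : G, g⁻¹ * x * g ∈ (Subgroup.centralizer ({z} : Set G)) → g * z * g⁻¹ * x = x * (g * z * g⁻¹) := fun g x hx => by
    have h := Subgroup.mem_centralizer_singleton_iff.1 hx
    calc g * z * g⁻¹ * x = g * (z * (g⁻¹ * x * g)) * g⁻¹ := by group
      _ = g * (g⁻¹ * x * g * z) * g⁻¹ := by rw [h]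
      _ = _ := by group
  have hne : ∀ g : G, g ∉ (Subgroup.centralizer ({z} : Set G)) → g * z * g⁻¹ ≠ z := fun g hg h =>
    hg (Subgroup.mem_centralizer_singleton_iff.2 (mul_inv_eq_iff_eq_mul.1 h))
  have hV : χ.transfer (d : G) = χ d := by
    refine transfer_eq (Subgroup.centralizer ({z} : Set G)) χ d.2 ?_ P hP2 hPH hPd ?_ ?_
    · rcases hdd with h | h <;> rw [h] <;> simp [F.ext.zz]
    · intro g hg hyg hp
      exfalso
      let p : F.Pair := ⟨g, hback g z (hp z hzP), hne g hg⟩
      have hcom : ∀ y : Q, F.rep y ∈ tvW F.k → p.s * gv y = gv y * p.s := fun y hy =>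
        hback g _ (hp _ ⟨y, hy, rfl⟩)
      rcases F.act_cases p.sH (fun u hu w _ => Or.inl (F.tv_centralizing p.sz hcom u hu)) with h | h
      · have hq := (F.act_ker p.sH).1 h
        have hlab := F.lab_of_conj (s := ⟨_, hq⟩) (g := g) rfl p.ne
        refine (line_facts F.hk (perp_line F.hk (v := F.rep ⟨_, hq⟩) fun w hw => ?_)).1 hlab
        obtain ⟨y, rfl⟩ := F.rep_surj w
        exact (F.comm_iff ⟨_, hq⟩ y).1 (hcom y hw)
      · exact F.no_tv_pair p h hcom
    · intro g hyg h2 hp
      rcases hdd with h | h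
      · rw [show (⟨_, h2⟩ : (Subgroup.centralizer ({z} : Set G))) = 1 from Subtype.ext (by simp [h]), map_one]
      have hzg : g⁻¹ * z * g ∈ (Subgroup.centralizer ({z} : Set G)) := by have := h2; rwa [h] at this
      have hsz : g * z * g⁻¹ * z = z * (g * z * g⁻¹) := hback g z hzg
      have hg : g ∉ (Subgroup.centralizer ({z} : Set G)) := fun hg => hyg (mul_mem (mul_mem (inv_mem hg) d.2) hg)
      let p : F.Pair := ⟨g, hsz, hne g hg⟩
      have hor : ∀ y : Q, F.rep y ∈ tvW F.k →
          p.s * gv y = gv y * p.s ∨ p.s * ((d : G)⁻¹ * gv y) = (d : G)⁻¹ * gv y * p.s := fun y hy =>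
        (hp _ ⟨y, hy, rfl⟩).imp (hback g _) (hback g _)
      have hfix : ∀ y : Q, p.s * gv y = gv y * p.s → F.act p.sH (F.rep y) = F.rep y := fun y hy => by
        rw [F.act_rep]
        refine congrArg F.rep (Subtype.ext (Subtype.ext ?_))
        show p.s * gv y * p.s⁻¹ = gv y
        rw [hy, mul_inv_cancel_right]
      have hcases := F.act_cases p.sH fun u hu w hw => by
        obtain ⟨a, rfl⟩ := F.rep_surj u
        obtain ⟨b, rfl⟩ := F.rep_surj w
        rcases hor a hu with ha | ha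
        · exact Or.inl (hfix a ha)
        rcases hor b hw with hb | hb
        · exact Or.inr (Or.inl (hfix b hb))
        refine Or.inr (Or.inr ?_)
        rw [← F.rep_inv a, ← F.rep_mul]
        refine hfix _ ?_
        show p.s * ((gv a)⁻¹ * gv b) = (gv a)⁻¹ * gv b * p.s
        rw [show (gv a)⁻¹ * gv b = ((d : G)⁻¹ * gv a)⁻¹ * ((d : G)⁻¹ * gv b) by group]
        exact ((show Commute p.s ((d : G)⁻¹ * gv a) from ha).inv_right.mul_right hb).eq
      rcases hcases with hid | hT
      · have hq := (F.act_ker p.sH).1 hid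
        obtain ⟨q, hq', e⟩ := F.z_mem_PG (g := g) (mem_QG.2 ⟨⟨_, hq⟩, rfl⟩)
        have e' : g * q * g⁻¹ = z := e
        have hval : g⁻¹ * ((d : G) * (d : G)) * g = q := by rw [h, ← e']; group
        obtain ⟨q₀, hq₀⟩ := mem_QG.1 hq'
        rw [show (⟨_, h2⟩ : (Subgroup.centralizer ({z} : Set G))) = q₀ from Subtype.ext (hval.trans hq₀.symm)]
        exact hχM _ (F.M_le q₀.2)
      · exfalso
        obtain ⟨q, hq⟩ : ∃ q : Q, p.s = (d : G) * gv q := by
          refine ⟨⟨d⁻¹ * p.sH, (F.act_ker _).1 fun v => ?_⟩, ?_⟩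
          · rw [F.act_mul, hT, ← hact v, F.act_cancel]
          · show p.s = (d : G) * ((d : G)⁻¹ * p.s)
            rw [mul_inv_cancel_left]
        refine hyg (Subgroup.mem_centralizer_singleton_iff.2 ?_)
        have hqW : F.rep q ∈ tvW F.k := by
          rw [mem_tvW]
          have h1 := p.s_sq
          rw [hq] at h1
          have h1' : (d : G) * gv q * (d : G)⁻¹ * (((d : G) * (d : G)) * gv q) = 1 := by
            calc _ = (d : G) * gv q * ((d : G) * gv q) := by group
              _ = 1 := h1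
          rw [h, ← F.z_central, ← mul_assoc] at h1'
          have h2' : qconj d q * q * (⟨_, F.zq_mem⟩ : Q) = 1 := Subtype.ext (Subtype.ext h1')
          have := congrArg F.rep h2'
          rw [F.rep_mul, F.rep_mul, F.rep_one, (F.rep_zero ⟨_, F.zq_mem⟩).2 (Or.inr rfl), add_zero,
            ← F.act_rep, hact] at this
          exact (eq_neg_of_add_eq_zero_left this).trans (neg_eq_of_add_eq_zero_left (neg_self6 _))
        have hds : (d : G) * p.s = p.s * (d : G) := by
          rw [hq]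
          conv_rhs => rw [mul_assoc, ← hcd q hqW]
        calc g⁻¹ * (d : G) * g * z = g⁻¹ * ((d : G) * p.s) * g := by
              show _ = g⁻¹ * ((d : G) * (g * z * g⁻¹)) * g
              group
          _ = g⁻¹ * (p.s * (d : G)) * g := by rw [hds]
          _ = z * (g⁻¹ * (d : G) * g) := by
              show g⁻¹ * (g * z * g⁻¹ * (d : G)) * g = _
              group
  let V := χ.transfer
  have hdV : V (d : G) ≠ 1 := fun h => hχd (hV.symm.trans h)
  refine ⟨V.ker, ?_, ?_, d, fun h => hdV h⟩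
  · have hs : Function.Surjective V := fun a => by
      by_cases ha : a = 1
      · exact ⟨1, by rw [map_one, ha]⟩
      · exact ⟨(d : G), two_eq _ _ hdV ha⟩
    rw [Subgroup.index_ker, MonoidHom.range_eq_top.2 hs, Subgroup.card_top, Nat.card_eq_fintype_card]
    rfl
  · by_contra hz
    have hcomm : ∀ x ∈ QG Q, ∀ y ∈ QG Q, ⁅x, y⁆ = 1 := fun x hx y hy => by
      refine (F.ext.comm x hx y hy).resolve_right fun h => hz ?_
      rw [← h]
      exact MonoidHom.mem_ker.2 (by rw [map_commutatorElement, commutatorElement_eq_one_iff_mul_comm, mul_comm])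
    have hle : Nat.card (QG Q) ≤ 2 := by
      have hsub : (QG Q : Set G) ⊆ (↑({1, z} : Finset G) : Set G) := fun x hx => by
        rcases F.ext.cen x hx fun q hq => commutatorElement_eq_one_iff_mul_comm.1 (hcomm q hq x hx) with h | h <;>
          simp [h]
      have h' := Set.ncard_le_ncard hsub (Finset.finite_toSet _)
      rw [Set.ncard_coe_finset, ← Nat.card_coe_set_eq] at h'
      exact h'.trans Finset.card_le_two
    rw [F.card_QG] at hle
    norm_num at hle

end Frame

end Cfsg.Agent.Fus.Fi24Red
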