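import Cfsg.Agent.Lib.Fus.Fi24Red.Main
import Cfsg.Agent.Lib.Fus.Fi24Red.IndexTwo
import Cfsg.Agent.Lib.Fus.M24U.Iso
import Cfsg.Agent.Lib.Fus.Fi24Model.Types
import Cfsg.Agent.Lib.Spor.Cos.Fi24Up.Main
import Cfsg.Agent.Lib.Spor.FischerPrimitive
import Cfsg.Agent.Lib.Fus.UnitTransvection

/-!
The subgroup of index two satisfies the hypotheses of the recognitions of Fi24' and Fi24.
-/

set_option autoImplicit false
set_option maxRecDepth 100000
set_option linter.style.haveILetI false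
set_option linter.unusedSectionVars false

open Cfsg Cfsg.Agent.Classical Cfsg.Agent.Spor Cfsg.Agent.Spor.LargeFischer Matrix
open Cfsg.Agent.Spor.USixTwo (K4)

namespace Cfsg.Agent.Fus.Fi24Red

universe u

/-- The recognition theorem for Fi24', as a proposition. -/
def RecPrime : Prop :=
  ∀ {G : Type u} [Group G] [Finite G] (z : G) (_ : orderOf z = 2)
    (Q N M : Subgroup (Subgroup.centralizer ({z} : Set G))) [Q.Normal] [N.Normal] [M.Normal]
    (_ : Cfsg.generalizedFittingSubgroup (Subgroup.centralizer ({z} : Set G)) = Q)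
    (_ : Cfsg.IsExtraspecial 2 Q) (_ : Nat.card Q = 2 ^ 13) (_ : Q ≤ N) (_ : N ≤ M)
    (_ : Nat.card N = 3 * Nat.card Q) (K : Type) [Field K] [Fintype K] (_ : Fintype.card K = 9)
    (_ : M ⧸ N.subgroupOf M ≃* Cfsg.PSU 4 K 3) (_ : M.index = 2)
    (_ : ∃ g : G, (∃ hq : g * z * g⁻¹ ∈ Subgroup.centralizer ({z} : Set G),
      (⟨g * z * g⁻¹, hq⟩ : Subgroup.centralizer ({z} : Set G)) ∈ Q) ∧ g * z * g⁻¹ ≠ z),
    Cfsg.Spor.IsoFi24' G


/-- The recognition theorem for the automorphism group of the largest Fischer group, as a proposition. -/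
def RecAut : Prop :=
  ∀ {X : Type u} [Group X] [Finite X] (G₀ : Subgroup X) (_ : G₀.index = 2) (z : ↥G₀) (_ : orderOf z = 2)
    (Q N M : Subgroup (Subgroup.centralizer ({z} : Set ↥G₀))) [Q.Normal] [N.Normal] [M.Normal]
    (_ : Cfsg.generalizedFittingSubgroup (Subgroup.centralizer ({z} : Set ↥G₀)) = Q)
    (_ : Cfsg.IsExtraspecial 2 Q) (_ : Nat.card Q = 2 ^ 13) (_ : Q ≤ N) (_ : N ≤ M)
    (_ : Nat.card N = 3 * Nat.card Q) (K : Type) [Field K] [Fintype K] (_ : Fintype.card K = 9)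
    (_ : M ⧸ N.subgroupOf M ≃* Cfsg.PSU 4 K 3) (_ : M.index = 2)
    (_ : ∃ g : ↥G₀, (∃ hq : g * z * g⁻¹ ∈ Subgroup.centralizer ({z} : Set ↥G₀),
      (⟨g * z * g⁻¹, hq⟩ : Subgroup.centralizer ({z} : Set ↥G₀)) ∈ Q) ∧ g * z * g⁻¹ ≠ z)
    (_ : ∃ P : Sylow 2 ↥G₀, z ∈ (P : Subgroup ↥G₀) ∧ ∀ x ∈ (P : Subgroup ↥G₀), Commute x z)
    (_ : (Cfsg.generalizedFittingSubgroup ↥(Subgroup.centralizer ({(z : X)} : Set X))).map (Subgroup.subtype _) =
      ((Q.map (Subgroup.subtype _)).map G₀.subtype)),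
    ∃ E : Set X, Cfsg.IsThreeTranspositionClass E ∧ Cfsg.IsOfTypeM24 X E

open scoped commutatorElement in
/-- A simple nonabelian subgroup of index two is the derived group. -/
theorem commutator_eq {X : Type*} [Group X] {H : Subgroup X} (hi : H.index = 2) [IsSimpleGroup H] {a c : H}
    (hac : a * c ≠ c * a) : commutator X = H := by
  haveI := Subgroup.normal_of_index_eq_two hi
  have hle : commutator X ≤ H := by
    haveI : Fact (Nat.Prime 2) := ⟨Nat.prime_two⟩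
    haveI : IsCyclic (X ⧸ H) := isCyclic_of_prime_card (p := 2) hi
    exact Subgroup.Normal.quotient_commutative_iff_commutator_le.mp IsCyclic.isMulCommutative
  refine le_antisymm hle ?_
  have hn : ((commutator X).subgroupOf H).Normal := inferInstance
  rcases hn.eq_bot_or_eq_top with h | h
  · refine absurd ?_ hac
    have h1 : ⁅(a : X), (c : X)⁆ ∈ commutator X := by
      rw [commutator_def]; exact Subgroup.commutator_mem_commutator (Subgroup.mem_top _) (Subgroup.mem_top _)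
    have h2 : (⟨_, hle h1⟩ : H) ∈ (commutator X).subgroupOf H := Subgroup.mem_subgroupOf.2 h1
    rw [h, Subgroup.mem_bot] at h2
    exact Subtype.ext (commutatorElement_eq_one_iff_mul_comm.1 (congrArg Subtype.val h2))
  · exact Subgroup.subgroupOf_eq_top.1 h

/-- A member of a type M(24) class commutes with another one. -/
theorem exists_commuting {X : Type*} [Group X] {E : Set X} (h : IsOfTypeM24 X E) :
    ∃ a ∈ E, ∃ c ∈ E, a ≠ c ∧ Commute a c := by
  obtain ⟨-, d, hd, c, hc, -, ⟨-, x, hx, -⟩, -⟩ := h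
  obtain ⟨y, hy, -⟩ := hx
  exact ⟨d, hd, (y : X), hy.1, hy.2.1.symm, hy.2.2⟩

/-- A group with a class of type M(24) and a simple derived group is the Fischer group. -/
theorem nonempty_fi24 {X : Type u} [Group X] [Finite X] {E : Set X} (hE : IsThreeTranspositionClass E)
    (ht : IsOfTypeM24 X E) (hs : IsSimpleGroup (commutator X)) : Nonempty (X ≃* Cfsg.Spor.Fi24) := by
  have hp : IsPrimitiveUnderConj E := (FischerStr.primitive_iff hE ht.1 (exists_commuting ht)).1.1 hs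
  have hg : IsThreeTranspositionGroup E :=
    ⟨hE.1, fun g d hd => Cfsg.Agent.Spor.ThreeTrans.conj_mem hE g hd, hE.2.2⟩
  obtain ⟨d, hd, -⟩ := hE.2.1
  obtain ⟨f, -⟩ := Fus.M24U.unique hg hp ht Fus.Fi24Model.isGroup Fus.Fi24Model.primitive Fus.Fi24Model.isOfTypeM24 hd
    (d' := Fus.Fi24Model.TG Fus.Fi24Model.o0) ⟨_, rfl⟩
  exact ⟨f.trans Cos.Fi24Up.equivGG.symm⟩

variable {G : Type u} [Group G] [Finite G]

/-- The part inducing the simple group lies in a subgroup of index two containing `z`. -/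
theorem K_le {z : G} {L : Type*} [Field L] [Fintype L] (hL : Fintype.card L = 9)
    {Q : Subgroup (Subgroup.centralizer ({z} : Set G))} [Q.Normal] (F : Frame z Q)
    (N : Subgroup (Subgroup.centralizer ({z} : Set G))) [N.Normal] (hQN : Q ≤ N) (hNM : N ≤ F.M)
    (hN : Nat.card N = 3 * Nat.card Q) (e : F.M ⧸ N.subgroupOf F.M ≃* PSU 4 L 3)
    (H₁ : Subgroup (Subgroup.centralizer ({z} : Set G))) (hH₁ : H₁.index = 2)
    (hz : (⟨z, Subgroup.mem_centralizer_singleton_iff.2 rfl⟩ : Subgroup.centralizer ({z} : Set G)) ∈ H₁) :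
    F.M ≤ H₁ := by
  haveI := Subgroup.normal_of_index_eq_two hH₁
  have two : ∀ a b, a * b ∈ H₁ ↔ (a ∈ H₁ ↔ b ∈ H₁) := fun a b => Subgroup.mul_mem_iff_of_index_two hH₁
  have hQ : Q ≤ H₁ := by
    obtain ⟨n, -, hn⟩ := F.exists_om
    intro q hq
    obtain ⟨x, hx⟩ := F.rep_surj (LargeFischerScalar.ω • F.rep ⟨q, hq⟩)
    have hmem : (qconj (n : Subgroup.centralizer ({z} : Set G)) x * x⁻¹ : Q).1 ∈ H₁ := by
      refine (two _ _).2 ?_
      rw [Q.coe_inv, inv_mem_iff]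
      refine ⟨fun h => ?_, fun h => ‹H₁.Normal›.conj_mem _ h _⟩
      have := ‹H₁.Normal›.conj_mem _ h (n : Subgroup.centralizer ({z} : Set G))⁻¹
      have e1 : (n : Subgroup.centralizer ({z} : Set G))⁻¹ * (qconj (n : Subgroup.centralizer ({z} : Set G)) x).1 *
          (n : Subgroup.centralizer ({z} : Set G))⁻¹⁻¹ = x.1 := by
        show (n : Subgroup.centralizer ({z} : Set G))⁻¹ *
          ((n : Subgroup.centralizer ({z} : Set G)) * x.1 * (n : Subgroup.centralizer ({z} : Set G))⁻¹) * _ = x.1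
        group
      rwa [e1] at this
    have hr : F.rep (qconj (n : Subgroup.centralizer ({z} : Set G)) x * x⁻¹) = F.rep ⟨q, hq⟩ := by
      rw [F.rep_mul, F.rep_inv, ← F.act_rep, hn, hx, smul_smul, ← add_smul,
        show LargeFischerScalar.ω * LargeFischerScalar.ω + LargeFischerScalar.ω = 1 by decide +kernel, one_smul]
    rcases F.rep_eq hr with e' | e'
    · rw [show q = (qconj (n : Subgroup.centralizer ({z} : Set G)) x * x⁻¹ : Q).1 from Subtype.ext e']
      exact hmem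
    · rw [show q = (qconj (n : Subgroup.centralizer ({z} : Set G)) x * x⁻¹ : Q).1 *
        ⟨z, Subgroup.mem_centralizer_singleton_iff.2 rfl⟩ from Subtype.ext e']
      exact mul_mem hmem hz
  have hNH : N ≤ H₁ := by
    intro m hm
    have h3 : m ^ 3 ∈ Q := by
      haveI : (Q.subgroupOf N).Normal := inferInstance
      have hidx : (Q.subgroupOf N).index = 3 := by
        have h := (Q.subgroupOf N).card_mul_index
        rw [Nat.card_congr (Subgroup.subgroupOfEquivOfLe hQN).toEquiv, hN, mul_comm 3] at h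
        exact Nat.eq_of_mul_eq_mul_left Nat.card_pos h
      have := (Q.subgroupOf N).pow_index_mem ⟨m, hm⟩
      rw [hidx] at this
      exact this
    have h3' := hQ h3
    rw [show m ^ 3 = m * m * m by simp [pow_succ]] at h3'
    exact ((two _ _).1 h3').1 ((two m m).2 Iff.rfl)
  haveI : IsSimpleGroup (PSU 4 L 3) :=
    Fus.UnitTv.isSimpleGroup_psu (hL.trans (by norm_num)) (by norm_num) (by norm_num)
  haveI : (N.subgroupOf F.M).Normal := inferInstance
  let f : F.M →* PSU 4 L 3 := e.toMonoidHom.comp (QuotientGroup.mk' _)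
  have hf : Function.Surjective f := e.surjective.comp (QuotientGroup.mk'_surjective _)
  have hker : ∀ m : F.M, f m = 1 ↔ (m : Subgroup.centralizer ({z} : Set G)) ∈ N := fun m => by
    show e (QuotientGroup.mk m) = 1 ↔ _
    rw [map_eq_one_iff e e.injective, QuotientGroup.eq_one_iff]
    rfl
  rcases ((inferInstance : (H₁.subgroupOf F.M).Normal).map f hf).eq_bot_or_eq_top with h | h
  · exfalso
    have hle : H₁.subgroupOf F.M ≤ N.subgroupOf F.M := fun m hm => by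
      have h1 : f m ∈ (H₁.subgroupOf F.M).map f := Subgroup.mem_map_of_mem f hm
      rw [h, Subgroup.mem_bot] at h1
      exact (hker m).1 h1
    have hd : (H₁.subgroupOf F.M).index ∣ 2 := hH₁ ▸ Subgroup.relIndex_dvd_index_of_normal H₁ F.M
    have hb : (N.subgroupOf F.M).index ≤ 2 :=
      Nat.le_of_dvd two_pos ((Subgroup.index_dvd_of_le hle).trans hd)
    have hc := (N.subgroupOf F.M).card_mul_index
    rw [Nat.card_congr (Subgroup.subgroupOfEquivOfLe hNM).toEquiv, F.card_M, hN] at hc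
    have hpos : 0 < Nat.card Q := Nat.card_pos
    nlinarith
  · intro m hm
    have h1 : f ⟨m, hm⟩ ∈ (H₁.subgroupOf F.M).map f := h ▸ Subgroup.mem_top _
    obtain ⟨b, hb, e'⟩ := h1
    have h2 : f (b⁻¹ * ⟨m, hm⟩) = 1 := by rw [map_mul, map_inv, e', inv_mul_cancel]
    have h3 := hNH ((hker _).1 h2)
    have h4 := mul_mem (Subgroup.mem_subgroupOf.1 hb) h3
    simpa using h4

/-- A member central in its centraliser's Sylow subgroup is central in a Sylow subgroup. -/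
theorem exists_central_sylow {X : Type*} [Group X] [Finite X] (z : X)
    (J : Subgroup X) (hJ : IsPGroup 2 J) (hle : J ≤ Subgroup.centralizer ({z} : Set X))
    (hzJ : z ∈ J) (_hJn : ∀ c ∈ Subgroup.centralizer ({z} : Set X), ∀ x ∈ J, c * x * c⁻¹ ∈ J)
    (hcen : ∀ c, (∀ x ∈ J, x * c = c * x) → c = 1 ∨ c = z) :
    ∃ P : Sylow 2 X, z ∈ (P : Subgroup X) ∧ ∀ x ∈ (P : Subgroup X), Commute x z := by
  classical
  haveI : Fact (Nat.Prime 2) := ⟨Nat.prime_two⟩
  set C := Subgroup.centralizer ({z} : Set X) with hC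
  obtain ⟨S, hS⟩ := (hJ.of_equiv (Subgroup.subgroupOfEquivOfLe hle).symm).exists_le_sylow
  obtain ⟨P, hP⟩ := (S.2.map C.subtype).exists_le_sylow
  have hJP : J ≤ (P : Subgroup X) := fun x hx => hP ⟨⟨x, hle hx⟩, hS hx, rfl⟩
  suffices h : ∀ x ∈ (P : Subgroup X), Commute x z by
    exact ⟨P, hJP hzJ, h⟩
  -- the part commuting with the involution is normalised only by itself
  have hmax : ∀ x ∈ (P : Subgroup X), x ∈ C → x ∈ (S : Subgroup C).map C.subtype := by
    intro x hx hxC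
    have hle' : (S : Subgroup C) ≤ (P : Subgroup X).subgroupOf C := fun y hy => hP ⟨y, hy, rfl⟩
    have heq := S.3 (P.2.comap_subtype) hle'
    exact ⟨⟨x, hxC⟩, heq ▸ hx, rfl⟩
  by_contra hcon
  push Not at hcon
  obtain ⟨x₀, hx₀, hx₀z⟩ := hcon
  set S' := ((S : Subgroup C).map C.subtype).subgroupOf (P : Subgroup X) with hS'
  have hnt : S' < ⊤ := lt_top_iff_ne_top.2 fun h => hx₀z (by
    have := Subgroup.mem_subgroupOf.1 (h ▸ Subgroup.mem_top (⟨x₀, hx₀⟩ : (P : Subgroup X)))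
    obtain ⟨y, -, hy⟩ := this
    have hy' : (y : X) = x₀ := hy
    have hy2 := Subgroup.mem_centralizer_singleton_iff.1 y.2
    rwa [hy'] at hy2)
  haveI := P.2.isNilpotent
  have hlt := Group.normalizerCondition_of_isNilpotent S' hnt
  obtain ⟨n, hn, hnS⟩ := SetLike.exists_of_lt hlt
  refine hnS (Subgroup.mem_subgroupOf.2 (hmax _ n.2 (Subgroup.mem_centralizer_singleton_iff.2 ?_)))
  have hfix : ∀ y ∈ J, ((n : X) * z * (n : X)⁻¹) * y = y * ((n : X) * z * (n : X)⁻¹) := by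
    intro y hy
    have hy' : (⟨y, hJP hy⟩ : (P : Subgroup X)) ∈ S' := Subgroup.mem_subgroupOf.2 ⟨⟨y, hle hy⟩, hS hy, rfl⟩
    have h1 := (Subgroup.mem_normalizer_iff.1 (inv_mem hn) ⟨y, hJP hy⟩).1 hy'
    obtain ⟨w, -, hw⟩ := Subgroup.mem_subgroupOf.1 h1
    have hw' : (n : X)⁻¹ * y * ((n : X)⁻¹)⁻¹ = (w : X) := hw.symm
    have hwz : (w : X) * z = z * (w : X) := Subgroup.mem_centralizer_singleton_iff.1 w.2
    calc (n : X) * z * (n : X)⁻¹ * y = (n : X) * (z * ((n : X)⁻¹ * y * ((n : X)⁻¹)⁻¹)) * (n : X)⁻¹ := by group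
      _ = (n : X) * ((n : X)⁻¹ * y * ((n : X)⁻¹)⁻¹ * z) * (n : X)⁻¹ := by rw [hw', hwz]
      _ = _ := by group
  rcases hcen _ (fun y hy => (hfix y hy).symm) with e | e
  · rw [show z = 1 from conj_eq_one_iff.1 e, mul_one, one_mul]
  · exact mul_inv_eq_iff_eq_mul.1 e

open scoped commutatorElement in
/-- At index four the group is Fi24, given the two recognition theorems. -/
theorem index_four (hR' : RecPrime.{u}) (hR : RecAut.{u}) {z : G} (hz : orderOf z = 2)
    {L : Type*} [Field L] [Fintype L] (hL : Fintype.card L = 9)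
    (hJ : IsExtraspecial 2 ↥(pCore 2 ↥(Subgroup.centralizer ({z} : Set G))))
    (hJc : Nat.card ↥(pCore 2 ↥(Subgroup.centralizer ({z} : Set G))) = 2 ^ 13)
    (hCJ : Subgroup.centralizer ((pCore 2 ↥(Subgroup.centralizer ({z} : Set G))) :
      Set ↥(Subgroup.centralizer ({z} : Set G))) ≤ pCore 2 ↥(Subgroup.centralizer ({z} : Set G)))
    (M K : Subgroup ↥(Subgroup.centralizer ({z} : Set G))) [hMn : M.Normal] [hKn : K.Normal]
    (hJM : pCore 2 ↥(Subgroup.centralizer ({z} : Set G)) ≤ M) (hMK : M ≤ K)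
    (hM3 : Nat.card ↥M = 3 * Nat.card ↥(pCore 2 ↥(Subgroup.centralizer ({z} : Set G))))
    (e : (↥K ⧸ M.subgroupOf K) ≃* PSU 4 L 3) (h4 : K.index = 4)
    (hnwc : ∃ g : G, (∃ hq : g * z * g⁻¹ ∈ Subgroup.centralizer ({z} : Set G),
        (⟨g * z * g⁻¹, hq⟩ : Subgroup.centralizer ({z} : Set G)) ∈ pCore 2 ↥(Subgroup.centralizer ({z} : Set G))) ∧
        g * z * g⁻¹ ≠ z) :
    Nonempty (G ≃* Cfsg.Spor.Fi24) := by
  haveI hJn : (pCore 2 ↥(Subgroup.centralizer ({z} : Set G))).Normal := Grp.pCore_isNormal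
  haveI : Fact (Nat.Prime 2) := ⟨Nat.prime_two⟩
  obtain ⟨F, rfl⟩ := exists_frame hz hJ hJc hCJ M K hJM hMK hM3 hL e
  obtain ⟨g₀, ⟨hg₀c, hg₀⟩, hne₀⟩ := hnwc
  have hg₀' : g₀ * z * g₀⁻¹ ∈ QG (pCore 2 ↥(Subgroup.centralizer ({z} : Set G))) := mem_QG.2 ⟨⟨_, hg₀⟩, rfl⟩
  obtain ⟨s, hs, -⟩ := F.exists_semi ⟨g₀, hg₀', hne₀⟩
  obtain ⟨G₀, hidx, hzG, d, hd⟩ :=
    F.exists_index_two h4 ((F.index_two_four ⟨g₀, hg₀', hne₀⟩).2 h4) ⟨s, hs⟩
  haveI hG₀n := Subgroup.normal_of_index_eq_two hidx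
  set H₁ := G₀.subgroupOf (Subgroup.centralizer ({z} : Set G)) with hH₁def
  have hH₁ : H₁.index = 2 := by
    have hdv : H₁.index ∣ 2 := hidx ▸ Subgroup.relIndex_dvd_index_of_normal G₀ _
    exact ((Nat.dvd_prime Nat.prime_two).1 hdv).resolve_left fun h => hd (by
      have : d ∈ H₁ := Subgroup.index_eq_one.1 h ▸ Subgroup.mem_top d
      exact this)
  have hKH : F.M ≤ H₁ := K_le hL F M hJM hMK hM3 e H₁ hH₁ hzG
  -- the centraliser in the subgroup of index two
  set z₀ : G₀ := ⟨z, hzG⟩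
  have hz₀ : orderOf z₀ = 2 := by rw [← Subgroup.orderOf_coe]; exact hz
  let ι : Subgroup.centralizer ({z₀} : Set G₀) →* Subgroup.centralizer ({z} : Set G) :=
    MonoidHom.mk' (fun c => ⟨c.1.1, Subgroup.mem_centralizer_singleton_iff.2
      (congrArg Subtype.val (Subgroup.mem_centralizer_singleton_iff.1 c.2))⟩) fun a b => rfl
  have hι : Function.Injective ι := fun a b h =>
    Subtype.ext (Subtype.ext (congrArg (fun t : Subgroup.centralizer ({z} : Set G) => (t : G)) h))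
  have hrange : ι.range = H₁ := by
    ext h
    constructor
    · rintro ⟨c, rfl⟩; exact c.1.2
    · intro hh
      exact ⟨⟨⟨h.1, hh⟩, Subgroup.mem_centralizer_singleton_iff.2
        (Subtype.ext (Subgroup.mem_centralizer_singleton_iff.1 h.2))⟩, rfl⟩
  let eq : ∀ S : Subgroup (Subgroup.centralizer ({z} : Set G)), S ≤ H₁ → (S.comap ι) ≃* S := fun S hS =>
    ((S.comap ι).equivMapOfInjective ι hι).trans (MulEquiv.subgroupCongr
      (Subgroup.map_comap_eq_self (hS.trans hrange.ge)))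
  have hcoe : ∀ (S : Subgroup (Subgroup.centralizer ({z} : Set G))) (hS : S ≤ H₁) (x : S.comap ι),
      (eq S hS x : Subgroup.centralizer ({z} : Set G)) = ι x := fun S hS x => rfl
  set Q₀ := (pCore 2 ↥(Subgroup.centralizer ({z} : Set G))).comap ι
  set N₀ := M.comap ι
  set M₀ := F.M.comap ι
  haveI : Q₀.Normal := Subgroup.Normal.comap inferInstance ι
  haveI : N₀.Normal := Subgroup.Normal.comap inferInstance ι
  haveI : M₀.Normal := Subgroup.Normal.comap F.M_normal ι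
  have hJH := (hJM.trans hMK).trans hKH
  have hE₀ : IsExtraspecial 2 Q₀ := Grp.ExtraCentSimple.isExtraspecial_equiv (eq _ hJH).symm hJ
  have hc₀ : Nat.card Q₀ = 2 ^ 13 := (Nat.card_congr (eq _ hJH).toEquiv).trans hJc
  have hN₀ : Nat.card N₀ = 3 * Nat.card Q₀ := by
    rw [Nat.card_congr (eq _ (hMK.trans hKH)).toEquiv, hM3, Nat.card_congr (eq _ hJH).toEquiv]
  have hM₀ : M₀.index = 2 := by
    rw [Subgroup.index_comap, hrange]
    have := Subgroup.relIndex_mul_index hKH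
    rw [hH₁, h4] at this
    omega
  obtain ⟨K₀, _, _, hK₀, ⟨eK⟩⟩ := exists_equiv_small hL
  haveI : (N₀.subgroupOf M₀).Normal := inferInstance
  haveI : (M.subgroupOf F.M).Normal := inferInstance
  have e₀ : M₀ ⧸ N₀.subgroupOf M₀ ≃* PSU 4 K₀ 3 := by
    refine ((QuotientGroup.congr (N₀.subgroupOf M₀) (M.subgroupOf F.M) (eq F.M hKH) ?_).trans e).trans eK
    ext x
    constructor
    · rintro ⟨y, hy, rfl⟩
      exact hy
    · intro hx
      refine ⟨(eq F.M hKH).symm x, ?_, (eq F.M hKH).apply_symm_apply x⟩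
      show ι ((eq F.M hKH).symm x) ∈ M
      rw [← hcoe F.M hKH, MulEquiv.apply_symm_apply]
      exact hx
  have hgv : ∀ y ∈ QG (pCore 2 ↥(Subgroup.centralizer ({z} : Set G))), y ∈ G₀ := fun y hy => by
    obtain ⟨q, rfl⟩ := mem_QG.1 hy
    exact hJH q.2
  have hQ₀le : ∀ c : Subgroup.centralizer ({z₀} : Set G₀), c ∈ Q₀ ↔
      (c.1.1 : G) ∈ QG (pCore 2 ↥(Subgroup.centralizer ({z} : Set G))) := fun c => by
    constructor
    · exact fun h => mem_QG.2 ⟨⟨_, h⟩, rfl⟩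
    · intro h
      obtain ⟨q, hq⟩ := mem_QG.1 h
      show ι c ∈ pCore 2 ↥(Subgroup.centralizer ({z} : Set G))
      rw [show ι c = q from Subtype.ext hq.symm]
      exact q.2
  have hself₀ : Subgroup.centralizer (Q₀ : Set (Subgroup.centralizer ({z₀} : Set G₀))) ≤ Q₀ := by
    intro c hc
    refine hCJ (Subgroup.mem_centralizer_iff.2 fun q hq => ?_)
    obtain ⟨w, rfl⟩ : q ∈ ι.range := by rw [hrange]; exact hJH hq
    rw [← map_mul, ← map_mul, Subgroup.mem_centralizer_iff.1 hc w hq]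
  have hp₀ : IsPGroup 2 Q₀ := IsPGroup.of_card hc₀
  have hfit₀ : generalizedFittingSubgroup (Subgroup.centralizer ({z₀} : Set G₀)) = Q₀ := by
    haveI := Grp.pCore_isNormal (p := 2) (G := ↥(Subgroup.centralizer ({z₀} : Set G₀)))
    rw [Grp.gfitting_eq_pCore_of_selfCentralizing inferInstance hp₀ hself₀]
    refine le_antisymm (fun c hc => ?_) (Grp.le_pCore inferInstance hp₀)
    -- the largest normal two-subgroup maps into the largest one of the centraliser
    let φ : Subgroup.centralizer ({z₀} : Set G₀) →* H₁ := ι.codRestrict H₁ fun x => by rw [← hrange]; exact ⟨x, rfl⟩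
    have hφ : Function.Surjective φ := fun y => by
      obtain ⟨x, hx⟩ : (y : Subgroup.centralizer ({z} : Set G)) ∈ ι.range := by rw [hrange]; exact y.2
      exact ⟨x, Subtype.ext hx⟩
    have h1 : φ c ∈ pCore 2 ↥H₁ :=
      Grp.le_pCore ((Grp.pCore_isNormal (p := 2) (G := ↥(Subgroup.centralizer ({z₀} : Set G₀)))).map φ hφ)
        ((Transfer.pCore_isPGroup 2 _).map φ) ⟨c, hc, rfl⟩
    haveI := Subgroup.normal_of_index_eq_two hH₁
    have hn : ((pCore 2 ↥H₁).map H₁.subtype).Normal := inferInstance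
    exact Grp.le_pCore hn ((Transfer.pCore_isPGroup 2 _).map _) ⟨φ c, h1, rfl⟩
  have hdz : (d : G) * z = z * (d : G) := Subgroup.mem_centralizer_singleton_iff.1 d.2
  have hnwc₀ : ∃ g : G₀, (∃ hq : g * z₀ * g⁻¹ ∈ Subgroup.centralizer ({z₀} : Set G₀),
      (⟨g * z₀ * g⁻¹, hq⟩ : Subgroup.centralizer ({z₀} : Set G₀)) ∈ Q₀) ∧ g * z₀ * g⁻¹ ≠ z₀ := by
    obtain ⟨a, ha, hae⟩ : ∃ a ∈ G₀, a * z * a⁻¹ = g₀ * z * g₀⁻¹ := by
      by_cases hg : g₀ ∈ G₀
      · exact ⟨g₀, hg, rfl⟩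
      · refine ⟨g₀ * (d : G), (Subgroup.mul_mem_iff_of_index_two hidx).2 (iff_of_false hg hd), ?_⟩
        calc g₀ * (d : G) * z * (g₀ * (d : G))⁻¹ = g₀ * ((d : G) * z) * (d : G)⁻¹ * g₀⁻¹ := by group
          _ = _ := by rw [hdz]; group
    refine ⟨⟨a, ha⟩, ⟨Subgroup.mem_centralizer_singleton_iff.2 (Subtype.ext ?_), ?_⟩, fun h => hne₀ ?_⟩
    · show a * z * a⁻¹ * z = z * (a * z * a⁻¹)
      rw [hae]
      exact Subgroup.mem_centralizer_singleton_iff.1 hg₀c
    · rw [hQ₀le]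
      show a * z * a⁻¹ ∈ QG _
      rw [hae]; exact hg₀'
    · rw [← hae]; exact congrArg Subtype.val h
  obtain ⟨f⟩ := hR' z₀ hz₀ Q₀ N₀ M₀ hfit₀ hE₀ hc₀ (Subgroup.comap_mono hJM) (Subgroup.comap_mono hMK) hN₀ K₀ hK₀
    e₀ hM₀ hnwc₀
  have hcen : ∃ P : Sylow 2 G₀, z₀ ∈ (P : Subgroup G₀) ∧ ∀ x ∈ (P : Subgroup G₀), Commute x z₀ := by
    refine exists_central_sylow z₀ (Q₀.map (Subgroup.subtype _)) (hp₀.map _) (Subgroup.map_subtype_le _)
      ⟨⟨z₀, Subgroup.mem_centralizer_singleton_iff.2 rfl⟩, (hQ₀le _).2 F.ext.mem, rfl⟩ ?_ ?_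
    · rintro c hc _ ⟨q, hq, rfl⟩
      exact ⟨⟨c, hc⟩ * q * ⟨c, hc⟩⁻¹, ‹Q₀.Normal›.conj_mem _ hq _, rfl⟩
    · intro c hc
      have hall : ∀ q ∈ QG (pCore 2 ↥(Subgroup.centralizer ({z} : Set G))), q * (c : G) = (c : G) * q := by
        intro y hy
        have hyC : (⟨y, hgv y hy⟩ : G₀) ∈ Subgroup.centralizer ({z₀} : Set G₀) :=
          Subgroup.mem_centralizer_singleton_iff.2 (Subtype.ext (F.ext.central y hy))
        exact congrArg Subtype.val (hc ⟨y, hgv y hy⟩ ⟨⟨_, hyC⟩, (hQ₀le _).2 hy, rfl⟩)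
      exact (F.ext.cen _ (F.ext.self _ hall) hall).imp (fun h => Subtype.ext h) fun h => Subtype.ext h
  have hFX : (generalizedFittingSubgroup ↥(Subgroup.centralizer ({(z₀ : G)} : Set G))).map (Subgroup.subtype _) =
      ((Q₀.map (Subgroup.subtype _)).map G₀.subtype) := by
    show (generalizedFittingSubgroup ↥(Subgroup.centralizer ({z} : Set G))).map (Subgroup.subtype _) = _
    rw [gfitting_eq hCJ]
    ext y
    constructor
    · rintro ⟨q, hq, rfl⟩
      have hqH : (q : G) ∈ G₀ := hJH hq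
      exact ⟨⟨q, hqH⟩, ⟨⟨⟨q, hqH⟩, Subgroup.mem_centralizer_singleton_iff.2
        (Subtype.ext (Subgroup.mem_centralizer_singleton_iff.1 q.2))⟩, hq, rfl⟩, rfl⟩
    · rintro ⟨_, ⟨c, hc, rfl⟩, rfl⟩
      exact ⟨ι c, hc, rfl⟩
  obtain ⟨E, hE, ht⟩ := @hR G _ _ G₀ hidx z₀ hz₀ Q₀ N₀ M₀ _ _ _ hfit₀ hE₀ hc₀ (Subgroup.comap_mono hJM)
    (Subgroup.comap_mono hMK) hN₀ K₀ _ _ hK₀ e₀ hM₀ hnwc₀ hcen hFX
  haveI : IsSimpleGroup G₀ := f.isSimpleGroup_congr.2 Cos.Fi24Up.isFi24'.1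
  obtain ⟨a, -, hne⟩ := hnwc₀
  have hac : a * z₀ ≠ z₀ * a := fun h => hne (by rw [h, mul_inv_cancel_right])
  exact nonempty_fi24 hE ht
    ((MulEquiv.subgroupCongr (commutator_eq hidx hac)).isSimpleGroup_congr.2 inferInstance)

end Cfsg.Agent.Fus.Fi24Red
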