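import Cfsg.Agent.Lib.Fus.Fi24Red.Frame
import Cfsg.Agent.Lib.Spor.LargeFischer.Coords
import Cfsg.Agent.Lib.Fus.LargeFischerScalar

/-! The action on the coordinates: labels, the hermitian form, linear and semilinear elements. -/

set_option autoImplicit false
set_option maxRecDepth 100000
set_option linter.style.haveILetI false
set_option linter.unusedSectionVars false

open Cfsg Cfsg.Agent.Classical Cfsg.Agent.Spor Cfsg.Agent.Spor.LargeFischer Matrix
open Cfsg.Agent.Spor.USixTwo (K4 vecOf)
open Cfsg.Agent.Spor.U62U43 (cover62)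
open Cfsg.Agent.Fus.LargeFischerScalar (ω k4_facts k4_cases trace_zero herm_bit omS_facts)

namespace Cfsg.Agent.Fus.Fi24Red

variable {G : Type*} [Group G] [Finite G] {z : G} {Q : Subgroup (Subgroup.centralizer ({z} : Set G))}
  [hQn : Q.Normal]

namespace Frame

variable (F : Frame z Q)

include F

theorem rep_one : F.rep 1 = 0 := (F.rep_zero 1).2 (Or.inl rfl)

theorem rep_inv (x : Q) : F.rep x⁻¹ = F.rep x := by
  have := F.rep_mul x x⁻¹
  rw [mul_inv_cancel, F.rep_one] at this
  exact (add_left_cancel (a := F.rep x) ((neg_self6 _).trans this)).symm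

theorem rep_eq {x y : Q} (h : F.rep x = F.rep y) : gv y = gv x ∨ gv y = gv x * z := by
  have h0 : F.rep (x⁻¹ * y) = 0 := by rw [F.rep_mul, F.rep_inv, h, neg_self6]
  rcases (F.rep_zero _).1 h0 with e | e
  · refine Or.inl ?_
    simp only [Subgroup.coe_mul, Subgroup.coe_inv] at e
    exact (inv_mul_eq_one.1 e).symm
  · refine Or.inr ?_
    simp only [Subgroup.coe_mul, Subgroup.coe_inv] at e
    exact inv_mul_eq_iff_eq_mul.1 e

theorem act_cancel (g : Subgroup.centralizer ({z} : Set G)) (v : Fin 6 → K4) : F.act g⁻¹ (F.act g v) = v := by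
  rw [← F.act_mul, inv_mul_cancel, F.act_one]

theorem act_inj (g : Subgroup.centralizer ({z} : Set G)) : Function.Injective (F.act g) := fun v w h => by
  rw [← F.act_cancel g v, h, F.act_cancel]

theorem act_zero (g : Subgroup.centralizer ({z} : Set G)) : F.act g 0 = 0 := by
  have := F.act_add g 0 0
  rw [add_zero] at this
  exact left_eq_add.1 this

theorem lin_mem (a : F.M) : F.lin a ∈ cover62 F.k := F.lin_range ▸ ⟨a, rfl⟩

theorem exists_lin {x : SUV} (hx : x ∈ cover62 F.k) : ∃ a : F.M, F.lin a = x := by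
  rw [← F.lin_range] at hx
  exact hx

theorem lin_eq_one (a : F.M) : F.lin a = 1 ↔ (a : Subgroup.centralizer ({z} : Set G)) ∈ Q := by
  rw [← F.act_ker]
  refine ⟨fun h v => by rw [F.lin_act, h, one_smul], fun h => ?_⟩
  refine suVal_ext (Matrix.toLin'.injective (LinearMap.ext fun v => ?_))
  have e := h v
  rw [F.lin_act, smul_def] at e
  rw [Matrix.toLin'_apply, e]
  exact (Matrix.one_mulVec v).symm

theorem isotropic_act (g : Subgroup.centralizer ({z} : Set G)) {v : Fin 6 → K4}
    (h : hermForm 6 K4 2 v v = 0) : hermForm 6 K4 2 (F.act g v) (F.act g v) = 0 := by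
  obtain ⟨x, rfl⟩ := F.rep_surj v
  rw [F.act_rep, F.herm_zero]
  have hx := (F.herm_zero x).1 h
  refine Subtype.ext ?_
  show g * x * g⁻¹ * (g * x * g⁻¹) = 1
  have hx' : (x : Subgroup.centralizer ({z} : Set G)) * x = 1 := congrArg Subtype.val hx
  rw [show g * x * g⁻¹ * (g * x * g⁻¹) = g * ((x : Subgroup.centralizer ({z} : Set G)) * x) * g⁻¹ by group,
    hx', mul_one, mul_inv_cancel]

/-- An orbit cannot be moved to one of another length. -/
theorem lab_act (g : Subgroup.centralizer ({z} : Set G)) (v : Fin 6 → K4) :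
    labV F.k (F.act g v) = labV F.k v := by
  have key : ∀ (g : Subgroup.centralizer ({z} : Set G)) (v : Fin 6 → K4),
      labV F.k v = 2 → labV F.k (F.act g v) = 2 := by
    intro g v hv
    rcases lab_facts F.hk v with ⟨h, -⟩ | ⟨-, h0, hh⟩
    · omega
    refine (lab_pos F.hk (fun e => h0 (F.act_inj g (e.trans (F.act_zero g).symm))) (F.isotropic_act g hh)).resolve_left
      fun h1 => ?_
    have hmap : ∀ w, labV F.k w = 2 → labV F.k (F.act g w) = 1 := fun w hw => by
      obtain ⟨x, hx, rfl⟩ := transitive F.hk (Or.inr rfl) hv hw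
      obtain ⟨a, rfl⟩ := F.exists_lin hx
      have hb : g * a * g⁻¹ ∈ F.M := F.M_normal.conj_mem _ a.2 g
      rw [← F.lin_act, ← F.act_mul, show g * (a : Subgroup.centralizer ({z} : Set G)) =
        (⟨_, hb⟩ : F.M) * g by simp, F.act_mul, F.lin_act, lab_smul F.hk (F.lin_mem _), h1]
    have hle := Nat.card_le_card_of_injective
      (fun w : {w // labV F.k w = 2} => (⟨F.act g w.1, hmap w.1 w.2⟩ : {w // labV F.k w = 1}))
      fun a b h => Subtype.ext (F.act_inj g (congrArg Subtype.val h))
    rw [(card_lab F.hk).1, (card_lab F.hk).2] at hle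
    omega
  rcases lab_facts F.hk v with ⟨h, h'⟩ | ⟨h, h0, hh⟩
  · rw [h]
    rcases lab_facts F.hk (F.act g v) with ⟨e, -⟩ | ⟨-, e0, eh⟩
    · exact e
    · have := F.isotropic_act g⁻¹ eh
      rw [F.act_cancel] at this
      rcases h' with rfl | h'
      · exact absurd (F.act_zero g) e0
      · exact absurd this h'
  · rcases h with h | h
    · rw [h]
      refine (lab_pos F.hk (fun e => h0 (F.act_inj g (e.trans (F.act_zero g).symm))) (F.isotropic_act g hh)).resolve_right
        fun e2 => ?_
      have := key g⁻¹ _ e2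
      rw [F.act_cancel] at this
      omega
    · rw [h]; exact key g v h

theorem norm_act (g : Subgroup.centralizer ({z} : Set G)) (u : Fin 6 → K4) :
    hermForm 6 K4 2 (F.act g u) (F.act g u) = hermForm 6 K4 2 u u := by
  rcases herm_bit u with e | e
  · rw [F.isotropic_act g e, e]
  · rw [e]
    refine (herm_bit _).resolve_left fun e0 => ?_
    have := F.isotropic_act g⁻¹ e0
    rw [F.act_cancel, e] at this
    exact one_ne_zero this

theorem nb_act (g : Subgroup.centralizer ({z} : Set G)) (u : Fin 6 → K4) : nb (F.act g u) = nb u := by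
  rw [nb, nb, F.norm_act]

theorem T6_act (g : Subgroup.centralizer ({z} : Set G)) (u w : Fin 6 → K4) :
    T6 (F.act g u) (F.act g w) = T6 u w := by
  have h := F.nb_act g (u + w)
  rwa [F.act_add, nb_add, nb_add, F.nb_act, F.nb_act, add_right_inj] at h

theorem zq_mem : (⟨z, Subgroup.mem_centralizer_singleton_iff.2 rfl⟩ : Subgroup.centralizer ({z} : Set G)) ∈ Q := by
  obtain ⟨q, hq⟩ := mem_QG.1 F.ext.mem
  exact (show (⟨z, Subgroup.mem_centralizer_singleton_iff.2 rfl⟩ : Subgroup.centralizer ({z} : Set G)) = q from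
    Subtype.ext hq.symm) ▸ q.2

theorem sq_iff (x : Q) : gv x * gv x = 1 ↔ nb (F.rep x) = 0 := by
  rw [nb]
  constructor
  · intro h
    rw [if_pos ((F.herm_zero x).2 (Subtype.ext (Subtype.ext h)))]
  · intro h
    split_ifs at h with h'
    · exact congrArg (fun q : Q => gv q) ((F.herm_zero x).1 h')
    · exact absurd h one_ne_zero

theorem comm_iff (q x : Q) : gv q * gv x = gv x * gv q ↔ T6 (F.rep q) (F.rep x) = 0 := by
  have hsq : ∀ y : Q, gv y * gv y = 1 ∧ nb (F.rep y) = 0 ∨ gv y * gv y = z ∧ nb (F.rep y) = 1 := fun y => by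
    rcases F.ext.sq _ (mem_QG.2 ⟨y, rfl⟩) with e | e
    · exact Or.inl ⟨e, (F.sq_iff y).1 e⟩
    · refine Or.inr ⟨e, ((show ∀ a : ZMod 2, a = 0 ∨ a = 1 by decide) _).resolve_left fun h => ?_⟩
      exact F.ext.ne (e.symm.trans ((F.sq_iff y).2 h))
  have hcomm : gv q * gv x = gv x * gv q ↔ gv (q * x) * gv (q * x) = gv q * gv q * (gv x * gv x) := by
    show _ ↔ gv q * gv x * (gv q * gv x) = _
    constructor
    · intro h
      calc _ = gv q * (gv x * gv q) * gv x := by group
        _ = _ := by rw [← h]; group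
    · intro h
      have : gv q * (gv x * gv q) * gv x = gv q * (gv q * gv x) * gv x := by
        calc _ = gv q * gv x * (gv q * gv x) := by group
          _ = _ := by rw [h]; group
      exact (mul_left_cancel (mul_right_cancel this)).symm
  have hT : T6 (F.rep q) (F.rep x) = nb (F.rep (q * x)) + nb (F.rep q) + nb (F.rep x) := by
    rw [F.rep_mul, nb_add]
    generalize nb (F.rep q) = a; generalize nb (F.rep x) = b; generalize T6 (F.rep q) (F.rep x) = c
    revert a b c; decide
  have h1z := F.ext.ne.symm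
  rw [hcomm, hT]
  rcases hsq q with ⟨a1, a2⟩ | ⟨a1, a2⟩ <;> rcases hsq x with ⟨b1, b2⟩ | ⟨b1, b2⟩ <;>
    rcases hsq (q * x) with ⟨c1, c2⟩ | ⟨c1, c2⟩ <;> rw [a1, b1, c1, a2, b2, c2] <;>
    simp only [one_mul, mul_one, F.ext.zz, zero_add, add_zero, show (1 : ZMod 2) + 1 = 0 from by decide,
      h1z, F.ext.ne, one_ne_zero]

theorem z_central (x : Q) : gv x * z = z * gv x := F.ext.central _ (mem_QG.2 ⟨x, rfl⟩)

/-- An element acts linearly. -/
def Lin (g : Subgroup.centralizer ({z} : Set G)) : Prop := ∀ v, F.act g (ω • v) = ω • F.act g v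

/-- An element acts semilinearly. -/
def Semi (g : Subgroup.centralizer ({z} : Set G)) : Prop := ∀ v, F.act g (ω • v) = (ω * ω) • F.act g v

theorem lin_of_mem {g : Subgroup.centralizer ({z} : Set G)} (hg : g ∈ F.M) : F.Lin g := fun v => by
  rw [show g = ((⟨g, hg⟩ : F.M) : Subgroup.centralizer ({z} : Set G)) from rfl, F.lin_act, F.lin_act, smul_scalar]

/-- An element with scalar image. -/
theorem exists_om : ∃ n : F.M, F.lin n = omS ∧ ∀ v, F.act n v = ω • v := by
  have h := kgen_mem F.hk 3
  rw [kgen, if_neg (by omega)] at h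
  obtain ⟨n, hn⟩ := F.exists_lin h
  exact ⟨n, hn, fun v => by rw [F.lin_act, hn, omS_smul]⟩

omit F in
theorem omS_commute (y : SUV) : omS * y = y * omS := suVal_ext (Matrix.toLin'.injective (LinearMap.ext fun v => by
  show suVal _ *ᵥ v = suVal _ *ᵥ v
  rw [← smul_def, ← smul_def, mul_smul, mul_smul, omS_smul, omS_smul, smul_scalar]))

theorem lin_cases (g : Subgroup.centralizer ({z} : Set G)) : F.Lin g ∨ F.Semi g := by
  obtain ⟨n, hn, hnact⟩ := F.exists_om
  obtain ⟨o1, o2, o3⟩ := omS_facts
  have hn' : g * n * g⁻¹ ∈ F.M := F.M_normal.conj_mem _ n.2 g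
  set n' : F.M := ⟨_, hn'⟩ with hn'def
  have hom : omS ∈ cover62 F.k := hn ▸ F.lin_mem n
  have hcom : ∀ y ∈ cover62 F.k, y * F.lin n' = F.lin n' * y := by
    intro y hy
    obtain ⟨a, rfl⟩ := F.exists_lin hy
    have hb : g⁻¹ * a * g ∈ F.M := by
      have := F.M_normal.conj_mem _ a.2 g⁻¹
      rwa [inv_inv] at this
    have h1 : F.lin (n * ⟨_, hb⟩ * n⁻¹ * (⟨_, hb⟩ : F.M)⁻¹) = 1 := by
      rw [map_mul, map_mul, map_mul, map_inv, map_inv, hn, omS_commute, mul_inv_cancel_right, mul_inv_cancel]
    have h2 := (F.lin_eq_one _).1 h1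
    have h3 : ((n' * a * n'⁻¹ * a⁻¹ : F.M) : Subgroup.centralizer ({z} : Set G)) ∈ Q := by
      have := hQn.conj_mem _ h2 g
      simp only [Subgroup.coe_mul, Subgroup.coe_inv, hn'def] at this ⊢
      refine (congrArg (fun x => x ∈ Q) ?_).mp this
      group
    have h4 := (F.lin_eq_one _).2 h3
    rw [map_mul, map_mul, map_mul, map_inv, map_inv, mul_inv_eq_one, mul_inv_eq_iff_eq_mul] at h4
    exact h4.symm
  have hcen : (⟨F.lin n', F.lin_mem n'⟩ : cover62 F.k) ∈ Subgroup.center (cover62 F.k) :=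
    Subgroup.mem_center_iff.2 fun y => Subtype.ext (hcom y.1 y.2)
  have homc : (⟨omS, hom⟩ : cover62 F.k) ∈ Subgroup.center (cover62 F.k) :=
    Subgroup.mem_center_iff.2 fun y => Subtype.ext (omS_commute y.1).symm
  have h3c := (Spor.U62U43.cover_good F.hk).1
  have hsurj : Function.Surjective (fun i : Fin 3 =>
      (⟨(⟨omS, hom⟩ : cover62 F.k) ^ i.1, pow_mem homc _⟩ : Subgroup.center (cover62 F.k))) := by
    refine Function.Bijective.surjective ((Nat.bijective_iff_injective_and_card _).2 ⟨fun i j e => ?_,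
      by rw [Nat.card_fin, h3c]⟩)
    have e' : omS ^ i.1 = omS ^ j.1 :=
      congrArg (fun x : Subgroup.center (cover62 F.k) => ((x : cover62 F.k) : SUV)) e
    fin_cases i <;> fin_cases j <;> simp only [pow_zero, pow_one, pow_two] at e' <;> first
      | rfl
      | exact absurd e' o1 | exact absurd e'.symm o1 | exact absurd e' o2 | exact absurd e'.symm o2
      | exact absurd e' o3 | exact absurd e'.symm o3
  obtain ⟨i, hi⟩ := hsurj ⟨_, hcen⟩
  have e' : omS ^ i.1 = F.lin n' :=
    congrArg (fun x : Subgroup.center (cover62 F.k) => ((x : cover62 F.k) : SUV)) hi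
  have key : ∀ v, F.act g (ω • v) = F.lin n' • F.act g v := fun v => by
    rw [← hnact, ← F.act_mul, ← F.lin_act, ← F.act_mul, hn'def]
    simp
  fin_cases i <;> simp only [pow_zero, pow_one, pow_two] at e'
  · exfalso
    have := (F.lin_eq_one n').1 e'.symm
    have h' := hQn.conj_mem _ this g⁻¹
    refine o1 (hn ▸ (F.lin_eq_one n).2 ((congrArg (fun x => x ∈ Q) ?_).mp h'))
    simp only [hn'def]; group
  · exact Or.inl fun v => by rw [key, ← e', omS_smul]
  · exact Or.inr fun v => by rw [key, ← e', mul_smul omS, omS_smul, omS_smul, smul_smul]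

/-- The linear elements. -/
def linPart : Subgroup (Subgroup.centralizer ({z} : Set G)) where
  carrier := {g | F.Lin g}
  one_mem' := fun v => by rw [F.act_one, F.act_one]
  mul_mem' := fun {a b} ha hb v => by rw [F.act_mul, hb, ha, ← F.act_mul]
  inv_mem' := fun {a} ha v => F.act_inj a (by
    rw [ha, ← F.act_mul, mul_inv_cancel, F.act_one, ← F.act_mul, mul_inv_cancel, F.act_one])

theorem M_le_linPart : F.M ≤ F.linPart := fun _ h => F.lin_of_mem h

theorem semi_not_lin {g : Subgroup.centralizer ({z} : Set G)} (h : F.Semi g) : ¬ F.Lin g := fun h' => by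
  obtain ⟨x, hx⟩ : ∃ x : Fin 6 → K4, x ≠ 0 := ⟨Pi.single 0 1, fun e => by simpa using congrFun e 0⟩
  have e := (h' x).symm.trans (h x)
  obtain ⟨i, hi⟩ := Function.ne_iff.1 (fun e0 => hx (F.act_inj g (e0.trans (F.act_zero g).symm)))
  exact k4_facts.2.2.2.1 (mul_right_cancel₀ hi (congrFun e i).symm)

/-- Two semilinear elements differ by a linear one. -/
theorem linPart_index_le (g h : Subgroup.centralizer ({z} : Set G)) (hg : g ∉ F.linPart) (hh : h ∉ F.linPart) :
    g * h ∈ F.linPart := fun v => by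
  have hg' := (F.lin_cases g).resolve_left hg
  have hh' := (F.lin_cases h).resolve_left hh
  rw [F.act_mul, hh', ← smul_smul, hg', hg', smul_smul, ← F.act_mul,
    show ω * ω * (ω * ω) = ω from by decide +kernel]

/-- Linear elements preserve the hermitian form. -/
theorem herm_lin {e : Subgroup.centralizer ({z} : Set G)} (he : F.Lin e) (u w : Fin 6 → K4) :
    hermForm 6 K4 2 (F.act e u) (F.act e w) = hermForm 6 K4 2 u w :=
  herm_preserve
    { toFun := F.act e
      map_add' := F.act_add e
      map_smul' := fun a v => by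
        rcases k4_cases a with rfl | rfl | rfl | rfl
        · simp [F.act_zero]
        · simp
        · exact he v
        · show F.act e ((ω * ω) • v) = (ω * ω) • F.act e v
          rw [← smul_smul, he, he, smul_smul] }
    (fun v => F.norm_act e v) u w

end Frame

end Cfsg.Agent.Fus.Fi24Red
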