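import Cfsg.Agent.Lib.Fus.Fi24Red.Pair

/-!
Counting for a commuting conjugate: the common part, the centraliser in the extraspecial group, and the image of the
other extraspecial group in the cover.
-/

set_option autoImplicit false
set_option maxRecDepth 100000
set_option linter.style.haveILetI false
set_option linter.unusedSectionVars false

open Cfsg Cfsg.Agent.Classical Cfsg.Agent.Spor Cfsg.Agent.Spor.LargeFischer Matrix
open Cfsg.Agent.Spor.USixTwo (K4)

namespace Cfsg.Agent.Fus.Fi24Red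

variable {G : Type*} [Group G] [Finite G] {z : G} {Q : Subgroup (Subgroup.centralizer ({z} : Set G))}
  [hQn : Q.Normal]

namespace Frame

variable (F : Frame z Q)

include F

/-- The members of `Q` over a subgroup of the coordinates. -/
def above (S : AddSubgroup (Fin 6 → K4)) : Subgroup Q where
  carrier := {x | F.rep x ∈ S}
  one_mem' := show F.rep 1 ∈ S by rw [F.rep_one]; exact S.zero_mem
  mul_mem' := fun {a b} ha hb => show F.rep (a * b) ∈ S by rw [F.rep_mul]; exact S.add_mem ha hb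
  inv_mem' := fun {a} ha => show F.rep a⁻¹ ∈ S by rw [F.rep_inv]; exact ha

/-- The coordinates as a homomorphism. -/
def repHom : Q →* Multiplicative (Fin 6 → K4) :=
  MonoidHom.mk' (fun x => Multiplicative.ofAdd (F.rep x)) fun x y => congrArg Multiplicative.ofAdd (F.rep_mul x y)

theorem card_above (S : AddSubgroup (Fin 6 → K4)) : Nat.card (F.above S) = 2 * Nat.card S := by
  have hsurj : Function.Surjective F.repHom := fun v => by
    obtain ⟨x, hx⟩ := F.rep_surj (Multiplicative.toAdd v)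
    exact ⟨x, congrArg Multiplicative.ofAdd hx⟩
  have hk : Nat.card F.repHom.ker = 2 := by
    have h := F.repHom.ker.index_mul_card
    rw [Subgroup.index_ker, MonoidHom.range_eq_top.2 hsurj, Subgroup.card_top, Nat.card_congr Multiplicative.toAdd,
      Nat.card_fun, Nat.card_eq_fintype_card (α := K4), K4.card_eq, Nat.card_fin] at h
    have hQ : Nat.card Q = 2 ^ 13 := by
      rw [← F.card_QG, QG, Subgroup.card_map_of_injective (Subgroup.subtype_injective _)]
    rw [hQ] at h
    omega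
  let r : F.above S →* Multiplicative S :=
    MonoidHom.mk' (fun x => Multiplicative.ofAdd (⟨F.rep x, x.2⟩ : S))
      fun x y => congrArg Multiplicative.ofAdd (Subtype.ext (F.rep_mul x y))
  have hr : Function.Surjective r := fun v => by
    obtain ⟨x, hx⟩ := F.rep_surj (Multiplicative.toAdd v).1
    exact ⟨⟨x, show F.rep x ∈ S from hx ▸ (Multiplicative.toAdd v).2⟩, congrArg Multiplicative.ofAdd (Subtype.ext hx)⟩
  have hkr : Nat.card r.ker = 2 := by
    rw [← hk]
    exact Nat.card_congr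
      { toFun := fun x => ⟨x.1.1, congrArg (fun a => Multiplicative.ofAdd ((Multiplicative.toAdd a : S) : Fin 6 → K4)) x.2⟩
        invFun := fun x => ⟨⟨x.1, show F.rep x.1 ∈ S by
          rw [show F.rep x.1 = 0 from congrArg Multiplicative.toAdd x.2]; exact S.zero_mem⟩,
          congrArg Multiplicative.ofAdd (Subtype.ext (congrArg Multiplicative.toAdd x.2))⟩
        left_inv := fun _ => rfl
        right_inv := fun _ => rfl }
  rw [← r.ker.index_mul_card, Subgroup.index_ker, MonoidHom.range_eq_top.2 hr, Subgroup.card_top, hkr, mul_comm]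
  rfl

namespace Pair

variable {F} (p : F.Pair)

/-- The effect of the conjugate less the identity. -/
def D : (Fin 6 → K4) →+ (Fin 6 → K4) :=
  AddMonoidHom.mk' (fun v => F.act p.sH v + v) fun v w => by rw [F.act_add]; abel

theorem act_s_invol (v : Fin 6 → K4) : F.act p.sH (F.act p.sH v) = v := by
  rw [← F.act_mul, show p.sH * p.sH = 1 from Subtype.ext p.s_sq, F.act_one]

theorem mem_fix {v : Fin 6 → K4} : v ∈ p.D.ker ↔ F.act p.sH v = v := by
  refine ⟨fun h => ?_, fun h => ?_⟩
  · calc F.act p.sH v = F.act p.sH v + (v + v) := by rw [neg_self6, add_zero]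
      _ = (F.act p.sH v + v) + v := by abel
      _ = v := by rw [show F.act p.sH v + v = 0 from h, zero_add]
  · show F.act p.sH v + v = 0
    rw [h, neg_self6]

theorem range_fix {v : Fin 6 → K4} (h : v ∈ p.D.range) : F.act p.sH v = v := by
  obtain ⟨u, rfl⟩ := h
  show F.act p.sH (F.act p.sH u + u) = F.act p.sH u + u
  rw [F.act_add, p.act_s_invol, add_comm]

theorem range_perp {v u : Fin 6 → K4} (hv : v ∈ p.D.range) (hu : F.act p.sH u = u) : T6 v u = 0 := by
  obtain ⟨w, rfl⟩ := hv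
  show T6 (F.act p.sH w + w) u = 0
  conv_lhs => rw [T6_add_left]; arg 1; rw [← hu]
  rw [F.T6_act]
  exact (show ∀ a : ZMod 2, a + a = 0 by decide) _

theorem card_space : Nat.card p.D.range * Nat.card p.D.ker = 4096 := by
  rw [← AddSubgroup.index_ker, AddSubgroup.index_mul_card, Nat.card_fun, Nat.card_eq_fintype_card (α := K4),
    K4.card_eq, Nat.card_fin]
  norm_num

theorem mem_fx {x : Q} : gv x ∈ p.Fx ↔ F.act p.sH (F.rep x) = F.rep x := by
  rw [F.act_rep]
  have hval : gv (qconj p.sH x) = p.s * gv x * p.s⁻¹ := rfl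
  refine ⟨fun h => ?_, fun h => ⟨mem_QG.2 ⟨x, rfl⟩, ?_⟩⟩
  · rcases h.2 with e | e
    · exact congrArg F.rep (Subtype.ext (Subtype.ext e) : qconj p.sH x = x)
    · have : qconj p.sH x = x * ⟨_, F.zq_mem⟩ := Subtype.ext (Subtype.ext e)
      rw [this, F.rep_mul, (F.rep_zero ⟨_, F.zq_mem⟩).2 (Or.inr rfl), add_zero]
  · exact F.rep_eq h.symm

theorem rep_cm {j : Q} (_hx : p.cm (gv j) ∈ QG Q) :
    ∃ x : Q, gv x = p.cm (gv j) ∧ F.rep x = p.D (F.rep j) := by
  refine ⟨qconj p.sH j * j⁻¹, ?_, ?_⟩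
  · show p.s * gv j * p.s⁻¹ * (gv j)⁻¹ = p.s * gv j * p.s * (gv j)⁻¹
    rw [p.s_inv]
  · rw [F.rep_mul, F.rep_inv, ← F.act_rep]; rfl

theorem exists_cm {x : Q} (h : F.rep x ∈ p.D.range) :
    ∃ j ∈ QG Q, gv x = p.cm j ∨ gv x = p.cm j * z := by
  obtain ⟨v, hv⟩ := h
  obtain ⟨j, rfl⟩ := F.rep_surj v
  obtain ⟨y, hy, hyr⟩ := p.rep_cm (p.cm_mem (mem_QG.2 ⟨j, rfl⟩))
  refine ⟨gv j, mem_QG.2 ⟨j, rfl⟩, ?_⟩
  rcases F.rep_eq (hyr.trans hv) with e | e
  · exact Or.inl (e.trans hy)
  · exact Or.inr (by rw [e, hy])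

/-- A member commuting with all fixed members lies over the image. -/
theorem over_range_of_central {x : Q} (h : ∀ y ∈ p.Fx, y * gv x = gv x * y) : F.rep x ∈ p.D.range := by
  classical
  haveI : Fintype Q := Fintype.ofFinite _
  have hS : ∀ a ∈ (Finset.univ.image fun j : Q => p.cm (gv j)), a ∈ QG Q := fun a ha => by
    obtain ⟨j, -, rfl⟩ := Finset.mem_image.1 ha
    exact p.cm_mem (mem_QG.2 ⟨j, rfl⟩)
  have hmem : gv x ∈ (F.above p.D.range).map ((Subgroup.centralizer ({z} : Set G)).subtype.comp Q.subtype) := by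
    refine (Subgroup.closure_le _).2 ?_ (F.ext.double_centralizer _ hS (gv x) (mem_QG.2 ⟨x, rfl⟩) fun y hy hcom => h y ?_)
    · intro a ha
      rcases Set.mem_insert_iff.1 ha with rfl | ha
      · exact ⟨⟨_, F.zq_mem⟩, show F.rep _ ∈ p.D.range by
          rw [(F.rep_zero ⟨_, F.zq_mem⟩).2 (Or.inr rfl)]; exact zero_mem _, rfl⟩
      · obtain ⟨j, -, rfl⟩ := Finset.mem_image.1 (Finset.mem_coe.1 ha)
        obtain ⟨w, hw, hwr⟩ := p.rep_cm (p.cm_mem (mem_QG.2 ⟨j, rfl⟩))
        exact ⟨w, show F.rep w ∈ p.D.range by rw [hwr]; exact ⟨_, rfl⟩, hw⟩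
    · obtain ⟨y', rfl⟩ := mem_QG.1 hy
      refine p.mem_fx.2 ?_
      obtain ⟨d, hd⟩ := F.rep_surj (F.act p.sH (F.rep y') + F.rep y')
      have hall : ∀ q ∈ QG Q, q * gv d = gv d * q := by
        intro q hq
        obtain ⟨j, rfl⟩ := mem_QG.1 hq
        rw [F.comm_iff, hd]
        obtain ⟨w, hw, hwr⟩ := p.rep_cm (p.cm_mem (mem_QG.2 ⟨j, rfl⟩))
        have h0 := (F.comm_iff y' w).1 (by
          rw [show gv w = p.cm (gv j) from hw]
          exact hcom _ (Finset.mem_image.2 ⟨j, Finset.mem_univ _, rfl⟩))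
        rw [hwr] at h0
        change T6 (F.rep y') (F.act p.sH (F.rep j) + F.rep j) = 0 at h0
        rw [T6_add_right] at h0
        rw [T6_comm, T6_add_left]
        conv_lhs => arg 1; rw [← p.act_s_invol (F.rep j)]
        rw [F.T6_act]
        exact h0
      have h0 : F.rep d = 0 := (F.rep_zero d).2 (F.ext.cen _ (mem_QG.2 ⟨d, rfl⟩) hall)
      exact p.mem_fix.1 (hd.symm.trans h0)
  obtain ⟨w, hw, e⟩ := hmem
  rwa [show x = w from Subtype.ext (Subtype.ext e.symm)]

theorem card_CJ : Nat.card p.D.ker ≤ Nat.card p.CJ ∧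
    (p.AllComm → 2 * Nat.card p.D.ker ≤ Nat.card p.CJ) := by
  classical
  let U := F.above p.D.ker
  have hU : Nat.card U = 2 * Nat.card p.D.ker := F.card_above _
  have hfx : ∀ x : U, gv x.1 ∈ p.Fx := fun x => p.mem_fx.2 (p.mem_fix.1 x.2)
  have hgi : Function.Injective fun x : U => gv x.1 := fun a b e => Subtype.ext (Subtype.ext (Subtype.ext e))
  refine ⟨?_, fun hall => ?_⟩
  · by_cases hall : p.AllComm
    · have h := Nat.card_le_card_of_injective
        (fun x : U => (⟨gv x.1, p.mem_CJ.2 ⟨(hfx x).1, hall _ (hfx x)⟩⟩ : p.CJ))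
        fun a b e => hgi (congrArg (fun q : p.CJ => (q : G)) e)
      omega
    · obtain ⟨v, hv, hvn⟩ := p.exists_noncomm hall
      let f : U → p.CJ × Bool := fun x =>
        if h : gv x.1 * p.s = p.s * gv x.1 then (⟨gv x.1, p.mem_CJ.2 ⟨(hfx x).1, h⟩⟩, false)
        else (⟨gv x.1 * v, p.mem_CJ.2 ⟨mul_mem (hfx x).1 hv.1, p.mul_noncomm (hfx x) h hv hvn⟩⟩, true)
      have hf : Function.Injective f := fun a b e => by
        simp only [f] at e
        split_ifs at e with ha hb hb
        · exact hgi (congrArg (fun q : p.CJ × Bool => (q.1 : G)) e)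
        · exact absurd (congrArg Prod.snd e) (by simp)
        · exact absurd (congrArg Prod.snd e) (by simp)
        · exact hgi (mul_right_cancel (congrArg (fun q : p.CJ × Bool => (q.1 : G)) e))
      have h := Nat.card_le_card_of_injective f hf
      rw [Nat.card_prod, Nat.card_eq_fintype_card (α := Bool), Fintype.card_bool, hU] at h
      omega
  · have h := Nat.card_le_card_of_injective
      (fun x : U => (⟨gv x.1, p.mem_CJ.2 ⟨(hfx x).1, hall _ (hfx x)⟩⟩ : p.CJ))
      fun a b e => hgi (congrArg (fun q : p.CJ => (q : G)) e)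
    omega

theorem card_of_four {S : Subgroup G} {x y : G} (h : ∀ w ∈ S, w = 1 ∨ w = x ∨ w = y ∨ w = x * y) :
    Nat.card S ≤ 4 := by
  classical
  have hsub : (S : Set G) ⊆ (↑({1, x, y, x * y} : Finset G) : Set G) := fun w hw => by
    rcases h w hw with e | e | e | e <;> simp [e]
  have h' := Set.ncard_le_ncard hsub (Finset.finite_toSet _)
  rw [Set.ncard_coe_finset] at h'
  rw [← Nat.card_coe_set_eq] at h'
  exact h'.trans Finset.card_le_four

variable (hO : F.OnlyZ)

include hO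

theorem I_not_cm {x : G} (hx : x ∈ p.I) {j : G} (e : x = p.cm j) : x = 1 :=
  p.key hO hx.2 (e ▸ p.cm_conj j)

theorem I_allcomm (hall : p.AllComm) : ∀ x ∈ p.I, x ≠ 1 → ∃ j ∈ QG Q, x = p.cm j * z := by
  intro x hx hx1
  obtain ⟨x', rfl⟩ := mem_QG.1 hx.1
  have hcen : ∀ y ∈ p.Fx, y * gv x' = gv x' * y := by
    intro y hy
    rcases F.ext.comm _ hx.1 _ hy.1 with e | e
    · calc y * gv x' = (gv x' * y * (gv x')⁻¹ * y⁻¹)⁻¹ * (gv x' * y) := by group
        _ = gv x' * y := by rw [← commutatorElement_def, e]; group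
    · exfalso
      refine p.z_not_mem hO (Eq.subst (motive := fun w => w ∈ PG Q p.g) e ?_)
      rw [commutatorElement_def, show gv x' * y * (gv x')⁻¹ * y⁻¹ = gv x' * (y * (gv x')⁻¹ * y⁻¹) by group]
      exact mul_mem hx.2 ((F.ext.map_conj p.g).norm y (hall y hy) _ (inv_mem hx.2))
  obtain ⟨j, hj, e | e⟩ := p.exists_cm (p.over_range_of_central hcen)
  · exact absurd (p.I_not_cm hO hx e) hx1
  · exact ⟨j, hj, e⟩

theorem I_four (hall : p.AllComm) : ∃ x ∈ p.I, ∃ y ∈ p.I, ∀ w ∈ p.I, w = 1 ∨ w = x ∨ w = y ∨ w = x * y :=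
  p.small p.I (fun _ hx => p.I_sq hx) (p.I_allcomm hO hall) fun _ _ h => p.I_not_cm hO h rfl

end Pair

end Frame

end Cfsg.Agent.Fus.Fi24Red
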