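import Cfsg.Agent.Lib.Fus.Fi24Red.Checks
import Cfsg.Agent.Lib.Fus.LargeFischerAbelian
import Cfsg.Agent.Lib.Spor.LargeFischer.ExtFacts
import Cfsg.Agent.Lib.Spor.LargeFischer.SmallOrbit

/-!
The involutions of `3.U₄(3)` form one class; the 2-subgroups of the centraliser of one of them whose squares are trivial
or that involution are small when they move its fixed space only a little.
-/

set_option autoImplicit false
set_option maxRecDepth 100000
set_option linter.style.haveILetI false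
set_option linter.unusedSectionVars false

open Cfsg Cfsg.Agent.Classical Cfsg.Agent.Spor Cfsg.Agent.Spor.Cos Cfsg.Agent.Spor.LargeFischer Matrix
open Cfsg.Agent.Spor.USixTwo (K4 vecOf)
open Cfsg.Agent.Spor.U62U43 (cover62)
open Cfsg.Agent.Fus.LargeFischerSylow

namespace Cfsg.Agent.Fus.Fi24Red

variable {k : ℕ}

/-- The central involution of the Sylow subgroup. -/
def IsEps (k : ℕ) (e : SUV) : Prop := Invol k (epsI k) e

theorem exists_eps (hk : k < 3) : ∃ e, IsEps k e ∧ e ∈ cover62 k ∧ e ≠ 1 ∧ e * e = 1 := by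
  have h := eps_ok k hk
  simp only [chkEps, Bool.and_eq_true, Nat.blt_eq] at h
  obtain ⟨x, hx, h1, h2⟩ := (invol_facts hk).1 _ h.1.1.1
  exact ⟨x, hx, P0_le hk hx.2.2.1, h1, h2⟩

theorem eps_central (hk : k < 3) {e : SUV} (he : IsEps k e) {x : SUV} (hx : x ∈ P0 k) : e * x = x * e := by
  have h := eps_ok k hk
  simp only [chkEps, Bool.and_eq_true, List.all_eq_true, List.mem_range, beq_iff_eq] at h
  obtain ⟨i, hi⟩ := elem_of_mem hk hx
  refine has_ext (has_mul he.2.2.2 hi.2.2) ?_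
  show Has (x * e) (mulL (epsL k) (lst k i))
  rw [h.1.2 i hi.1]
  exact has_mul hi.2.2 he.2.2.2

theorem inner_conj (hk : k < 3) {e : SUV} (he : IsEps k e) {x : SUV} (hx : x ∈ cover62 k) (h1 : x ≠ 1)
    (hsq : x * x = 1) : ∃ c ∈ cover62 k, c * e * c⁻¹ = x := by
  haveI : Fact (Nat.Prime 2) := ⟨Nat.prime_two⟩
  have hp : IsPGroup 2 (Subgroup.zpowers x) := IsPGroup.of_card (n := 1) (by
    rw [Nat.card_zpowers, orderOf_eq_prime (by rw [pow_two]; exact hsq) h1]; rfl)
  obtain ⟨c, hc, hcx⟩ := LargeFischerAbelian.exists_conj_P0 hk _ (Subgroup.zpowers_le.2 hx) hp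
  have hy := hcx x (Subgroup.mem_zpowers x)
  obtain ⟨j, hj⟩ := (invol_facts hk).2.1 _ hy (fun e' => h1 (by
    rw [show x = c * (c⁻¹ * x * c) * c⁻¹ by group, e', mul_one, mul_inv_cancel])) (by
    rw [show c⁻¹ * x * c * (c⁻¹ * x * c) = c⁻¹ * (x * x) * c by group, hsq]; group)
  have h := eps_ok k hk
  simp only [chkEps, Bool.and_eq_true, List.all_eq_true, List.mem_range, beq_iff_eq, Nat.blt_eq] at h
  obtain ⟨hw, hwe⟩ := h.2 j hj.1
  set w := (epsW k).getD j [] with hwdef
  have e1 : ev (kgen k) w * e = c⁻¹ * x * c * ev (kgen k) w := by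
    refine has_ext (has_mul (has_word hk hw) he.2.2.2) ?_
    show Has _ (mulL (wImg k w) (epsL k))
    rw [hwe]
    exact has_mul hj.2.2.2 (has_word hk hw)
  exact ⟨c * ev (kgen k) w, mul_mem hc (word_mem hk w), by
    calc c * ev (kgen k) w * e * (c * ev (kgen k) w)⁻¹ = c * (ev (kgen k) w * e) * (ev (kgen k) w)⁻¹ * c⁻¹ := by group
      _ = x := by rw [e1]; group⟩

theorem eps_fix (hk : k < 3) {e : SUV} (he : IsEps k e) {c : ℕ} (hc : c < 4096) :
    e • vecOf c = vecOf c ↔ app (epsL k) c = c := invol_fix he hc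

theorem eps_app {e : SUV} (he : IsEps k e) {c : ℕ} (hc : c < 4096) : e • vecOf c = vecOf (app (epsL k) c) :=
  has_app he.2.2.2 hc

theorem eps_card_fix (hk : k < 3) {e : SUV} (he : IsEps k e) :
    Nat.card {v : Fin 6 → K4 // e • v = v} = 256 := by
  have h := space_ok k hk
  simp only [chkSpace, Bool.and_eq_true, Nat.beq_eq] at h
  let f : Fin 4096 ≃ (Fin 6 → K4) :=
    ⟨fun c => vecOf c.1, fun v => ⟨enc6 v, enc6_lt v⟩, fun c => Fin.ext (enc6_vecOf c.2), vecOf_enc6⟩
  rw [← Nat.card_congr (f.subtypeEquiv (p := fun c : Fin 4096 => app (epsL k) c.1 = c.1)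
    fun c => ((eps_fix hk he c.2).symm)), Nat.card_eq_fintype_card, Fintype.card_subtype, ← h.1.2,
    List.countP_eq_length_filter, ← List.toFinset_card_of_nodup (List.nodup_range.filter _)]
  refine Finset.card_bij (fun c _ => c.1) (fun c hc => ?_) (fun a _ b _ e' => Fin.ext e') fun c hc => ?_
  · simpa [List.mem_filter, Nat.beq_eq] using (Finset.mem_filter.1 hc).2
  · rw [List.mem_toFinset, List.mem_filter, List.mem_range, Nat.beq_eq] at hc
    exact ⟨⟨c, hc.1⟩, Finset.mem_filter.2 ⟨Finset.mem_univ _, hc.2⟩, rfl⟩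

theorem eps_move (hk : k < 3) {e : SUV} (he : IsEps k e) (v : Fin 6 → K4) :
    enc6 (e • v + v) ∈ epsM k := by
  have h := space_ok k hk
  simp only [chkSpace, Bool.and_eq_true, List.all_eq_true, List.mem_range, List.contains_iff_mem] at h
  have hc := h.2 _ (enc6_lt v)
  have hlt : app (epsL k) (enc6 v) < 4096 := app_lt he.2.2.2.2.1 _
  rwa [← enc6_vecOf (Nat.xor_lt_two_pow (n := 12) hlt (enc6_lt v)), vecOf_xor, ← eps_app he (enc6_lt v),
    vecOf_enc6] at hc

/-- Counting a subgroup by a test on the places. -/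
theorem card_le_countP (hk : k < 3) {X : Subgroup SUV} (hX : X ≤ P0 k) (p : ℕ → Bool)
    (hp : ∀ x ∈ X, ∀ i, Elem k i x → p i = true) : Nat.card X ≤ (List.range 128).countP p := by
  choose f hf using fun x : X => elem_of_mem hk (hX x.2)
  rw [List.countP_eq_length_filter, ← List.toFinset_card_of_nodup (List.nodup_range.filter _),
    ← Nat.card_eq_finsetCard]
  refine Nat.card_le_card_of_injective (fun x => ⟨f x, ?_⟩) fun a b e' => Subtype.ext ?_
  · rw [List.mem_toFinset, List.mem_filter, List.mem_range]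
    exact ⟨(hf x).1, hp _ x.2 _ (hf x)⟩
  · have e'' : f a = f b := congrArg Subtype.val e'
    exact has_ext (hf a).2.2 (e'' ▸ (hf b).2.2)

theorem sq_data (hk : k < 3) : (sqI k).length < 64 ∧ (List.range 128).countP (sqOk k) < 64 ∧
    (∀ p : List ℕ → Bool, (sqT k).countP p = (List.range 128).countP fun i =>
      sqOk k i && p ((epsB k).map fun v => app (lst k i) v ^^^ v)) := by
  have h := sq_ok k hk
  simp only [chkSq, Bool.and_eq_true, beq_iff_eq, Nat.blt_eq] at h
  obtain ⟨⟨h1, h2⟩, h3⟩ := h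
  refine ⟨h2, by rwa [List.countP_eq_length_filter, ← h1], fun p => ?_⟩
  rw [h3, h1, List.countP_map, List.countP_filter]
  congr 1
  funext i
  simp [Bool.and_comm]

theorem sqOk_of (hk : k < 3) {e : SUV} (he : IsEps k e) {x : SUV} {i : ℕ} (hi : Elem k i x)
    (h : x * x = 1 ∨ x * x = e) : sqOk k i = true := by
  simp only [sqOk, Bool.or_eq_true, beq_iff_eq]
  rcases h with h | h
  · exact Or.inl (has_unique (h ▸ has_mul hi.2.2 hi.2.2) has_one)
  · exact Or.inr (has_unique (h ▸ has_mul hi.2.2 hi.2.2) he.2.2.2)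

/-- A 2-subgroup of the centraliser moves into the Sylow subgroup keeping the involution. -/
theorem exists_conj_cent (hk : k < 3) {e : SUV} (he : IsEps k e) (X : Subgroup SUV) (hX : X ≤ cover62 k)
    (hc : ∀ x ∈ X, x * e = e * x) (hp : IsPGroup 2 X) :
    ∃ c ∈ cover62 k, c * e = e * c ∧ ∀ x ∈ X, c⁻¹ * x * c ∈ P0 k := by
  haveI : Fact (Nat.Prime 2) := ⟨Nat.prime_two⟩
  set C := cover62 k ⊓ Subgroup.centralizer ({e} : Set SUV) with hC
  have hle : P0 k ≤ C := fun x hx =>
    ⟨P0_le hk hx, Subgroup.mem_centralizer_singleton_iff.2 (eps_central hk he hx).symm⟩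
  have hXC : X ≤ C := fun x hx => ⟨hX hx, Subgroup.mem_centralizer_singleton_iff.2 (hc x hx)⟩
  have hP : IsPGroup 2 ((P0 k).subgroupOf C) :=
    IsPGroup.of_card (n := 7) (by rw [Nat.card_congr (Subgroup.subgroupOfEquivOfLe hle).toEquiv, card_P0 hk]; rfl)
  obtain ⟨S, hS⟩ := hP.exists_le_sylow
  have hSeq : (S : Subgroup C) = (P0 k).subgroupOf C := by
    refine (Subgroup.eq_of_le_of_card_ge hS ?_).symm
    rw [Nat.card_congr (Subgroup.subgroupOfEquivOfLe hle).toEquiv, card_P0 hk]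
    obtain ⟨n, hn⟩ := IsPGroup.iff_card.1 S.2
    have hdvd : Nat.card S ∣ 2 ^ 7 * 76545 := by
      rw [show (2 ^ 7 * 76545 : ℕ) = 9797760 by norm_num, ← card_cover hk]
      exact dvd_trans (Subgroup.card_subgroup_dvd_card _) (Subgroup.card_dvd_of_le inf_le_left)
    rw [hn] at hdvd
    have h7 : 2 ^ n ∣ 2 ^ 7 := (Nat.Coprime.pow_left n (by norm_num)).dvd_of_dvd_mul_right hdvd
    rw [hn]
    exact (Nat.le_of_dvd (by norm_num) h7).trans (by norm_num)
  obtain ⟨T, hT⟩ := (hp.of_equiv (Subgroup.subgroupOfEquivOfLe hXC).symm).exists_le_sylow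
  obtain ⟨g, hg⟩ := MulAction.exists_smul_eq C S T
  refine ⟨g.1, g.2.1, Subgroup.mem_centralizer_singleton_iff.1 g.2.2, fun x hx => ?_⟩
  have h1 : (⟨x, hXC hx⟩ : C) ∈ (g • S : Sylow 2 C) := by rw [hg]; exact hT hx
  change _ ∈ ((g • S : Sylow 2 C) : Subgroup C) at h1
  rw [Sylow.coe_subgroup_smul, Subgroup.mem_pointwise_smul_iff_inv_smul_mem, hSeq] at h1
  have h2 : g⁻¹ * ⟨x, hXC hx⟩ * g ∈ (P0 k).subgroupOf C := by
    simpa [MulAut.smul_def, MulAut.conj_apply, MulAut.conj_inv_apply] using h1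
  exact h2

/-- The move of a 2-subgroup into the Sylow subgroup, counted by a test. -/
theorem conj_count (hk : k < 3) {e : SUV} (he : IsEps k e) (X : Subgroup SUV) (hX : X ≤ cover62 k)
    (hc : ∀ x ∈ X, x * e = e * x) (hp : IsPGroup 2 X) (hsq : ∀ x ∈ X, x * x = 1 ∨ x * x = e) :
    ∃ c : SUV, c * e = e * c ∧ ∀ p : ℕ → Bool,
      (∀ x ∈ X, ∀ i, Elem k i (c⁻¹ * x * c) → sqOk k i = true → p i = true) →
        Nat.card X ≤ (List.range 128).countP p := by
  obtain ⟨c, -, hce, hcX⟩ := exists_conj_cent hk he X hX hc hp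
  refine ⟨c, hce, fun p hpx => ?_⟩
  rw [Nat.card_congr (X.equivMapOfInjective (MulAut.conj c⁻¹).toMonoidHom (MulAut.conj c⁻¹).injective).toEquiv]
  refine card_le_countP hk ?_ p ?_
  · rintro _ ⟨x, hx, rfl⟩
    have h := hcX x hx
    simpa [MulAut.conj_apply] using h
  · rintro _ ⟨x, hx, rfl⟩ i hi
    have hi' : Elem k i (c⁻¹ * x * c) := by simpa [MulAut.conj_apply] using hi
    refine hpx x hx i hi' (sqOk_of hk he hi' ?_)
    have e1 : c⁻¹ * x * c * (c⁻¹ * x * c) = c⁻¹ * (x * x) * c := by group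
    rw [e1]
    rcases hsq x hx with h | h <;> rw [h]
    · left; group
    · right; rw [mul_assoc, ← hce, inv_mul_cancel_left]

theorem sq_bound (hk : k < 3) {e : SUV} (he : IsEps k e) (X : Subgroup SUV) (hX : X ≤ cover62 k)
    (hc : ∀ x ∈ X, x * e = e * x) (hp : IsPGroup 2 X) (hsq : ∀ x ∈ X, x * x = 1 ∨ x * x = e) :
    Nat.card X < 64 := by
  obtain ⟨c, -, h⟩ := conj_count hk he X hX hc hp hsq
  exact (h (sqOk k) fun _ _ _ _ h => h).trans_lt (sq_data hk).2.1

theorem epsM_sound : ∀ k < 3, ((epsM k).all fun a =>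
    (List.range 4096).any fun v => Nat.beq (app (epsL k) v ^^^ v) a) = true := by decide +kernel

theorem mem_epsM (hk : k < 3) {e : SUV} (he : IsEps k e) {a : ℕ} (ha : a ∈ epsM k) :
    ∃ v : Fin 6 → K4, vecOf a = e • v + v := by
  have h := epsM_sound k hk
  simp only [List.all_eq_true, List.any_eq_true, List.mem_range, Nat.beq_eq] at h
  obtain ⟨v, hv, hva⟩ := h a ha
  exact ⟨vecOf v, by rw [← hva, vecOf_xor, ← eps_app he hv]⟩

theorem trC_comm (a b : ℕ) : trC a b = trC b a := by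
  have h := T6_comm (vecOf a) (vecOf b)
  rw [T6_code, T6_code] at h
  revert h
  cases trC a b <;> cases trC b a <;> simp

theorem app_zero' : ∀ (l : List ℕ), app l 0 ^^^ 0 = 0 := fun l => by
  induction l with
  | nil => rfl
  | cons x l ih => simp only [app, Nat.zero_mod, zero_mul, Nat.zero_div, Nat.zero_xor] at ih ⊢; exact ih

theorem app_xor' : ∀ (l : List ℕ) (a b : ℕ), app l (a ^^^ b) = app l a ^^^ app l b
  | [], _, _ => by simp [app]
  | x :: l, a, b => by
    have h1 : (a ^^^ b) % 2 * x = (a % 2 * x) ^^^ (b % 2 * x) := by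
      rw [show (a ^^^ b) % 2 = (a % 2) ^^^ (b % 2) from Nat.xor_mod_two_pow (n := 1)]
      rcases Nat.mod_two_eq_zero_or_one a with e | e <;> rcases Nat.mod_two_eq_zero_or_one b with e' | e' <;>
        rw [e, e'] <;> simp
    have h2 : (a ^^^ b) / 2 = (a / 2) ^^^ (b / 2) := by
      simpa [Nat.shiftRight_eq_div_pow] using Nat.shiftRight_xor_distrib (a := a) (b := b) (i := 1)
    rw [app, app, app, h1, h2, app_xor' l]
    simp only [Nat.xor_assoc, Nat.xor_comm, Nat.xor_left_comm]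

theorem eq_code {u : Fin 6 → K4} {a : ℕ} (h : u = vecOf a) (ha : a < 4096) : enc6 u = a := by
  rw [h, enc6_vecOf ha]

/-- Few elements move the fixed space into one plane. -/
theorem plane_bound (hk : k < 3) {e : SUV} (he : IsEps k e) (X : Subgroup SUV) (hX : X ≤ cover62 k)
    (hc : ∀ x ∈ X, x * e = e * x) (hp : IsPGroup 2 X) (hsq : ∀ x ∈ X, x * x = 1 ∨ x * x = e)
    (v₁ v₂ : Fin 6 → K4) (hmov : ∀ x ∈ X, ∀ v, e • v = v →
      x • v + v = 0 ∨ x • v + v = e • v₁ + v₁ ∨ x • v + v = e • v₂ + v₂ ∨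
        x • v + v = e • v₁ + v₁ + (e • v₂ + v₂)) :
    Nat.card X < 32 := by
  obtain ⟨c, hce, hcount⟩ := conj_count hk he X hX hc hp hsq
  have hw : ∀ u, c⁻¹ • (e • u + u) = e • (c⁻¹ • u) + c⁻¹ • u := fun u => by
    rw [smul_add', ← mul_smul c⁻¹, ← mul_smul e,
      show c⁻¹ * e = e * c⁻¹ from (Commute.inv_left (show Commute c e from hce)).eq]
  set a := enc6 (e • (c⁻¹ • v₁) + c⁻¹ • v₁)
  set b := enc6 (e • (c⁻¹ • v₂) + c⁻¹ • v₂)
  have hpl := plane_ok k hk
  simp only [chkPlane, List.all_eq_true, Nat.blt_eq] at hpl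
  refine (hcount (fun i => sqOk k i && inPlane a b ((epsB k).map fun v => app (lst k i) v ^^^ v))
    fun x hx i hi hsi => ?_).trans_lt ((sq_data hk).2.2 (inPlane a b) ▸ hpl a (eps_move hk he _) b (eps_move hk he _))
  have hs := space_ok k hk
  simp only [chkSpace, Bool.and_eq_true, List.all_eq_true, Nat.blt_eq, Nat.beq_eq] at hs
  simp only [inPlane, Bool.and_eq_true, List.all_eq_true, List.mem_map, forall_exists_index, and_imp,
    forall_apply_eq_imp_iff₂, Bool.or_eq_true, Nat.beq_eq, hsi, true_and]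
  intro v hv
  obtain ⟨hv1, hv2⟩ := hs.1.1 v hv
  have hfix : e • c • vecOf v = c • vecOf v := by
    rw [← mul_smul, ← hce, mul_smul, (eps_fix hk he hv1).2 hv2]
  have hval : vecOf (app (lst k i) v ^^^ v) = c⁻¹ • (x • (c • vecOf v) + c • vecOf v) := by
    rw [vecOf_xor, ← has_app hi.2.2 hv1, smul_add', inv_smul_smul, mul_smul, mul_smul]
  have hlt : app (lst k i) v ^^^ v < 4096 := Nat.xor_lt_two_pow (n := 12) (app_lt hi.2.2.2.1 _) hv1
  rw [← enc6_vecOf hlt, hval]
  rcases hmov x hx _ hfix with h | h | h | h <;> rw [h]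
  · left; left; left
    exact eq_code (by rw [vecOf_zero]; exact Matrix.mulVec_zero _) (by norm_num)
  · left; left; right; rw [hw]
  · left; right; rw [hw]
  · right
    refine eq_code ?_ (Nat.xor_lt_two_pow (n := 12) (enc6_lt _) (enc6_lt _))
    rw [vecOf_xor, vecOf_enc6, vecOf_enc6, smul_add', hw, hw]

/-- Few elements move the part of the fixed space orthogonal to an outside vector into its line. -/
theorem line_bound (hk : k < 3) {e : SUV} (he : IsEps k e) (X : Subgroup SUV) (hX : X ≤ cover62 k)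
    (hc : ∀ x ∈ X, x * e = e * x) (hp : IsPGroup 2 X) (hsq : ∀ x ∈ X, x * x = 1 ∨ x * x = e)
    (u : Fin 6 → K4) (hu : e • u = u) (hiso : hermForm 6 K4 2 u u = 0) (hout : ∀ v, e • v + v ≠ u)
    (hmov : ∀ x ∈ X, ∀ v, e • v = v → T6 v u = 0 → x • v + v = 0 ∨ x • v + v = u) :
    Nat.card X < 32 := by
  obtain ⟨c, hce, hcount⟩ := conj_count hk he X hX hc hp hsq
  set y := enc6 (c⁻¹ • u) with hy
  have hce' : c⁻¹ * e = e * c⁻¹ := (Commute.inv_left (show Commute c e from hce)).eq
  have hl := line_ok k hk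
  simp only [chkLine, List.all_eq_true, List.mem_range, Bool.or_eq_true, Bool.not_eq_true', Bool.and_eq_false_iff,
    Bool.and_eq_true, List.contains_iff_mem, Nat.blt_eq, Nat.beq_eq, Bool.not_eq_false'] at hl
  obtain ⟨hperp, hcnt⟩ := (hl y (enc6_lt _)).resolve_left (by
    have h1 : app (epsL k) y = y := (eps_fix hk he (enc6_lt _)).1 (by
      rw [vecOf_enc6, ← mul_smul, ← hce', mul_smul, hu])
    have h2 : hermC y y = 0 := (hermC_zero _ _).1 (by rw [vecOf_enc6, smul_herm, hiso])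
    have h3 : y ∉ epsM k := fun hm => by
      obtain ⟨v, hv⟩ := mem_epsM hk he hm
      refine hout (c • v) ?_
      rw [← mul_smul e, ← hce, mul_smul, ← smul_add', ← hv, vecOf_enc6, smul_inv_smul]
    simp only [h1, h2, beq_self_eq_true, Bool.false_eq_true, or_false, false_or, not_false_eq_true]
    simpa using h3)
  refine (hcount (fun i => sqOk k i && inLine k y ((epsB k).map fun v => app (lst k i) v ^^^ v))
    fun x hx i hi hsi => ?_).trans_lt ((sq_data hk).2.2 (inLine k y) ▸ hcnt)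
  simp only [inLine, Bool.and_eq_true, List.all_eq_true, Bool.or_eq_true, Nat.beq_eq, hsi, true_and]
  intro m hm
  obtain ⟨v, hv, rfl⟩ : ∃ v ∈ perpV k y (epsB k), app (lst k i) v ^^^ v = m := by
    simp only [perpV, List.mem_map, List.mem_range] at hm
    obtain ⟨t, ht, rfl⟩ := hm
    refine ⟨_, List.mem_map.2 ⟨t, List.mem_range.2 ht, rfl⟩, ?_⟩
    have hmap : ∀ j, app (lst k i) ((epsB k).getD j 0) ^^^ (epsB k).getD j 0 =
        ((epsB k).map fun v => app (lst k i) v ^^^ v).getD j 0 := fun j => by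
      rcases Nat.lt_or_ge j (epsB k).length with h | h
      · rw [List.getD_eq_getElem _ _ h, List.getD_eq_getElem _ _ (by rw [List.length_map]; exact h), List.getElem_map]
      · rw [List.getD_eq_default _ _ h, List.getD_eq_default _ _ (by rw [List.length_map]; exact h), app_zero']
    cases trC y ((epsB k).getD t 0)
    · exact hmap t
    · simp only [cond_true, ← hmap, app_xor']
      simp only [Nat.xor_assoc, Nat.xor_comm, Nat.xor_left_comm]
  obtain ⟨⟨hv1, hv2⟩, hv3⟩ := hperp v hv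
  have hfix : e • c • vecOf v = c • vecOf v := by
    rw [← mul_smul, ← hce, mul_smul, (eps_fix hk he hv1).2 hv2]
  have hT : T6 (c • vecOf v) u = 0 := by
    rw [← T6_smul c⁻¹, inv_smul_smul, ← vecOf_enc6 (c⁻¹ • u), T6_code_zero, ← hy]
    rwa [trC_comm] at hv3
  have hval : vecOf (app (lst k i) v ^^^ v) = c⁻¹ • (x • (c • vecOf v) + c • vecOf v) := by
    rw [vecOf_xor, ← has_app hi.2.2 hv1, smul_add', inv_smul_smul, mul_smul, mul_smul]
  have hlt : app (lst k i) v ^^^ v < 4096 := Nat.xor_lt_two_pow (n := 12) (app_lt hi.2.2.2.1 _) hv1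
  rw [← enc6_vecOf hlt, hval]
  rcases hmov x hx _ hfix hT with h | h <;> rw [h]
  · left; exact eq_code (by rw [vecOf_zero]; exact Matrix.mulVec_zero _) (by norm_num)
  · right; rfl

end Cfsg.Agent.Fus.Fi24Red
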