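import Cfsg.Prelude.Def_Transfer
import Cfsg.Prelude.Def_CaseTheorems
import Cfsg.Prelude.Def_Classical
import Cfsg.Prelude.Def_Spor_Fi24
import Cfsg.Agent.Lib.Fus.Fi24Red.Assemble

/-!
A centraliser of shape `J.3.U₄(3)` extended by any group, given the recognitions of Fi24' and Fi24.
-/

set_option autoImplicit false
set_option linter.style.haveILetI false

open Cfsg

namespace Cfsg.Agent.Fus.Fi24Red

universe u

/-- The conclusion, given the two recognition theorems. -/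
theorem conclusion (hR' : RecPrime.{u}) (hR : RecAut.{u}) {G : Type u} [Group G] [Finite G] (z : G)
    (hz : orderOf z = 2) {L : Type*} [Field L] [Fintype L] (hL : Fintype.card L = 9)
    (hJ : IsExtraspecial 2 ↥(pCore 2 ↥(Subgroup.centralizer ({z} : Set G))))
    (hJc : Nat.card ↥(pCore 2 ↥(Subgroup.centralizer ({z} : Set G))) = 2 ^ 13)
    (hCJ : Subgroup.centralizer ((pCore 2 ↥(Subgroup.centralizer ({z} : Set G))) :
      Set ↥(Subgroup.centralizer ({z} : Set G))) ≤ pCore 2 ↥(Subgroup.centralizer ({z} : Set G)))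
    (M K : Subgroup ↥(Subgroup.centralizer ({z} : Set G))) [M.Normal] [K.Normal]
    (hJM : pCore 2 ↥(Subgroup.centralizer ({z} : Set G)) ≤ M) (hMK : M ≤ K)
    (hM3 : Nat.card ↥M = 3 * Nat.card ↥(pCore 2 ↥(Subgroup.centralizer ({z} : Set G))))
    (e : (↥K ⧸ M.subgroupOf K) ≃* PSU 4 L 3) :
    Subgroup.centralizer ({z} : Set G) ⊔ oddCore G = ⊤ ∨
      (K.index = 2 ∧ Spor.IsoFi24' G) ∨
      (K.index = 4 ∧ (∀ x : ↥(Subgroup.centralizer ({z} : Set G)) ⧸ K, x ^ 2 = 1) ∧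
        Nonempty (G ≃* Spor.Fi24)) := by
  rcases reduce hz hL hJ hJc hCJ M K hJM hMK hM3 e with h | ⟨hnwc, h2 | ⟨h4, hexp⟩⟩
  · exact Or.inl h
  · obtain ⟨K₀, _, _, hK₀, ⟨eK⟩⟩ := exists_equiv_small hL
    haveI : (pCore 2 ↥(Subgroup.centralizer ({z} : Set G))).Normal := Grp.pCore_isNormal
    exact Or.inr (Or.inl ⟨h2, hR' z hz _ M K (gfitting_eq hCJ) hJ hJc hJM hMK hM3 K₀ hK₀ (e.trans eK) h2 hnwc⟩)
  · exact Or.inr (Or.inr ⟨h4, hexp, index_four hR' hR hz hL hJ hJc hCJ M K hJM hMK hM3 e h4 hnwc⟩)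

end Cfsg.Agent.Fus.Fi24Red
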