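import Cfsg.Prelude.Def_MonsterType
import Cfsg.Agent.Lib.Spor.LargeFischer.Setting
import Cfsg.Agent.Lib.Spor.LargeFischer.Module
import Cfsg.Agent.Lib.Spor.LargeFischer.Cover
import Cfsg.Agent.Lib.Spor.ExtraspecialOut
import Cfsg.Agent.Lib.Spor.ExtraPair
import Cfsg.Agent.Lib.Spor.Leech.MonsterPair
import Cfsg.Agent.Lib.Grp.Components

/-!
The coordinates on the extraspecial group for a centraliser of shape `J.3.U₄(3)` extended by any group: as in the
setting of large Fischer type, with no condition on the index.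
-/

set_option autoImplicit false
set_option maxRecDepth 100000
set_option linter.style.haveILetI false
set_option linter.unusedSectionVars false

open Cfsg Cfsg.Agent.Classical Cfsg.Agent.Spor Cfsg.Agent.Spor.LargeFischer Matrix
open Cfsg.Agent.Spor.USixTwo (K4)
open Cfsg.Agent.Spor.U62U43 (cover62 G43)

namespace Cfsg.Agent.Fus.Fi24Red

variable {G : Type*} [Group G] {z : G} {Q : Subgroup (Subgroup.centralizer ({z} : Set G))}

/-- The coordinates. -/
structure Frame (z : G) (Q : Subgroup (Subgroup.centralizer ({z} : Set G))) [Q.Normal] where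
  /-- the class -/
  k : ℕ
  hk : k < 3
  /-- coordinates on the extraspecial group -/
  rep : Q → (Fin 6 → K4)
  rep_mul : ∀ x y, rep (x * y) = rep x + rep y
  rep_surj : Function.Surjective rep
  rep_zero : ∀ x : Q, rep x = 0 ↔ ((x : Subgroup.centralizer ({z} : Set G)) : G) = 1 ∨
    ((x : Subgroup.centralizer ({z} : Set G)) : G) = z
  herm_zero : ∀ x : Q, hermForm 6 K4 2 (rep x) (rep x) = 0 ↔ x * x = 1
  /-- the action -/
  act : Subgroup.centralizer ({z} : Set G) → (Fin 6 → K4) → (Fin 6 → K4)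
  act_mul : ∀ g h v, act (g * h) v = act g (act h v)
  act_one : ∀ v, act 1 v = v
  act_add : ∀ g v w, act g (v + w) = act g v + act g w
  act_rep : ∀ g x, act g (rep x) = rep (qconj g x)
  act_ker : ∀ g, (∀ v, act g v = v) ↔ g ∈ Q
  /-- the part inducing the simple group -/
  M : Subgroup (Subgroup.centralizer ({z} : Set G))
  M_normal : M.Normal
  M_le : Q ≤ M
  /-- its image -/
  lin : M →* SUV
  lin_range : lin.range = cover62 k
  lin_act : ∀ (m : M) v, act m v = lin m • v
  ext : ExtraPair.Ext z (QG Q)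
  card_QG : Nat.card (QG Q) = 2 ^ 13

variable [Finite G] [hQn : Q.Normal]

/-- The coordinates exist. -/
theorem exists_frame (hord : orderOf z = 2) (hE : IsExtraspecial 2 Q) (hcard : Nat.card Q = 2 ^ 13)
    (hself : Subgroup.centralizer (Q : Set (Subgroup.centralizer ({z} : Set G))) ≤ Q)
    (N M : Subgroup (Subgroup.centralizer ({z} : Set G))) [hNn : N.Normal] [hMn : M.Normal] (hQN : Q ≤ N) (hNM : N ≤ M)
    (hcN : Nat.card N = 3 * Nat.card Q) {K9' : Type*} [Field K9'] [Fintype K9'] (hK9 : Fintype.card K9' = 9)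
    (eM : (M ⧸ N.subgroupOf M) ≃* PSU 4 K9' 3) : ∃ F : Frame z Q, F.M = M := by
  have hzH : z ∈ (Subgroup.centralizer ({z} : Set G)) := Subgroup.mem_centralizer_singleton_iff.2 rfl
  have hcomm : ∀ h : (Subgroup.centralizer ({z} : Set G)), (h : G) * z = z * h := fun h => Subgroup.mem_centralizer_singleton_iff.1 h.2
  have hzQ : (⟨z, hzH⟩ : (Subgroup.centralizer ({z} : Set G))) ∈ Q :=
    hself (Subgroup.mem_centralizer_iff.2 fun h _ => Subtype.ext (hcomm h))
  have hz1 : z ≠ 1 := fun e => by rw [e, orderOf_one] at hord; omega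
  obtain ⟨ze, π, q, d⟩ := ExtraOut.exists_data (ι := Fin 12) hE (by rw [hcard, Fintype.card_fin]; norm_num)
  obtain ⟨hsqc, hcommc⟩ := Fus.extraspecial_two_facts hE
  have hcases : ∀ x : Q, (∀ y, y * x = x * y) → x = 1 ∨ x = ze := fun x hx => by
    refine (d.ker x).1 ?_
    by_contra h
    refine h (Multiplicative.toAdd.injective ?_)
    rw [toAdd_one]
    refine d.nd.1 _ fun v => ?_
    obtain ⟨y, hy⟩ := d.surj (Multiplicative.ofAdd v)
    have e := ExtraOut.conj_pw d x y
    rw [← hx y, mul_inv_cancel_right, hy, toAdd_ofAdd] at e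
    rw [QuadraticMap.polarBilin_apply_apply]
    exact ExtraOut.pw_inj d.ne (mul_left_cancel (e.symm.trans (by rw [ExtraOut.pw_zero, mul_one])))
  have hzE : ((ze : (Subgroup.centralizer ({z} : Set G))) : G) = z := by
    rcases hcases ⟨⟨z, hzH⟩, hzQ⟩ (fun y => Subtype.ext (Subtype.ext (hcomm y))) with e | e
    · exact absurd (congrArg (fun x : Q => ((x : (Subgroup.centralizer ({z} : Set G))) : G)) e) hz1
    · exact (congrArg (fun x : Q => ((x : (Subgroup.centralizer ({z} : Set G))) : G)) e).symm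
  have hkerπ : ∀ x : Q, π x = 1 ↔ ((x : (Subgroup.centralizer ({z} : Set G))) : G) = 1 ∨ ((x : (Subgroup.centralizer ({z} : Set G))) : G) = z := fun x => by
    have hinj : ∀ a b : Q, a = b ↔ ((a : Subgroup.centralizer ({z} : Set G)) : G) = ((b : Subgroup.centralizer ({z} : Set G)) : G) :=
      fun a b => ⟨fun e => by rw [e], fun e => Subtype.ext (Subtype.ext e)⟩
    rw [d.ker, hinj x 1, hinj x ze, hzE]
    rfl
  have hzz : z * z = 1 := by rw [← pow_two, ← hord, pow_orderOf_eq_one]
  have hext : ExtraPair.Ext z (QG Q) := by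
    have hcen : ∀ x : Q, x ∈ Subgroup.center Q → ((x : (Subgroup.centralizer ({z} : Set G))) : G) = 1 ∨ ((x : (Subgroup.centralizer ({z} : Set G))) : G) = z := fun x hx => by
      rcases hcases x (Subgroup.mem_center_iff.1 hx) with rfl | rfl
      · exact Or.inl rfl
      · exact Or.inr hzE
    refine ⟨mem_QG.2 ⟨⟨⟨z, hzH⟩, hzQ⟩, rfl⟩, hz1, hzz, fun q hq => ?_, fun x hx y hy => ?_, fun x hx => ?_,
      fun x hx hc => ?_, fun c hc => ?_, fun c hc x hx => ?_⟩
    · exact Subgroup.mem_centralizer_singleton_iff.1 (QG_le hq)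
    · obtain ⟨a, rfl⟩ := mem_QG.1 hx
      obtain ⟨b, rfl⟩ := mem_QG.1 hy
      exact hcen _ (hcommc a b)
    · obtain ⟨a, rfl⟩ := mem_QG.1 hx
      rw [← pow_two]
      exact hcen _ (hsqc a)
    · obtain ⟨a, rfl⟩ := mem_QG.1 hx
      exact hcen a (Subgroup.mem_center_iff.2 fun b => Subtype.ext (Subtype.ext (hc _ (mem_QG.2 ⟨b, rfl⟩))))
    · have hcH : c ∈ (Subgroup.centralizer ({z} : Set G)) := Subgroup.mem_centralizer_singleton_iff.2 (hc z (mem_QG.2 ⟨⟨⟨z, hzH⟩, hzQ⟩, rfl⟩)).symm
      refine mem_QG.2 ⟨⟨⟨c, hcH⟩, hself (Subgroup.mem_centralizer_iff.2 fun b hb => Subtype.ext ?_)⟩, rfl⟩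
      exact hc _ (mem_QG.2 ⟨⟨b, hb⟩, rfl⟩)
    · obtain ⟨a, rfl⟩ := mem_QG.1 hx
      have hcH : c ∈ (Subgroup.centralizer ({z} : Set G)) := Subgroup.mem_centralizer_singleton_iff.2 hc
      exact mem_QG.2 ⟨qconj ⟨c, hcH⟩ a, rfl⟩
  -- the action
  let toAut : (Subgroup.centralizer ({z} : Set G)) →* MulAut Q := MulAut.conjNormal
  have hconjQ : ∀ (h : (Subgroup.centralizer ({z} : Set G))) (x : Q), toAut h x = qconj h x := fun h x => Subtype.ext (MulAut.conjNormal_apply h x)
  let θ : (Subgroup.centralizer ({z} : Set G)) →* Module.End (ZMod 2) (Fin 12 → ZMod 2) :=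
    { toFun := fun h => ExtraOut.ind d (toAut h)
      map_one' := by rw [map_one, ExtraOut.ind_one]; rfl
      map_mul' := fun g h => by rw [map_mul, ExtraOut.ind_mul]; rfl }
  have hθrep : ∀ h x, θ h (π x).toAdd = (π (qconj h x)).toAdd := fun h x => by
    show ExtraOut.ind d (toAut h) _ = _
    rw [ExtraOut.ind_apply, hconjQ]
  have hθker : ∀ h, θ h = 1 ↔ h ∈ Q := fun h => by
    constructor
    · intro e
      have hk : toAut h ∈ (ExtraOut.toIso d).ker := MonoidHom.mem_ker.2 (Subtype.ext (Units.ext (by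
        show LinearMap.toMatrix' (ExtraOut.ind d (toAut h)) = 1
        rw [show ExtraOut.ind d (toAut h) = LinearMap.id from e, LinearMap.toMatrix'_id])))
      rw [ExtraOut.toIso_ker] at hk
      obtain ⟨a, ha⟩ := hk
      have hmem : (a : (Subgroup.centralizer ({z} : Set G)))⁻¹ * h ∈ Subgroup.centralizer (Q : Set (Subgroup.centralizer ({z} : Set G))) := Subgroup.mem_centralizer_iff.2 fun b hb => by
        have e1 : (a : (Subgroup.centralizer ({z} : Set G))) * b * (a : (Subgroup.centralizer ({z} : Set G)))⁻¹ = h * b * h⁻¹ := by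
          have := congrArg (fun φ : MulAut Q => ((φ ⟨b, hb⟩ : Q) : (Subgroup.centralizer ({z} : Set G)))) ha
          simpa [hconjQ, qconj, MulAut.conj_apply] using this
        calc b * ((a : (Subgroup.centralizer ({z} : Set G)))⁻¹ * h) = (a : (Subgroup.centralizer ({z} : Set G)))⁻¹ * ((a : (Subgroup.centralizer ({z} : Set G))) * b * (a : (Subgroup.centralizer ({z} : Set G)))⁻¹) * h := by group
          _ = _ := by rw [e1]; group
      simpa using mul_mem a.2 (hself hmem)
    · intro hh
      refine ExtraOut.ind_ext d fun x => ?_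
      show θ h _ = _
      rw [hθrep]
      refine congrArg Multiplicative.toAdd ?_
      rw [show qconj h x = (⟨h, hh⟩ : Q) * x * (⟨h, hh⟩ : Q)⁻¹ from Subtype.ext rfl, map_mul, map_mul, map_inv,
        mul_comm (π ⟨h, hh⟩), mul_inv_cancel_right]
  -- the image of M
  let r : M →* (θ.comp M.subtype).toHomUnits.range := (θ.comp M.subtype).toHomUnits.rangeRestrict
  have hrker : r.ker = Q.subgroupOf M := by
    ext m
    rw [MonoidHom.ker_rangeRestrict, MonoidHom.mem_ker, Subgroup.mem_subgroupOf, ← hθker, Units.ext_iff]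
    rfl
  let e43 : (M ⧸ N.subgroupOf M) ≃* G43 :=
    eM.trans (Classical.choice (U62U43.exists_iso43 K9' hK9)).symm
  let s : M →* G43 := e43.toMonoidHom.comp (QuotientGroup.mk' _)
  have hsker : s.ker = N.subgroupOf M := by
    ext m
    rw [MonoidHom.mem_ker]
    show e43 (QuotientGroup.mk m) = 1 ↔ _
    rw [map_eq_one_iff e43 e43.injective, QuotientGroup.eq_one_iff]
  have hrs : r.ker ≤ s.ker := by rw [hrker, hsker]; exact fun m hm => hQN hm
  let σ := r.liftOfSurjective (MonoidHom.rangeRestrict_surjective _) ⟨s, hrs⟩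
  have hσ : σ.comp r = s := MonoidHom.liftOfRightInverse_comp _ _ _ _
  have hσsurj : Function.Surjective σ := fun y => by
    obtain ⟨m, hm⟩ := (e43.surjective.comp (QuotientGroup.mk'_surjective (N.subgroupOf M))) y
    exact ⟨r m, (DFunLike.congr_fun hσ m).trans hm⟩
  have hσker : Nat.card σ.ker = 3 := by
    have hk : σ.ker = s.ker.map r := by
      ext u
      constructor
      · intro hu
        obtain ⟨m, rfl⟩ := MonoidHom.rangeRestrict_surjective _ u
        exact ⟨m, (DFunLike.congr_fun hσ m).symm.trans hu, rfl⟩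
      · rintro ⟨m, hm, rfl⟩
        exact (DFunLike.congr_fun hσ m).trans hm
    have h1 := Leech.card_eq_ker_mul_map r s.ker
    rw [inf_eq_right.2 hrs, hrker, ← hk, hsker, Nat.card_congr (Subgroup.subgroupOfEquivOfLe hNM).toEquiv, hcN,
      Nat.card_congr (Subgroup.subgroupOfEquivOfLe (hQN.trans hNM)).toEquiv, mul_comm 3] at h1
    exact (Nat.eq_of_mul_eq_mul_left Nat.card_pos h1).symm
  let emb : (θ.comp M.subtype).toHomUnits.range →* Module.End (ZMod 2) (Fin 12 → ZMod 2) :=
    (Units.coeHom _).comp (θ.comp M.subtype).toHomUnits.range.subtype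
  obtain ⟨k, Φ, ψ, hk, hψ, hrange, hact, hherm⟩ := exists_su62 hσsurj hσker emb
    (fun a b e => Subtype.ext (Units.ext e)) q d.nd (fun g v => by
      obtain ⟨u, m, rfl⟩ := g
      exact ExtraOut.ind_quad d _ v)
  refine ⟨{
    k := k
    hk := hk
    rep := fun x => Φ (π x).toAdd
    rep_mul := fun x y => by rw [map_mul, toAdd_mul, map_add]
    rep_surj := fun v => ⟨(d.surj (Multiplicative.ofAdd (Φ.symm v))).choose, by
      show Φ _ = v
      rw [(d.surj (Multiplicative.ofAdd (Φ.symm v))).choose_spec, toAdd_ofAdd, AddEquiv.apply_symm_apply]⟩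
    rep_zero := fun x => by rw [map_eq_zero_iff Φ Φ.injective, toAdd_eq_zero, hkerπ]
    herm_zero := fun x => by
      rw [hherm, bitK_zero, d.sq]
      exact ⟨fun e => by rw [e, ExtraOut.pw_zero], fun e => ExtraOut.pw_inj d.ne (e.trans (ExtraOut.pw_zero ze).symm)⟩
    act := fun h v => Φ (θ h (Φ.symm v))
    act_mul := fun g h v => by rw [map_mul, Module.End.mul_apply, AddEquiv.symm_apply_apply]
    act_one := fun v => by rw [map_one, Module.End.one_apply, AddEquiv.apply_symm_apply]
    act_add := fun g v w => by rw [map_add, map_add, map_add]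
    act_rep := fun g x => by rw [AddEquiv.symm_apply_apply, hθrep]
    act_ker := fun g => by
      rw [← hθker]
      refine ⟨fun h => LinearMap.ext fun v => Φ.injective ?_, fun h v => by rw [h, Module.End.one_apply, AddEquiv.apply_symm_apply]⟩
      simpa using h (Φ v)
    M := M
    M_normal := hMn
    M_le := hQN.trans hNM
    lin := ψ.comp r
    lin_range := by
      rw [MonoidHom.range_comp, MonoidHom.range_eq_top.2 (MonoidHom.rangeRestrict_surjective _), ← MonoidHom.range_eq_map, hrange]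
    lin_act := fun m v => by
      show Φ (θ (m : (Subgroup.centralizer ({z} : Set G))) (Φ.symm v)) = suVal (ψ (r m)) *ᵥ v
      conv_rhs => rw [← Φ.apply_symm_apply v]
      exact hact (r m) (Φ.symm v)
    ext := hext
    card_QG := by rw [Subgroup.card_map_of_injective (Subgroup.subtype_injective _), hcard]
  }, rfl⟩

end Cfsg.Agent.Fus.Fi24Red
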