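import Cfsg.Prelude.Def_TwoFusion
import Cfsg.Agent.Lib.Fus.Fi24Red.Count
import Cfsg.Agent.Lib.Fus.Fi24Red.Transport
import Cfsg.Agent.Lib.Spor.LargeFischer.Classes

/-!
If `z` is weakly closed in the extraspecial group then no other conjugate commutes with it.
-/

set_option autoImplicit false
set_option maxRecDepth 100000
set_option linter.style.haveILetI false
set_option linter.unusedSectionVars false

open Cfsg Cfsg.Agent.Classical Cfsg.Agent.Spor Cfsg.Agent.Spor.LargeFischer Matrix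
open Cfsg.Agent.Spor.USixTwo (K4)
open Cfsg.Agent.Spor.U62U43 (cover62)

namespace Cfsg.Agent.Fus.Fi24Red

variable {G : Type*} [Group G] [Finite G] {z : G} {Q : Subgroup (Subgroup.centralizer ({z} : Set G))}
  [hQn : Q.Normal]

namespace Frame

namespace Pair

variable {F : Frame z Q} (p : F.Pair)

theorem symm_symm : p.symm.symm = p := by
  obtain ⟨g, hc, hn⟩ := p
  show (⟨g⁻¹⁻¹, _, _⟩ : F.Pair) = _
  congr 1
  exact inv_inv g

theorem card_I_symm : Nat.card p.symm.I = Nat.card p.I := by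
  refine le_antisymm (Nat.card_le_card_of_injective (fun x : p.symm.I => (⟨p.g * x.1 * p.g⁻¹, ?_, ?_⟩ : p.I)) ?_)
    (Nat.card_le_card_of_injective (fun x : p.I => (⟨p.g⁻¹ * x.1 * p.g, ?_, ?_⟩ : p.symm.I)) ?_)
  · obtain ⟨q, hq, e⟩ := x.2.2
    have e' : p.g⁻¹ * q * p.g⁻¹⁻¹ = x.1 := e
    rw [← e', show p.g * (p.g⁻¹ * q * p.g⁻¹⁻¹) * p.g⁻¹ = q by group]
    exact hq
  · exact ⟨x.1, x.2.1, rfl⟩
  · exact fun a b e => Subtype.ext (mul_left_cancel (mul_right_cancel (congrArg Subtype.val e :)))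
  · obtain ⟨q, hq, e⟩ := x.2.2
    have e' : p.g * q * p.g⁻¹ = x.1 := e
    rw [← e', show p.g⁻¹ * (p.g * q * p.g⁻¹) * p.g = q by group]
    exact hq
  · exact ⟨x.1, x.2.1, show p.g⁻¹ * x.1 * p.g⁻¹⁻¹ = _ by rw [inv_inv]⟩
  · exact fun a b e => Subtype.ext (mul_left_cancel (mul_right_cancel (congrArg Subtype.val e :)))

/-- The image in the cover of the other extraspecial group. -/
def img : Subgroup SUV := ((Es Q p.g ⊓ F.M).subgroupOf F.M).map F.lin

theorem card_Es_le : Nat.card (Es Q p.g) ≤ 4 * (Nat.card p.I * Nat.card p.img) := by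
  haveI := F.M_normal
  set A := (Es Q p.g ⊓ F.M).subgroupOf F.M with hA
  have h2 : Nat.card (Es Q p.g) ≤ 4 * Nat.card ↥(Es Q p.g ⊓ F.M) := by
    have hr : F.M.relIndex (Es Q p.g) ∣ F.M.index := Subgroup.relIndex_dvd_index_of_normal F.M _
    rw [← (F.M.subgroupOf (Es Q p.g)).card_mul_index, ← Subgroup.inf_subgroupOf_right,
      Nat.card_congr (Subgroup.subgroupOfEquivOfLe (inf_le_right : F.M ⊓ Es Q p.g ≤ Es Q p.g)).toEquiv,
      Subgroup.inf_subgroupOf_right, inf_comm, mul_comm]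
    exact Nat.mul_le_mul_right _ (Nat.le_of_dvd (by norm_num) (hr.trans F.M_index_dvd))
  refine h2.trans (Nat.mul_le_mul_left _ ?_)
  rw [← Nat.card_congr (Subgroup.subgroupOfEquivOfLe (inf_le_right : Es Q p.g ⊓ F.M ≤ F.M)).toEquiv,
    Spor.Leech.card_eq_ker_mul_map F.lin A]
  refine Nat.mul_le_mul_right _ ?_
  rw [I, ← card_Es_inf (Q := Q) (g := p.g)]
  exact Nat.card_le_card_of_injective
    (fun a => (⟨(a.1 : Subgroup.centralizer ({z} : Set G)), a.2.1.1, (F.lin_eq_one a.1).1 a.2.2⟩ :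
      ↥(Es Q p.g ⊓ Q)))
    fun a b e => Subtype.ext (Subtype.ext
      (congrArg (fun t : ↥(Es Q p.g ⊓ Q) => (t : Subgroup.centralizer ({z} : Set G))) e))

theorem conj_back {x : G} (hx : x * p.s = p.s * x) : p.g⁻¹ * x * p.g * z = z * (p.g⁻¹ * x * p.g) := by
  calc p.g⁻¹ * x * p.g * z = p.g⁻¹ * (x * p.s) * p.g := by rw [s]; group
    _ = p.g⁻¹ * (p.s * x) * p.g := by rw [hx]
    _ = z * (p.g⁻¹ * x * p.g) := by rw [s]; group

theorem card_CJ_le : Nat.card p.CJ ≤ 4 * (Nat.card p.I * Nat.card p.symm.img) := by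
  rw [← p.card_I_symm]
  refine le_trans ?_ p.symm.card_Es_le
  refine Nat.card_le_card_of_injective
    (fun x : p.CJ => (⟨⟨p.g⁻¹ * x.1 * p.g,
      Subgroup.mem_centralizer_singleton_iff.2 (p.conj_back (p.mem_CJ.1 x.2).2)⟩,
      mem_Es.2 ⟨x.1, (p.mem_CJ.1 x.2).1, show p.g⁻¹ * x.1 * p.g⁻¹⁻¹ = _ by rw [inv_inv]⟩⟩ : Es Q p.symm.g))
    fun a b e => Subtype.ext (mul_left_cancel (mul_right_cancel
      (congrArg (fun t : Es Q p.symm.g => ((t : Subgroup.centralizer ({z} : Set G)) : G)) e)))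

theorem img_le : p.img ≤ cover62 F.k := by
  rintro _ ⟨a, -, rfl⟩
  exact F.lin_mem a

theorem img_two : IsPGroup 2 p.img := by
  refine IsPGroup.map ?_ _
  haveI : Fact (Nat.Prime 2) := ⟨Nat.prime_two⟩
  have hP : IsPGroup 2 (PG Q p.g) := IsPGroup.of_card (n := 13) (by
    rw [Subgroup.card_map_of_injective (MulAut.conj p.g).injective, F.card_QG])
  exact hP.of_injective
    (MonoidHom.mk' (fun b => (⟨((b.1 : Subgroup.centralizer ({z} : Set G)) : G), mem_Es.1 b.2.1⟩ : PG Q p.g))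
      fun a b => rfl) fun a b h => Subtype.ext (Subtype.ext (Subtype.ext (congrArg Subtype.val h :)))

theorem sq_cases {a : Subgroup.centralizer ({z} : Set G)} (ha : a ∈ Es Q p.g) : a * a = 1 ∨ a * a = p.sH := by
  rcases (F.ext.map_conj p.g).sq _ (mem_Es.1 ha) with e | e
  · exact Or.inl (Subtype.ext e)
  · exact Or.inr (Subtype.ext e)

theorem es_comm {a : Subgroup.centralizer ({z} : Set G)} (ha : a ∈ Es Q p.g) : a * p.sH = p.sH * a :=
  Subtype.ext ((F.ext.map_conj p.g).central _ (mem_Es.1 ha))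

/-- Moving a centralising member of `Q` gives a member of the common part. -/
theorem comm_move {a : F.M} (ha : (a : Subgroup.centralizer ({z} : Set G)) ∈ Es Q p.g) {y : Q}
    (hy : gv y * p.s = p.s * gv y) :
    ∃ w : Q, gv w ∈ p.I ∧ F.lin a • F.rep y + F.rep y = F.rep w := by
  refine ⟨qconj (a : Subgroup.centralizer ({z} : Set G)) y * y⁻¹, ⟨mem_QG.2 ⟨_, rfl⟩, ?_⟩, ?_⟩
  · show ((a : Subgroup.centralizer ({z} : Set G)) : G) * gv y * ((a : Subgroup.centralizer ({z} : Set G)) : G)⁻¹ *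
      (gv y)⁻¹ ∈ PG Q p.g
    rw [mul_assoc, mul_assoc, ← mul_assoc (gv y)]
    exact mul_mem (mem_Es.1 ha) ((F.ext.map_conj p.g).norm _ hy _ (inv_mem (mem_Es.1 ha)))
  · rw [F.rep_mul, F.rep_inv, ← F.act_rep, F.lin_act]

theorem img_cent (hM : p.sH ∈ F.M) : CentTwo F.k (F.lin ⟨p.sH, hM⟩) p.img := by
  refine ⟨p.img_le, ?_, p.img_two, ?_⟩
  · rintro _ ⟨a, ha, rfl⟩
    rw [← map_mul, ← map_mul]
    exact congrArg F.lin (Subtype.ext (p.es_comm ha.1))
  · rintro _ ⟨a, ha, rfl⟩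
    rcases p.sq_cases ha.1 with e | e
    · left; rw [← map_mul, show a * a = 1 from Subtype.ext e, map_one]
    · right; rw [← map_mul]; exact congrArg F.lin (Subtype.ext e)

theorem img_outer (hM : p.sH ∉ F.M) : Nat.card p.img ≤ 16 := by
  obtain ⟨c, -, hc⟩ := LargeFischerAbelian.exists_conj_P0 F.hk p.img p.img_le p.img_two
  rw [← Subgroup.card_map_of_injective (K := p.img) (f := (MulAut.conj c⁻¹).toMonoidHom) (MulAut.conj c⁻¹).injective]
  refine (LargeFischerSylow.elem_le F.hk (X := p.img.map (MulAut.conj c⁻¹).toMonoidHom) ?_ ?_).1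
  · rintro _ ⟨x, hx, rfl⟩
    simpa [MulAut.conj_apply] using hc x hx
  · rintro _ ⟨_, ⟨a, ha, rfl⟩, rfl⟩
    have h : a * a = 1 := Subtype.ext ((p.sq_cases ha.1).resolve_right fun e => hM (e ▸ (a * a).2))
    rw [← map_mul, ← map_mul, h, map_one, map_one]

variable (hO : F.OnlyZ)

include hO

/-- A member of the common part commutes with whatever centralises the conjugate. -/
theorem I_comm {x : G} (hx : x ∈ p.I) {y : G} (hy : y ∈ QG Q) (hys : y * p.s = p.s * y) : y * x = x * y := by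
  rcases F.ext.comm _ hx.1 _ hy with e | e
  · exact (commutatorElement_eq_one_iff_mul_comm.1 e).symm
  · refine absurd (Eq.subst (motive := fun w => w ∈ PG Q p.g) e ?_) (p.z_not_mem hO)
    rw [commutatorElement_def, show x * y * x⁻¹ * y⁻¹ = x * (y * x⁻¹ * y⁻¹) by group]
    exact mul_mem hx.2 ((F.ext.map_conj p.g).norm y hys _ (inv_mem hx.2))

theorem I_range {x : Q} (hx : gv x ∈ p.I) (hall : p.AllComm) : F.rep x ∈ p.D.range :=
  p.over_range_of_central fun y hy => p.I_comm hO hx hy.1 (hall y hy)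

theorem I_range_trivial {x : Q} (hx : gv x ∈ p.I) (hn : ¬ p.AllComm) (hr : F.rep x ∈ p.D.range) : gv x = 1 := by
  obtain ⟨j, hj, e | e⟩ := p.exists_cm hr
  · exact p.I_not_cm hO hx e
  · refine p.key hO hx.2 ?_
    rw [e, ← mul_assoc, p.s_mul_cm, mul_assoc, F.ext.central _ (inv_mem hj),
      show j * p.s * (z * j⁻¹) = j * (p.s * z) * j⁻¹ by group]
    exact (p.closed hn).trans (_root_.isConj_iff.2 ⟨j, rfl⟩)

/-- A fixed member not centralising the conjugate moves the nontrivial members of the common part. -/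
theorem I_noncomm {x : Q} (hx : gv x ∈ p.I) (hx1 : gv x ≠ 1) (hn : ¬ p.AllComm) {w : G} (hw : w ∈ p.Fx)
    (hwn : w * p.s ≠ p.s * w) : w * gv x ≠ gv x * w := fun hc => hx1 <|
  p.I_range_trivial hO hx hn <| p.over_range_of_central fun y hy => by
    by_cases hys : y * p.s = p.s * y
    · exact p.I_comm hO hx hy.1 hys
    · have h1 := p.I_comm hO hx (mul_mem hy.1 hw.1) (p.mul_noncomm hy hys hw hwn)
      refine mul_right_cancel (b := w) ?_
      rw [mul_assoc, ← hc, ← mul_assoc, h1, mul_assoc]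

theorem I_two (hn : ¬ p.AllComm) : ∃ x ∈ p.I, ∀ w ∈ p.I, w = 1 ∨ w = x := by
  by_cases h : ∀ w ∈ p.I, w = 1
  · exact ⟨1, one_mem _, fun w hw => Or.inl (h w hw)⟩
  push Not at h
  obtain ⟨x, hx, hx1⟩ := h
  refine ⟨x, hx, fun w hw => or_iff_not_imp_left.2 fun hw1 => ?_⟩
  obtain ⟨x', rfl⟩ := mem_QG.1 hx.1
  obtain ⟨w', rfl⟩ := mem_QG.1 hw.1
  obtain ⟨v, hv, hvn⟩ := p.exists_noncomm hn
  by_contra hne
  have hprod : gv (w' * x') ≠ 1 := fun e => hne (by
    have e' : gv w' * gv x' = 1 := e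
    exact mul_right_cancel (e'.trans (p.I_sq hx).symm))
  refine p.I_noncomm hO (x := w' * x') (mul_mem hw hx) hprod hn hv hvn ?_
  have c1 := ((F.ext.conj_cases hw.1 hv.1).resolve_left (p.I_noncomm hO hw hw1 hn hv hvn)).2
  have c2 := ((F.ext.conj_cases hx.1 hv.1).resolve_left (p.I_noncomm hO hx hx1 hn hv hvn)).2
  refine mul_inv_eq_iff_eq_mul.1 ?_
  show v * (gv w' * gv x') * v⁻¹ = gv w' * gv x'
  calc v * (gv w' * gv x') * v⁻¹ = (v * gv w' * v⁻¹) * (v * gv x' * v⁻¹) := by group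
    _ = gv w' * (z * gv x') * z := by rw [c1, c2]; group
    _ = gv w' * gv x' * (z * z) := by rw [← F.ext.central _ hx.1]; group
    _ = gv w' * gv x' := by rw [F.ext.zz, mul_one]

theorem card_I : Nat.card p.I ≤ 4 ∧ (¬ p.AllComm → Nat.card p.I ≤ 2) := by
  classical
  have h2 : ¬ p.AllComm → Nat.card p.I ≤ 2 := fun hn => by
    obtain ⟨x, -, h⟩ := p.I_two hO hn
    have h' := Set.ncard_le_ncard (s := (p.I : Set G)) (t := (↑({1, x} : Finset G) : Set G))
      (fun w hw => by rcases h w hw with e | e <;> simp [e]) (Finset.finite_toSet _)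
    rw [Set.ncard_coe_finset, ← Nat.card_coe_set_eq] at h'
    exact h'.trans Finset.card_le_two
  refine ⟨?_, h2⟩
  by_cases hall : p.AllComm
  · obtain ⟨x, -, y, -, h⟩ := p.I_four hO hall
    exact card_of_four (F := F) h
  · exact (h2 hall).trans (by norm_num)

theorem ker_le : Nat.card p.D.ker ≤ 8 * Nat.card p.symm.img := by
  have h1 := p.card_CJ
  have h2 := p.card_CJ_le
  obtain ⟨h4, h5⟩ := p.card_I hO
  by_cases hall : p.AllComm
  · have := h2.trans (Nat.mul_le_mul_left 4 (Nat.mul_le_mul_right _ h4))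
    have := h1.2 hall
    omega
  · have := h2.trans (Nat.mul_le_mul_left 4 (Nat.mul_le_mul_right _ (h5 hall)))
    have := h1.1
    omega

section Inner

variable (hM : p.sH ∈ F.M)

include hM

theorem inner_facts : F.lin ⟨p.sH, hM⟩ ∈ cover62 F.k ∧ F.lin ⟨p.sH, hM⟩ ≠ 1 ∧
    F.lin ⟨p.sH, hM⟩ * F.lin ⟨p.sH, hM⟩ = 1 ∧ ∀ v, F.act p.sH v = F.lin ⟨p.sH, hM⟩ • v := by
  refine ⟨F.lin_mem _, fun e => p.s_not_mem hO ?_, ?_, fun v => F.lin_act ⟨p.sH, hM⟩ v⟩
  · exact mem_QG.2 ⟨⟨_, (F.lin_eq_one _).1 e⟩, rfl⟩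
  · rw [← map_mul, show (⟨p.sH, hM⟩ : F.M) * ⟨p.sH, hM⟩ = 1 from Subtype.ext (Subtype.ext p.s_sq), map_one]

theorem ker_inner : Nat.card p.D.ker = 256 := by
  obtain ⟨h0, h1, h2, hact⟩ := p.inner_facts hO hM
  rw [← inner_card_fix F.hk h0 h1 h2]
  exact Nat.card_congr (Equiv.subtypeEquivRight fun v => by rw [p.mem_fix, hact])

end Inner

/-- The conjugate is outside the part inducing `3.U₄(3)`. -/
theorem outer : p.sH ∉ F.M := by
  intro hM
  obtain ⟨h0, h1, h2, hact⟩ := p.inner_facts hO hM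
  have hX := p.img_cent hM
  have hs : p.symm.sH ∈ F.M := by
    by_contra hs
    have h := p.ker_le hO
    rw [p.ker_inner hO hM] at h
    have := p.symm.img_outer hs
    omega
  have h32 := p.symm.ker_le hO
  rw [p.symm.ker_inner hO hs, p.symm_symm] at h32
  have hI : ∀ a ∈ p.img, ∀ v, F.lin ⟨p.sH, hM⟩ • v = v → ∀ y : Q, F.rep y = v → gv y * p.s = p.s * gv y →
      ∃ w : Q, gv w ∈ p.I ∧ a • v + v = F.rep w := by
    rintro _ ⟨a, ha, rfl⟩ v - y rfl hy
    exact p.comm_move ha.1 hy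
  have hfx : ∀ v, F.lin ⟨p.sH, hM⟩ • v = v → ∀ y : Q, F.rep y = v → gv y ∈ p.Fx := fun v hv y hy =>
    p.mem_fx.2 (by rw [hy, hact, hv])
  by_cases hall : p.AllComm
  · obtain ⟨x, hx, y, hy, h4⟩ := p.I_four hO hall
    obtain ⟨x', rfl⟩ := mem_QG.1 hx.1
    obtain ⟨y', rfl⟩ := mem_QG.1 hy.1
    obtain ⟨u₁, hu₁⟩ := p.I_range hO hx hall
    obtain ⟨u₂, hu₂⟩ := p.I_range hO hy hall
    have hlt := inner_plane_bound F.hk h0 h1 h2 hX u₁ u₂ fun a ha v hv => by
      obtain ⟨y, rfl⟩ := F.rep_surj v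
      obtain ⟨w, hw, e⟩ := hI a ha _ hv y rfl (hall _ (hfx _ hv y rfl))
      rw [e, show F.lin ⟨p.sH, hM⟩ • u₁ + u₁ = F.rep x' by rw [← hu₁, ← hact]; rfl,
        show F.lin ⟨p.sH, hM⟩ • u₂ + u₂ = F.rep y' by rw [← hu₂, ← hact]; rfl, ← F.rep_mul]
      rcases h4 _ hw with e' | e' | e' | e'
      · exact Or.inl ((F.rep_zero w).2 (Or.inl e'))
      · exact Or.inr (Or.inl (congrArg F.rep (Subtype.ext (Subtype.ext e'))))
      · exact Or.inr (Or.inr (Or.inl (congrArg F.rep (Subtype.ext (Subtype.ext e')))))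
      · exact Or.inr (Or.inr (Or.inr (congrArg F.rep (Subtype.ext (Subtype.ext e') : w = x' * y'))))
    omega
  · obtain ⟨x, hx, hI2⟩ := p.I_two hO hall
    by_cases hx1 : x = 1
    · subst hx1
      have hI1 : Nat.card p.I = 1 := Subgroup.card_eq_one.2 ((Subgroup.eq_bot_iff_forall _).2 fun w hw =>
        (hI2 w hw).elim id id)
      have hC := p.symm.card_CJ_le
      rw [p.card_I_symm, p.symm_symm, hI1] at hC
      have hC' := p.symm.card_CJ.1
      rw [p.symm.ker_inner hO hs] at hC'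
      have := inner_sq_bound F.hk h0 h1 h2 hX
      omega
    obtain ⟨x', rfl⟩ := mem_QG.1 hx.1
    have hxs : gv x' * p.s = p.s * gv x' := (F.ext.map_conj p.g).central _ hx.2
    obtain ⟨v₀, hv₀, hv₀n⟩ := p.exists_noncomm hall
    have hlt := inner_line_bound F.hk h0 h1 h2 hX (F.rep x') ?_ ?_ ?_ fun a ha v hv hT => by
      obtain ⟨y, rfl⟩ := F.rep_surj v
      have hy : gv y * p.s = p.s * gv y := by
        by_contra hyn
        exact p.I_noncomm hO hx hx1 hall (hfx _ hv y rfl) hyn ((F.comm_iff y x').2 hT)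
      obtain ⟨w, hw, e⟩ := hI a ha _ hv y rfl hy
      rw [e]
      rcases hI2 _ hw with e' | e'
      · exact Or.inl ((F.rep_zero w).2 (Or.inl e'))
      · exact Or.inr (congrArg F.rep (Subtype.ext (Subtype.ext e')))
    · omega
    · rw [← hact]
      exact p.mem_fx.1 ⟨hx.1, Or.inl (by rw [← hxs, mul_inv_cancel_right])⟩
    · exact (F.herm_zero x').2 (Subtype.ext (Subtype.ext (p.I_sq hx)))
    · intro v hv
      exact hx1 (p.I_range_trivial hO hx hall ⟨v, by rw [← hv, ← hact]; rfl⟩)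

include p in
/-- There is no commuting conjugate. -/
theorem false_of_pair : False := by
  haveI := F.M_normal
  have h128 : Nat.card p.D.ker ≤ 128 := (p.ker_le hO).trans (by
    have := p.symm.img_outer (p.symm.outer hO); omega)
  have hspace := p.card_space
  let S0 : AddSubgroup (Fin 6 → K4) :=
    { carrier := {v | v ∈ p.D.range ∧ nb v = 0}
      zero_mem' := ⟨zero_mem _, by rw [← F.rep_one]; exact (F.sq_iff 1).1 (one_mul 1)⟩
      add_mem' := fun {u w} hu hw => ⟨add_mem hu.1 hw.1, by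
        rw [nb_add, hu.2, hw.2, p.range_perp hu.1 (p.range_fix hw.1), add_zero, add_zero]⟩
      neg_mem' := fun {u} hu => by
        rw [show -u = u from neg_eq_of_add_eq_zero_left (neg_self6 u)]; exact hu }
  let f : p.D.range →+ ZMod 2 := AddMonoidHom.mk' (fun v => nb v.1) fun u w => by
    show nb (u.1 + w.1) = _
    rw [nb_add, p.range_perp u.2 (p.range_fix w.2), add_zero]
  have hS0 : Nat.card p.D.range ≤ 2 * Nat.card S0 := by
    have h := f.ker.index_mul_card
    rw [AddSubgroup.index_ker] at h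
    rw [← h]
    refine Nat.mul_le_mul ((AddSubgroup.card_le_card_addGroup _).trans (by simp)) (le_of_eq ?_)
    exact Nat.card_congr
      { toFun := fun v => ⟨v.1.1, v.1.2, v.2⟩
        invFun := fun v => ⟨⟨v.1, v.2.1⟩, v.2.2⟩
        left_inv := fun _ => rfl
        right_inv := fun _ => rfl }
  have h32 : 32 ≤ Nat.card p.D.range := by
    by_contra hlt
    have := Nat.mul_le_mul (not_le.1 hlt).le h128
    have h31 : Nat.card p.D.range * Nat.card p.D.ker ≤ 31 * 128 := Nat.mul_le_mul (by omega) h128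
    omega
  set U := F.above S0 with hU
  have hmem : ∀ x : U, gv x.1 * gv x.1 = 1 ∧ gv x.1 * p.s = p.s * gv x.1 := by
    intro x
    have hsq : gv x.1 * gv x.1 = 1 := (F.sq_iff _).2 x.2.2
    obtain ⟨j, hj, hx⟩ := p.exists_cm x.2.1
    have hcm : p.cm j * p.cm j = 1 := by
      rcases hx with e | e
      · rw [← e, hsq]
      · have e' : p.cm j = gv x.1 * z := by rw [e, mul_assoc, F.ext.zz, mul_one]
        rw [e', ← mul_assoc, mul_assoc (gv x.1) z, ← F.z_central, ← mul_assoc, hsq, one_mul, F.ext.zz]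
    have hc : p.cm j * p.s = p.s * p.cm j := by
      rw [p.s_mul_cm]
      conv_lhs => rw [← inv_eq_of_mul_eq_one_right hcm]
      simp only [cm, _root_.mul_inv_rev, inv_inv, p.s_inv, mul_assoc, p.s_sq, mul_one]
    refine ⟨hsq, ?_⟩
    rcases hx with e | e
    · rw [e, hc]
    · rw [e, mul_assoc, ← p.sz, ← mul_assoc, hc, mul_assoc]
  let φ : U →* Subgroup.centralizer ({z} : Set G) :=
    MonoidHom.mk' (fun x => ⟨p.g⁻¹ * gv x.1 * p.g, Subgroup.mem_centralizer_singleton_iff.2 (p.conj_back (hmem x).2)⟩)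
      fun x y => Subtype.ext (by
        show p.g⁻¹ * (gv x.1 * gv y.1) * p.g = p.g⁻¹ * gv x.1 * p.g * (p.g⁻¹ * gv y.1 * p.g)
        group)
  let ψ : U →* G := (Subgroup.centralizer ({z} : Set G)).subtype.comp (Q.subtype.comp U.subtype)
  have h8 : 8 ≤ Nat.card ((F.M.comap φ).map ψ) := by
    rw [Subgroup.card_map_of_injective (fun a b e => Subtype.ext (Subtype.ext (Subtype.ext e)) : Function.Injective ψ)]
    have h := (F.M.comap φ).index_mul_card
    rw [Subgroup.index_comap, F.card_above] at h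
    have hr : F.M.relIndex φ.range ≤ 4 := Nat.le_of_dvd (by norm_num)
      ((Subgroup.relIndex_dvd_index_of_normal F.M _).trans F.M_index_dvd)
    have := Nat.mul_le_mul_right (Nat.card (F.M.comap φ)) hr
    rw [h] at this
    omega
  have hno : ∀ j ∈ QG Q, p.cm j ∈ (F.M.comap φ).map ψ → p.cm j = 1 := by
    intro j _ ⟨x, hxM, hx⟩
    have hx' : gv x.1 = p.cm j := hx
    have hxa : ((φ x : Subgroup.centralizer ({z} : Set G)) : G) = p.g⁻¹ * p.cm j * p.g := by rw [← hx']; rfl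
    have hD : IsConj z (z * (φ x : G)) := (p.cm_conj j).trans (_root_.isConj_iff.2 ⟨p.g⁻¹, by
      rw [hxa, s]; group⟩)
    obtain ⟨h, hh⟩ := _root_.isConj_iff.1 hD
    by_cases hz : h * z * h⁻¹ = z
    · have h1 : (φ x : G) = 1 := mul_left_cancel ((hh.symm.trans hz).trans (mul_one z).symm)
      calc p.cm j = p.g * (φ x : G) * p.g⁻¹ := by rw [hxa]; group
        _ = 1 := by rw [h1]; group
    · exfalso
      let q : F.Pair := ⟨h, by
        rw [hh, mul_assoc z, Subgroup.mem_centralizer_singleton_iff.1 (φ x).2], hz⟩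
      refine q.outer hO ?_
      rw [show q.sH = ⟨z, Subgroup.mem_centralizer_singleton_iff.2 rfl⟩ * φ x from Subtype.ext hh]
      exact mul_mem (F.M_le F.zq_mem) hxM
  obtain ⟨x, -, y, -, h4⟩ := p.small ((F.M.comap φ).map ψ)
    (fun w ⟨x, _, hx⟩ => by rw [← hx]; exact (hmem x).1)
    (fun w hw hw1 => by
      obtain ⟨x, -, rfl⟩ := id hw
      obtain ⟨j, hj, e | e⟩ := p.exists_cm x.2.1
      · have e' : ψ x = p.cm j := e
        exact absurd (e'.trans (hno j hj (e' ▸ hw))) hw1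
      · exact ⟨j, hj, e⟩) hno
  have := card_of_four (F := F) h4
  omega

end Pair

/-- `z` is isolated. -/
theorem isolated (F : Frame z Q) (hO : F.OnlyZ) : IsIsolatedInvolution z := by
  refine ⟨orderOf_eq_prime (by rw [pow_two]; exact F.ext.zz) F.ext.ne, fun g hg => ?_⟩
  by_contra hne
  exact Pair.false_of_pair (⟨g, hg.symm, hne⟩ : F.Pair) hO

end Frame

end Cfsg.Agent.Fus.Fi24Red
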