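import Cfsg.Agent.Lib.Fus.Fi24Red.Isolated
import Cfsg.Agent.Lib.Fus.Fi24Red.Outer
import Cfsg.Agent.Lib.Fus.U62Red.Main
import Cfsg.Agent.Lib.Grp.TransvectionCentralizer

/-!
The reduction for a centraliser of shape `J.3.U₄(3)` extended by any group.
-/

set_option autoImplicit false
set_option maxRecDepth 100000
set_option linter.style.haveILetI false
set_option linter.unusedSectionVars false

open Cfsg Cfsg.Agent.Classical Cfsg.Agent.Spor Cfsg.Agent.Spor.LargeFischer Matrix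
open Cfsg.Agent.Spor.U62U43 (cover62 G43)

namespace Cfsg.Agent.Fus.Fi24Red

variable {G : Type*} [Group G] [Finite G]

/-- Either `z` is isolated modulo the odd core, or `z` has a conjugate in the extraspecial group and the index is two
or four with elementary quotient. -/
theorem reduce {z : G} (hz : orderOf z = 2) {L : Type*} [Field L] [Fintype L] (hL : Fintype.card L = 9)
    (hJ : IsExtraspecial 2 ↥(pCore 2 ↥(Subgroup.centralizer ({z} : Set G))))
    (hJc : Nat.card ↥(pCore 2 ↥(Subgroup.centralizer ({z} : Set G))) = 2 ^ 13)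
    (hCJ : Subgroup.centralizer ((pCore 2 ↥(Subgroup.centralizer ({z} : Set G))) :
      Set ↥(Subgroup.centralizer ({z} : Set G))) ≤ pCore 2 ↥(Subgroup.centralizer ({z} : Set G)))
    (M K : Subgroup ↥(Subgroup.centralizer ({z} : Set G))) [M.Normal] [K.Normal]
    (hJM : pCore 2 ↥(Subgroup.centralizer ({z} : Set G)) ≤ M) (hMK : M ≤ K)
    (hM3 : Nat.card ↥M = 3 * Nat.card ↥(pCore 2 ↥(Subgroup.centralizer ({z} : Set G))))
    (e : (↥K ⧸ M.subgroupOf K) ≃* PSU 4 L 3) :
    Subgroup.centralizer ({z} : Set G) ⊔ oddCore G = ⊤ ∨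
      ((∃ g : G, (∃ hq : g * z * g⁻¹ ∈ Subgroup.centralizer ({z} : Set G),
          (⟨g * z * g⁻¹, hq⟩ : Subgroup.centralizer ({z} : Set G)) ∈ pCore 2 ↥(Subgroup.centralizer ({z} : Set G))) ∧
          g * z * g⁻¹ ≠ z) ∧
        (K.index = 2 ∨ (K.index = 4 ∧ ∀ x : ↥(Subgroup.centralizer ({z} : Set G)) ⧸ K, x ^ 2 = 1))) := by
  haveI : (pCore 2 ↥(Subgroup.centralizer ({z} : Set G))).Normal := Grp.pCore_isNormal
  obtain ⟨F, rfl⟩ := exists_frame hz hJ hJc hCJ M K hJM hMK hM3 hL e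
  by_cases hO : F.OnlyZ
  · exact Or.inl (Fus.U62Red.sup_oddCore_of_isolated (F.isolated hO))
  right
  simp only [Frame.OnlyZ, not_forall] at hO
  obtain ⟨g, hg, hne⟩ := hO
  obtain ⟨c, hc, hce⟩ := hg
  refine ⟨⟨g, ⟨hce ▸ c.2, ?_⟩, hne⟩, ?_⟩
  · rwa [show (⟨g * z * g⁻¹, _⟩ : ↥(Subgroup.centralizer ({z} : Set G))) = c from Subtype.ext hce.symm]
  obtain ⟨h24, hexp⟩ := F.index_two_four ⟨g, ⟨c, hc, hce⟩, hne⟩
  refine h24.imp id fun h4 => ⟨h4, fun x => ?_⟩
  obtain ⟨h, rfl⟩ := QuotientGroup.mk_surjective x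
  rw [← QuotientGroup.mk_pow, QuotientGroup.eq_one_iff, pow_two]
  exact hexp h4 h

/-- The same part inducing the simple group, over a field in the lowest universe. -/
theorem exists_equiv_small {L : Type*} [Field L] [Fintype L] (hL : Fintype.card L = 9) :
    ∃ (K₀ : Type) (_ : Field K₀) (_ : Fintype K₀), Fintype.card K₀ = 9 ∧ Nonempty (PSU 4 L 3 ≃* PSU 4 K₀ 3) := by
  haveI : Fact (Nat.Prime 3) := ⟨Nat.prime_three⟩
  letI : Fintype (GaloisField 3 2) := Fintype.ofFinite _
  have h9 : Fintype.card (GaloisField 3 2) = 9 := by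
    rw [← Nat.card_eq_fintype_card, GaloisField.card 3 2 two_ne_zero]; rfl
  exact ⟨GaloisField 3 2, inferInstance, inferInstance, h9,
    ⟨(Classical.choice (U62U43.exists_iso43 L hL)).symm.trans (Classical.choice (U62U43.exists_iso43 _ h9))⟩⟩

/-- The generalised Fitting subgroup of the centraliser. -/
theorem gfitting_eq {z : G}
    (hCJ : Subgroup.centralizer ((pCore 2 ↥(Subgroup.centralizer ({z} : Set G))) :
      Set ↥(Subgroup.centralizer ({z} : Set G))) ≤ pCore 2 ↥(Subgroup.centralizer ({z} : Set G))) :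
    generalizedFittingSubgroup ↥(Subgroup.centralizer ({z} : Set G)) =
      pCore 2 ↥(Subgroup.centralizer ({z} : Set G)) := by
  haveI : Fact (Nat.Prime 2) := ⟨Nat.prime_two⟩
  exact Grp.gfitting_eq_pCore_of_selfCentralizing Grp.pCore_isNormal (Transfer.pCore_isPGroup 2 _) hCJ

end Cfsg.Agent.Fus.Fi24Red
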