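import Cfsg.Agent.Lib.Fus.Fi24Red.Bound

/-!
A conjugate of `z` commuting with it while `z` is weakly closed in the extraspecial group: the common part of the two
extraspecial groups has order at most four, at most two when the conjugate times `z` is a conjugate as well.
-/

set_option autoImplicit false
set_option maxRecDepth 100000
set_option linter.style.haveILetI false
set_option linter.unusedSectionVars false

open Cfsg Cfsg.Agent.Classical Cfsg.Agent.Spor Cfsg.Agent.Spor.LargeFischer Matrix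
open Cfsg.Agent.Spor.USixTwo (K4)

namespace Cfsg.Agent.Fus.Fi24Red

variable {G : Type*} [Group G] [Finite G] {z : G} {Q : Subgroup (Subgroup.centralizer ({z} : Set G))}
  [hQn : Q.Normal]

namespace Frame

variable (F : Frame z Q)

/-- `z` is weakly closed in the extraspecial group. -/
def OnlyZ (_F : Frame z Q) : Prop := ∀ g : G, g * z * g⁻¹ ∈ QG Q → g * z * g⁻¹ = z

/-- A further conjugate commuting with `z`. -/
structure Pair (_F : Frame z Q) where
  g : G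
  comm : g * z * g⁻¹ * z = z * (g * z * g⁻¹)
  ne : g * z * g⁻¹ ≠ z

namespace Pair

variable {F} (p : F.Pair)

/-- The conjugate. -/
def s : G := p.g * z * p.g⁻¹

theorem s_mem : p.s ∈ Subgroup.centralizer ({z} : Set G) := Subgroup.mem_centralizer_singleton_iff.2 p.comm

/-- The conjugate in the centraliser. -/
def sH : Subgroup.centralizer ({z} : Set G) := ⟨p.s, p.s_mem⟩

theorem sz : p.s * z = z * p.s := p.comm

theorem s_sq : p.s * p.s = 1 := by
  show p.g * z * p.g⁻¹ * (p.g * z * p.g⁻¹) = 1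
  calc _ = p.g * (z * z) * p.g⁻¹ := by group
    _ = 1 := by rw [F.ext.zz]; group

theorem s_inv : p.s⁻¹ = p.s := inv_eq_of_mul_eq_one_right p.s_sq

theorem s_ne_one : p.s ≠ 1 := fun e => F.ext.ne (conj_eq_one_iff.1 e)

theorem isConj_s : IsConj z p.s := _root_.isConj_iff.2 ⟨p.g, rfl⟩

/-- The pair seen from the other side. -/
def symm : F.Pair where
  g := p.g⁻¹
  comm := by
    have h := congrArg (fun a => p.g⁻¹ * a * p.g) p.comm
    simp only [inv_inv]
    calc p.g⁻¹ * z * p.g * z = p.g⁻¹ * (z * (p.g * z * p.g⁻¹)) * p.g := by group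
      _ = p.g⁻¹ * (p.g * z * p.g⁻¹ * z) * p.g := h.symm
      _ = z * (p.g⁻¹ * z * p.g) := by group
  ne := fun e => p.ne (by
    rw [inv_inv] at e
    calc p.g * z * p.g⁻¹ = p.g * (p.g⁻¹ * z * p.g) * p.g⁻¹ := by rw [e]
      _ = z := by group)

theorem conj_symm_s : p.g * p.symm.s * p.g⁻¹ = z := by
  show p.g * (p.g⁻¹ * z * p.g⁻¹⁻¹) * p.g⁻¹ = z
  group

variable (hO : F.OnlyZ)

include hO

theorem s_not_mem : p.s ∉ QG Q := fun h => p.ne (hO p.g h)

theorem z_not_mem : z ∉ PG Q p.g := by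
  rintro ⟨q, hq, e⟩
  have e' : p.symm.s = q := by
    have e1 : p.g * q * p.g⁻¹ = z := e
    calc p.g⁻¹ * z * p.g⁻¹⁻¹ = p.g⁻¹ * (p.g * q * p.g⁻¹) * p.g⁻¹⁻¹ := by rw [e1]
      _ = q := by group
  exact p.symm.ne (hO _ (show p.symm.s ∈ QG Q from e' ▸ hq))

/-- No nontrivial member of both groups times the conjugate is a conjugate. -/
theorem key {x : G} (hx : x ∈ PG Q p.g) (hD : IsConj z (p.s * x)) : x = 1 := by
  obtain ⟨h, hh⟩ := _root_.isConj_iff.1 hD
  obtain ⟨q, hq, e⟩ := hx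
  have e' : p.g * q * p.g⁻¹ = x := e
  have h1 := hO (p.g⁻¹ * h) (by
    have : p.g⁻¹ * h * z * (p.g⁻¹ * h)⁻¹ = z * q := by
      calc _ = p.g⁻¹ * (h * z * h⁻¹) * p.g := by group
        _ = p.g⁻¹ * (p.g * z * p.g⁻¹ * (p.g * q * p.g⁻¹)) * p.g := by rw [hh, e']; rfl
        _ = z * q := by group
    rw [this]; exact mul_mem F.ext.mem hq)
  have h2 : p.s * x = p.s := by
    calc p.s * x = p.g * (p.g⁻¹ * h * z * (p.g⁻¹ * h)⁻¹) * p.g⁻¹ := by rw [← hh]; group
      _ = p.s := by rw [h1]; rfl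
  exact mul_eq_left.1 h2

omit hO

/-- The members of `Q` fixed by the conjugate modulo the centre. -/
def Fx : Set G := {y | y ∈ QG Q ∧ (p.s * y * p.s⁻¹ = y ∨ p.s * y * p.s⁻¹ = y * z)}

/-- The members of `Q` centralising the conjugate. -/
def CJ : Subgroup G := QG Q ⊓ Subgroup.centralizer ({p.s} : Set G)

theorem mem_CJ {x : G} : x ∈ p.CJ ↔ x ∈ QG Q ∧ x * p.s = p.s * x := by
  rw [CJ, Subgroup.mem_inf, Subgroup.mem_centralizer_singleton_iff]

/-- The common part. -/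
def I : Subgroup G := QG Q ⊓ PG Q p.g

theorem I_le : p.I ≤ p.CJ := fun _ hx =>
  p.mem_CJ.2 ⟨hx.1, (F.ext.map_conj p.g).central _ hx.2⟩

theorem I_sq {x : G} (hx : x ∈ p.I) : x * x = 1 := by
  rcases F.ext.sq x hx.1 with e | e
  · exact e
  rcases (F.ext.map_conj p.g).sq x hx.2 with e' | e'
  · exact e'
  · exact absurd (e'.symm.trans e) p.ne

theorem s_conj_mem {x : G} (hx : x ∈ QG Q) : p.s * x * p.s⁻¹ ∈ QG Q := F.ext.norm _ p.sz _ hx

theorem conj_of_fx {y : G} (hy : y ∈ p.Fx) : y * p.s * y⁻¹ = p.s ∨ y * p.s * y⁻¹ = p.s * z := by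
  rcases hy.2 with e | e
  · left; rw [mul_inv_eq_iff_eq_mul, ← mul_inv_eq_iff_eq_mul.1 e]
  · right
    rw [mul_inv_eq_iff_eq_mul] at e
    rw [mul_inv_eq_iff_eq_mul]
    calc y * p.s = y * p.s * (z * z) := by rw [F.ext.zz, mul_one]
      _ = y * (z * p.s) * z := by rw [← p.sz]; group
      _ = p.s * y * z := by rw [e]; group
      _ = p.s * z * y := by rw [mul_assoc, F.ext.central y hy.1, ← mul_assoc]

theorem noncomm_eq {y : G} (hy : y ∈ p.Fx) (hn : y * p.s ≠ p.s * y) : y * p.s * y⁻¹ = p.s * z :=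
  (p.conj_of_fx hy).resolve_left fun e => hn (mul_inv_eq_iff_eq_mul.1 e)

/-- All fixed members commute with the conjugate. -/
def AllComm : Prop := ∀ y ∈ p.Fx, y * p.s = p.s * y

theorem exists_noncomm (h : ¬ p.AllComm) : ∃ v ∈ p.Fx, v * p.s ≠ p.s * v := by
  simp only [AllComm, not_forall] at h
  obtain ⟨v, hv, hn⟩ := h
  exact ⟨v, hv, hn⟩

theorem closed (h : ¬ p.AllComm) : IsConj z (p.s * z) := by
  obtain ⟨v, hv, hn⟩ := p.exists_noncomm h
  rw [← p.noncomm_eq hv hn]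
  exact p.isConj_s.trans (_root_.isConj_iff.2 ⟨v, rfl⟩)

theorem mul_noncomm {y v : G} (hy : y ∈ p.Fx) (hyn : y * p.s ≠ p.s * y) (hv : v ∈ p.Fx)
    (hvn : v * p.s ≠ p.s * v) : y * v * p.s = p.s * (y * v) := by
  refine mul_inv_eq_iff_eq_mul.1 ?_
  calc y * v * p.s * (y * v)⁻¹ = y * (v * p.s * v⁻¹) * y⁻¹ := by group
    _ = y * p.s * (z * y⁻¹) := by rw [p.noncomm_eq hv hvn]; group
    _ = y * p.s * y⁻¹ * z := by rw [← F.ext.central _ (inv_mem hy.1)]; group
    _ = p.s := by rw [p.noncomm_eq hy hyn, mul_assoc, F.ext.zz, mul_one]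

/-- The commutator of the conjugate with a member of `Q`. -/
def cm (j : G) : G := p.s * j * p.s * j⁻¹

theorem cm_mem {j : G} (hj : j ∈ QG Q) : p.cm j ∈ QG Q := by
  have h := mul_mem (p.s_conj_mem hj) (inv_mem hj)
  rwa [p.s_inv] at h

theorem s_mul_cm (j : G) : p.s * p.cm j = j * p.s * j⁻¹ := by
  rw [cm]
  simp only [← mul_assoc, p.s_sq, one_mul]

theorem cm_conj (j : G) : IsConj z (p.s * p.cm j) := by
  rw [s_mul_cm]
  exact p.isConj_s.trans (_root_.isConj_iff.2 ⟨j, rfl⟩)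

theorem cm_mul (j k : G) : p.cm (j * k) = p.cm j * (j * p.cm k * j⁻¹) := by
  show p.s * (j * k) * p.s * (j * k)⁻¹ = p.s * j * p.s * j⁻¹ * (j * (p.s * k * p.s * k⁻¹) * j⁻¹)
  calc p.s * (j * k) * p.s * (j * k)⁻¹ = p.s * j * (p.s * p.s) * (k * p.s * k⁻¹ * j⁻¹) := by
        rw [p.s_sq]; group
    _ = _ := by group

/-- A subgroup whose nontrivial members are commutators times `z` and never commutators has order at most four. -/
theorem small (S : Subgroup G) (hsq : ∀ x ∈ S, x * x = 1) (hS : ∀ x ∈ S, x ≠ 1 → ∃ j ∈ QG Q, x = p.cm j * z)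
    (hno : ∀ j ∈ QG Q, p.cm j ∈ S → p.cm j = 1) :
    ∃ x ∈ S, ∃ y ∈ S, ∀ w ∈ S, w = 1 ∨ w = x ∨ w = y ∨ w = x * y := by
  have pair : ∀ {a b j k : G}, a ∈ S → b ∈ S → j ∈ QG Q → k ∈ QG Q → a = p.cm j * z → b = p.cm k * z →
      a * b ≠ 1 → j * p.cm k * j⁻¹ = p.cm k * z ∧ a * b = p.cm (j * k) * z := by
    intro a b j k ha hb hj hk ea eb hne
    have hzc : z * p.cm k = p.cm k * z := (F.ext.central _ (p.cm_mem hk)).symm
    have hab : a * b = p.cm j * p.cm k := by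
      calc a * b = p.cm j * (z * p.cm k) * z := by rw [ea, eb]; group
        _ = p.cm j * p.cm k * (z * z) := by rw [hzc]; group
        _ = _ := by rw [F.ext.zz, mul_one]
    rcases F.ext.conj_eq (p.cm_mem hk) hj with e | e
    · refine absurd (hno (j * k) (mul_mem hj hk) ?_) fun e' => hne ?_
      · rw [p.cm_mul, e, ← hab]; exact mul_mem ha hb
      · rw [hab, ← e', p.cm_mul, e]
    · refine ⟨e, ?_⟩
      rw [p.cm_mul, e, hab, mul_assoc, mul_assoc, F.ext.zz, mul_one]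
  by_cases h1 : ∀ w ∈ S, w = 1
  · exact ⟨1, one_mem _, 1, one_mem _, fun w hw => Or.inl (h1 w hw)⟩
  push Not at h1
  obtain ⟨x, hx, hx1⟩ := h1
  by_cases h2 : ∀ w ∈ S, w = 1 ∨ w = x
  · exact ⟨x, hx, 1, one_mem _, fun w hw => (h2 w hw).imp_right Or.inl⟩
  push Not at h2
  obtain ⟨y, hy, hy1, hyx⟩ := h2
  refine ⟨x, hx, y, hy, fun w hw => ?_⟩
  by_contra hcon
  simp only [not_or] at hcon
  obtain ⟨hw1, hwx, hwy, hwxy⟩ := hcon
  obtain ⟨j, hj, ej⟩ := hS x hx hx1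
  obtain ⟨k, hk, ek⟩ := hS y hy hy1
  obtain ⟨l, hl, el⟩ := hS w hw hw1
  have hinv : ∀ a ∈ S, ∀ b, a * b = 1 → b = a := fun a ha b h => mul_left_cancel (h.trans (hsq a ha).symm)
  have hyw : y * w ≠ 1 := fun e => hwy (hinv y hy w e)
  have hxy : x * y ≠ 1 := fun e => hyx (hinv x hx y e)
  have hxw : x * w ≠ 1 := fun e => hwx (hinv x hx w e)
  obtain ⟨-, eyw⟩ := pair hy hw hk hl ek el hyw
  have hxyw : x * (y * w) ≠ 1 := fun e => hwxy (by
    calc w = y⁻¹ * (y * w) := by group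
      _ = y⁻¹ * x⁻¹ := by rw [hinv x hx _ e, hinv x hx _ (mul_inv_cancel x)]
      _ = (x * y)⁻¹ := (mul_inv_rev x y).symm
      _ = x * y := hinv _ (mul_mem hx hy) _ (mul_inv_cancel _))
  obtain ⟨exy, -⟩ := pair hx hy hj hk ej ek hxy
  obtain ⟨exw, -⟩ := pair hx hw hj hl ej el hxw
  obtain ⟨ekl, -⟩ := pair hy hw hk hl ek el hyw
  obtain ⟨exyw, -⟩ := pair hx (mul_mem hy hw) hj (mul_mem hk hl) ej eyw hxyw
  have hcl : p.cm (k * l) = p.cm k * p.cm l * z := by rw [p.cm_mul, ekl, mul_assoc]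
  refine F.ext.ne ((mul_eq_left (a := p.cm (k * l))).1 ?_)
  calc p.cm (k * l) * z = j * p.cm (k * l) * j⁻¹ := exyw.symm
    _ = (j * p.cm k * j⁻¹) * (j * p.cm l * j⁻¹) * (j * z * j⁻¹) := by rw [hcl]; group
    _ = p.cm k * z * (p.cm l * z) * z := by
      rw [exy, exw, show j * z * j⁻¹ = z by rw [F.ext.central j hj, mul_inv_cancel_right]]
    _ = p.cm k * p.cm l * z * (z * z) := by
      rw [show p.cm k * z * (p.cm l * z) = p.cm k * (z * p.cm l) * z by group, ← F.ext.central _ (p.cm_mem hl)]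
      group
    _ = p.cm (k * l) := by rw [F.ext.zz, mul_one, hcl]

end Pair

end Frame

end Cfsg.Agent.Fus.Fi24Red
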