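import Cfsg.Agent.Lib.Fus.Fi24Red.Checks

/-! Tables for a transvection at a point of the short orbit, and their checks. -/

set_option autoImplicit false
set_option maxRecDepth 100000
set_option Elab.async false

namespace Cfsg.Agent.Fus.Fi24Red

open Cfsg.Agent.Spor.LargeFischer

/-- The centre of the transvection. -/
def tvU : ℕ → ℕ
  | 0 => 28
  | 1 => 20
  | _ => 17

/-- The transvection as a list. -/
def tvL : ℕ → List ℕ
  | 0 => [1, 2, 32, 48, 12, 4, 64, 128, 256, 512, 1024, 2048]
  | 1 => [1, 2, 16, 32, 4, 8, 64, 128, 256, 512, 1024, 2048]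
  | _ => [16, 32, 4, 8, 1, 2, 64, 128, 256, 512, 1024, 2048]

/-- A basis of its fixed hyperplane. -/
def tvB : ℕ → List ℕ
  | 0 => [1, 28, 64, 256, 1024]
  | 1 => [1, 20, 64, 256, 1024]
  | _ => [4, 17, 64, 256, 1024]

/-- A vector outside. -/
def tvV : ℕ → ℕ
  | 0 => 4
  | 1 => 4
  | _ => 1

/-- The binary basis of the hyperplane. -/
def tvB2 (k : ℕ) : List ℕ := ((tvB k).map fun b => [b, omC b]).flatten

/-- A dual system. -/
def tvD : ℕ → List ℕ
  | 0 => [2, 1, 4, 12, 128, 64, 512, 256, 2048, 1024]
  | 1 => [2, 1, 8, 4, 128, 64, 512, 256, 2048, 1024]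
  | _ => [8, 4, 2, 1, 128, 64, 512, 256, 2048, 1024]

/-- The line of the centre. -/
def tvLine (k : ℕ) : List ℕ := [0, tvU k, omC (tvU k), omC (tvU k) ^^^ tvU k]

/-- The transvection commutes with the scalar, keeps labels and moves everything along the line. -/
def chkTv (k : ℕ) : Bool :=
  (List.range 4096).all fun c => Nat.beq (app (tvL k) (app (tvL k) c)) c &&
    Nat.beq (app (tvL k) (omC c)) (omC (app (tvL k) c)) &&
    Nat.beq ((dat k).labC (app (tvL k) c)) ((dat k).labC c) &&
    (tvLine k).contains (app (tvL k) c ^^^ c)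

/-- The hyperplane. -/
def chkHyp (k : ℕ) : Bool :=
  (tvL k).all (fun x => Nat.blt x 4096) && Nat.beq (tvL k).length 12 &&
    (tvB k).all (fun b => Nat.blt b 4096 && Nat.beq (app (tvL k) b) b) &&
    Nat.blt (tvV k) 4096 && !Nat.beq (app (tvL k) (tvV k)) (tvV k) &&
    !(([0, (tvB k).getD 0 0, omC ((tvB k).getD 0 0), omC ((tvB k).getD 0 0) ^^^ (tvB k).getD 0 0]).contains
      ((tvB k).getD 1 0)) && !Nat.beq ((tvB k).getD 0 0) 0 &&
    Nat.beq ((List.range 4096).countP fun c => Nat.beq (app (tvL k) c) c) 1024 &&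
    (List.range 12).all (fun j => (((tvB k) ++ [tvV k]).foldl spanStep [0]).contains (2 ^ j)) &&
    (tvLine k).all (fun c => !Nat.beq ((dat k).labC c) 2 && Nat.beq (app (tvL k) c) c)

/-- Membership in the hyperplane, and its orthogonal. -/
def chkSpanW (k : ℕ) : Bool :=
  (List.range 4096).all fun c => !Nat.beq (app (tvL k) c) c || ((tvB k).foldl spanStep [0]).contains c

/-- The orthogonal of the hyperplane, and the dual system. -/
def chkPerp (k : ℕ) : Bool :=
  (List.range 4096).all (fun c => (tvB2 k).any (fun b => trC c b) || (tvLine k).contains c) &&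
    (List.range 10).all (fun i => Nat.blt ((tvD k).getD i 0) 4096 &&
      (List.range 10).all fun j => trC ((tvD k).getD i 0) ((tvB2 k).getD j 0) == Nat.beq i j)

/-- Only two images of the vector outside. -/
def chkImg (k : ℕ) : Bool :=
  (List.range 4096).all fun y => Nat.beq y (tvV k) || Nat.beq y (app (tvL k) (tvV k)) ||
    !Nat.beq (hermC y y) (hermC (tvV k) (tvV k)) ||
    (tvB k).any (fun b => !Nat.beq (hermC y b) (hermC (tvV k) b))

/-- A quarter of the span check. -/
def chkSpanWPart (k i : ℕ) : Bool :=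
  (List.range' (1024 * i) 1024).all fun c =>
    !Nat.beq (app (tvL k) c) c || ((tvB k).foldl spanStep [0]).contains c

theorem chkSpanW_of_parts (k : ℕ) (h0 : chkSpanWPart k 0 = true) (h1 : chkSpanWPart k 1 = true)
    (h2 : chkSpanWPart k 2 = true) (h3 : chkSpanWPart k 3 = true) : chkSpanW k = true := by
  simp only [chkSpanWPart, List.all_eq_true, List.mem_range'_1] at h0 h1 h2 h3
  simp only [chkSpanW, List.all_eq_true, List.mem_range]
  intro c hc
  rcases Nat.lt_or_ge c 1024 with h | h
  · exact h0 c ⟨by omega, by omega⟩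
  rcases Nat.lt_or_ge c 2048 with h' | h'
  · exact h1 c ⟨by omega, by omega⟩
  rcases Nat.lt_or_ge c 3072 with h'' | h''
  · exact h2 c ⟨by omega, by omega⟩
  · exact h3 c ⟨by omega, by omega⟩

theorem tv_ok0 : chkTv 0 = true := by decide +kernel

theorem tv_ok1 : chkTv 1 = true := by decide +kernel

theorem tv_ok2 : chkTv 2 = true := by decide +kernel

theorem tv_ok : ∀ k < 3, chkTv k = true
  | 0, _ => tv_ok0
  | 1, _ => tv_ok1
  | 2, _ => tv_ok2
  | _ + 3, h => absurd h (by omega)

theorem hyp_ok0 : chkHyp 0 = true := by decide +kernel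

theorem hyp_ok1 : chkHyp 1 = true := by decide +kernel

theorem hyp_ok2 : chkHyp 2 = true := by decide +kernel

theorem hyp_ok : ∀ k < 3, chkHyp k = true
  | 0, _ => hyp_ok0
  | 1, _ => hyp_ok1
  | 2, _ => hyp_ok2
  | _ + 3, h => absurd h (by omega)

theorem perp_ok0 : chkPerp 0 = true := by decide +kernel

theorem perp_ok1 : chkPerp 1 = true := by decide +kernel

theorem perp_ok2 : chkPerp 2 = true := by decide +kernel

theorem perp_ok : ∀ k < 3, chkPerp k = true
  | 0, _ => perp_ok0
  | 1, _ => perp_ok1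
  | 2, _ => perp_ok2
  | _ + 3, h => absurd h (by omega)

theorem img_ok0 : chkImg 0 = true := by decide +kernel

theorem img_ok1 : chkImg 1 = true := by decide +kernel

theorem img_ok2 : chkImg 2 = true := by decide +kernel

theorem img_ok : ∀ k < 3, chkImg k = true
  | 0, _ => img_ok0
  | 1, _ => img_ok1
  | 2, _ => img_ok2
  | _ + 3, h => absurd h (by omega)

theorem spanW_part0_0 : chkSpanWPart 0 0 = true := by decide +kernel

theorem spanW_part0_1 : chkSpanWPart 0 1 = true := by decide +kernel

theorem spanW_part0_2 : chkSpanWPart 0 2 = true := by decide +kernel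

theorem spanW_part0_3 : chkSpanWPart 0 3 = true := by decide +kernel

theorem spanW_part1_0 : chkSpanWPart 1 0 = true := by decide +kernel

theorem spanW_part1_1 : chkSpanWPart 1 1 = true := by decide +kernel

theorem spanW_part1_2 : chkSpanWPart 1 2 = true := by decide +kernel

theorem spanW_part1_3 : chkSpanWPart 1 3 = true := by decide +kernel

theorem spanW_part2_0 : chkSpanWPart 2 0 = true := by decide +kernel

theorem spanW_part2_1 : chkSpanWPart 2 1 = true := by decide +kernel

theorem spanW_part2_2 : chkSpanWPart 2 2 = true := by decide +kernel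

theorem spanW_part2_3 : chkSpanWPart 2 3 = true := by decide +kernel

theorem spanW_ok : ∀ k < 3, chkSpanW k = true
  | 0, _ => chkSpanW_of_parts 0 spanW_part0_0 spanW_part0_1 spanW_part0_2 spanW_part0_3
  | 1, _ => chkSpanW_of_parts 1 spanW_part1_0 spanW_part1_1 spanW_part1_2 spanW_part1_3
  | 2, _ => chkSpanW_of_parts 2 spanW_part2_0 spanW_part2_1 spanW_part2_2 spanW_part2_3
  | _ + 3, h => absurd h (by omega)

end Cfsg.Agent.Fus.Fi24Red
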